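import Cfsg.Agent.SB.Low.Model_m3
import Cfsg.Agent.N2.G2.WhyC
import Cfsg.Agent.N2.Tool
import Cfsg.Agent.SB.Low.TabD1_m3
import Cfsg.Agent.N2.Ex.K.Tor_m3
import Cfsg.Agent.H605.MX.Orb
import Cfsg.Agent.H320.Kill.Pair
import Cfsg.Agent.ClassicalGeometry.PSL2Basic
import Cfsg.Agent.FastGrp
import Cfsg.Agent.Prune
set_option linter.all false

section
prune_inst 0x7ffcbdf9afbcbddfffff7ffffedbdffc1990dfffe6dff94b7fe963ff3b9f23a10fc5fbaf0df0d2fc9ff6e2b410b87853fb7eefffea6bdc7ffffd5ff45ffbee1fb5e6bd8851d794240fbc0fffe3f07f8e7f3ffffffffffffffffffffffffffffffffdffffffff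

-- part: N2/G2/WhyT
section
set_option linter.all false
open scoped Cfsg.Agent.FastGrp

/-!
# N2 (S3519), `³D₄(q)`, box [Why]: two tables for the triality coset (helper75)
-/

set_option autoImplicit false

namespace Cfsg.Agent.N2.G2.Wy

open Cfsg Cfsg.Lie CoxeterSystem
open Cfsg.Agent.ChevalleyStructure.CoxeterGeom Cfsg.Agent.ChevalleyStructure.CoxeterGeomTypes Cfsg.Agent.Tits.Roots
  Cfsg.Agent.Nodes.Reps Cfsg.Agent.Nodes.Coroot Cfsg.Agent.Nodes.RGDTwD4 Cfsg.Agent.SB.Low Cfsg.Agent.SB.Low.Tab.D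

variable {W : Type} [Group W] [Finite W] (cs : CoxeterSystem coxeterD4 W) {θ : (Fin 4 → ℤ) →+ (Fin 4 → ℤ)} {w : W}
  (hθ : ∀ x, θ x = rep cs hp.isCartan w (H720.TwFr.permE H720.TwFr.rho4 x))

include hθ

theorem vt_th (x : Fin 4 → ℤ) : vt (θ x) = ap (tm (mat cs w)) (vt x) := by
  rw [hθ, ap_mat, g_eq]
  simp only [ap, tm, id4, r18, r14, r13, r12]
  refine Prod.ext ?_ (Prod.ext ?_ (Prod.ext ?_ ?_)) <;> simp only <;> ring

theorem rt_th : RT cs hp.isCartan θ := by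
  obtain rfl : θ = tw cs hp.isCartan w (H720.TwFr.permE H720.TwFr.rho4).toAddMonoidHom := AddMonoidHom.ext hθ
  exact rt_tw cs w

/-- a stable `A₂` -/
theorem tabA {a b : Fin 4 → ℤ} (ha : IsRoot cs hp.isCartan a) (hb : IsRoot cs hp.isCartan b)
    (h1 : cpr cs hp.isCartan b a = -1) (h2 : (θ a = a ∧ θ b = b) ∨ (θ a = b ∧ θ b = a)) {Λ : AddSubgroup (Fin 4 → ℤ)}
    (aΛ : a ∈ Λ) (bΛ : b ∈ Λ) (h3 : ∀ x, θ x + x ∈ Λ) (x : Fin 4 → ℤ) : (3 : ℤ) • x ∈ Λ := by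
  have h4 := List.all_eq_true.1 (List.all_eq_true.1 (List.all_eq_true.1 chk_A _ (mat_mem cs w)) _
    ((root_iff cs a).1 ha)) _ ((root_iff cs b).1 hb)
  simp only [← vt_th cs hθ, ← cpr_eq cs _ ha, h1, Bool.or_eq_true, Bool.and_eq_true, beq_iff_eq, vt_inj.eq_iff, h2,
    Bool.not_eq_true', ← Bool.not_eq_true, bne_self_eq_false, not_true, false_or, Bool.false_eq_true] at h4
  refine mem_of_sr (Λ := Λ.comap ((3 : ℤ) • AddMonoidHom.id _)) (fun i => ?_) x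
  have h5 : vt (sr i) ∈ [r18, r14, r13, r12] := by
    revert i
    decide +kernel
  have h6 := List.all_eq_true.1 h4 _ h5
  simp only [← vt_th cs hθ, ← vt_smul, ← vt_add, List.any_eq_true, beq_iff_eq, vt_inj.eq_iff, List.mem_cons,
    List.not_mem_nil, or_false] at h6
  obtain ⟨e, he, m, -, n, -, h7⟩ := h6
  have h8 := sub_mem (h7 ▸ add_mem (Λ.zsmul_mem aΛ m) (Λ.zsmul_mem bΛ n)) (h3 (θ (sr i)))
  show (3 : ℤ) • sr i ∈ Λ
  rcases he with rfl | rfl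
  · refine Λ.zsmul_mem ?_ 3
    convert h8 using 1
    module
  · convert add_mem h8 (Λ.zsmul_mem (h3 (sr i)) 2) using 1
    module

/-- a cyclic `A₁³` -/
theorem tabB {c : Fin 4 → ℤ} (hc : IsRoot cs hp.isCartan c) (h : cpr cs hp.isCartan (θ c) c = 0)
    (h1 : IsRoot cs hp.isCartan (θ c)) (h2 : IsRoot cs hp.isCartan (θ (θ c))) :
    ∃ a, IsRoot cs hp.isCartan a ∧ (θ a = a ∨ θ a = -a) ∧ cpr cs hp.isCartan c a = 0 ∧ cpr cs hp.isCartan (θ c) a = 0 ∧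
      cpr cs hp.isCartan (θ (θ c)) a = 0 ∧ ∀ b, IsRoot cs hp.isCartan b →
      (cpr cs hp.isCartan b a = 0 → b = c ∨ b = -c ∨ b = θ c ∨ b = -θ c ∨ b = θ (θ c) ∨ b = -θ (θ c)) ∧
      (cpr cs hp.isCartan b a ≠ 0 → b ≠ a → b ≠ -a → (cpr cs hp.isCartan b c = 1 ∨ cpr cs hp.isCartan b c = -1) ∧
        (cpr cs hp.isCartan b (θ c) = 1 ∨ cpr cs hp.isCartan b (θ c) = -1) ∧
        (cpr cs hp.isCartan b (θ (θ c)) = 1 ∨ cpr cs hp.isCartan b (θ (θ c)) = -1)) := by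
  have h3 := List.all_eq_true.1 (List.all_eq_true.1 chk_B _ (mat_mem cs w)) _ ((root_iff cs c).1 hc)
  rw [← vt_th cs hθ, ← cpr_eq cs _ hc, h, bne_self_eq_false, Bool.false_or, List.any_eq_true] at h3
  obtain ⟨a, ha, h3⟩ := h3
  rw [← vt_tv a] at ha h3
  generalize tv a = a at ha h3
  rw [← root_iff cs] at ha
  rw [Bool.and_eq_true, List.all_eq_true] at h3
  have h4 := fun b (hb : IsRoot cs hp.isCartan b) => h3.2 _ ((root_iff cs b).1 hb)
  have h5 := h3.1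
  simp only [← vt_th cs hθ, ← vt_neg, ← cpr_eq cs _ ha, ← cpr_eq cs _ hc, ← cpr_eq cs _ h1, ← cpr_eq cs _ h2,
    Bool.or_eq_true, Bool.and_eq_true, beq_iff_eq, bne_iff_ne, vt_inj.eq_iff, List.contains_iff_mem, List.mem_cons,
    List.not_mem_nil, or_false] at h4 h5
  refine ⟨a, ha, h5, (h4 a ha).2.1.1, (h4 a ha).2.1.2, (h4 a ha).2.2, fun b hb =>
    ⟨fun e => (h4 b hb).1.1.resolve_left fun e' => e' e, fun e1 e2 e3 => ?_⟩⟩
  exact and_assoc.1 ((h4 b hb).1.2.resolve_left fun e => e.elim e1 fun e => e.elim e2 e3)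

end Cfsg.Agent.N2.G2.Wy
end

-- part: N2/Ex/Cb/Cen
section
set_option linter.all false
open scoped Cfsg.Agent.FastGrp

/-!
# N2, exceptional groups: centralisers of semisimple elements of any order (helper37)

* `cen_le` : `|C_{Y^σ}(y)| ≤ nmk * q ^ (dd y - l) * (q + 1) ^ l` for `y` of order prime to `p`;
* `cn_le` : the same for the finite group of an `MData`.
-/

set_option autoImplicit false
set_option linter.unusedSectionVars false

namespace Cfsg.Agent.N2.Ex.Cb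

open CoxeterSystem Cfsg Cfsg.Lie Cfsg.Lie.ChevalleyDatum
open Cfsg.Agent.ChevalleyStructure Cfsg.Agent.ChevalleyStructure.Elts Cfsg.Agent.ChevalleyStructure.CoxeterGeom
  Cfsg.Agent.ChevalleyStructure.CoxeterGeomTypes
open Cfsg.Agent.Tits.Roots Cfsg.Agent.Tits.Core Cfsg.Agent.Nodes Cfsg.Agent.Nodes.Reps Cfsg.Agent.Nodes.BNOf
  Cfsg.Agent.Nodes.RGDChev Cfsg.Agent.Nodes.Bruhat
open Cfsg.Agent.KFacts.RgdField Cfsg.Agent.KFacts.RgdChevCoord
open Cfsg.Agent.BpExc Cfsg.Agent.BpExc.TorCent Cfsg.Agent.BpExc.TorChev Cfsg.Agent.BpExc.Tow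
  Cfsg.Agent.BpExc.TowChev Cfsg.Agent.BpExc.Fr Cfsg.Agent.BpExc.LangFr
open Cfsg.Agent.H469.Exc Cfsg.Agent.H795.SetCent Cfsg.Agent.H129.TorusChar Cfsg.Agent.DS.Ex
open Cfsg.Agent.H931.KC Cfsg.Agent.DS.Nt Cfsg.Agent.H316.U6 Cfsg.Agent.SB.Exc

variable {D : ChevalleyDatum} {l : ℕ} {M : CoxeterMatrix (Fin l)} {hp : IsType D l M} {p : ℕ} [Fact p.Prime]
  {e : ℕ} {σ : MulAut (YY D p)} {g : (Fin l → ℤ) ≃+ (Fin l → ℤ)}

theorem cast_ne {n : ℕ} (hn : n.Coprime p) : (n : KK p) ≠ 0 := by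
  rw [Ne, CharP.cast_eq_zero_iff (KK p) p]
  exact (Nat.Prime.coprime_iff_not_dvd Fact.out).1 hn.symm

theorem ne_zero_of_coprime {n : ℕ} (hn : n.Coprime p) : n ≠ 0 := by
  rintro rfl
  exact (Fact.out : p.Prime).ne_one (Nat.coprime_zero_left p |>.1 hn)

variable (hp) in
include hp in
/-- elements of order prime to `p` are toral -/
theorem exists_tor {y : YY D p} {n : ℕ} (hn : n.Coprime p) (hy : y ^ n = 1) :
    ∃ x : YY D p, x * y * x⁻¹ ∈ TT D (KK p) :=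
  H944.TorAnyChev.exists_conj_mem_TT hp p (TorAll.hAlg_of_isAlgebraic p _) (ne_zero_of_coprime hn) hn hy

/-- **The index of the connected centralizer.** -/
theorem card_cen {n : ℕ} (hn : n.Coprime p) {t : YY D p} (ht : t ∈ TT D (KK p)) (htr : t ^ n = 1)
    (H : Subgroup (YY D p)) : Nat.card ↥(H ⊓ Subgroup.centralizer {t}) ≤ nmk D l * Nat.card ↥(H ⊓ DZ hp p {t}) := by
  have := finW hp
  have hZ : ({t} : Set (YY D p)) ⊆ TT D (KK p) := Set.singleton_subset_iff.2 ht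
  have h1 := card_PP_le hp (cast_ne hn) ht htr
  rw [card_mk] at h1
  have hle : H ⊓ DZ hp p {t} ≤ H ⊓ Subgroup.centralizer {t} :=
    inf_le_inf_left _ fun c hc => Subgroup.mem_centralizer_singleton_iff.2 (DZ_comm hZ hc rfl)
  have hform : ∀ c : ↥(H ⊓ Subgroup.centralizer {t}), ∃ w : ↥(PP M.toCoxeterSystem hp.isCartan (ch hp) t),
      ∃ m ∈ Mz hp p {t}, ∃ k, RP hp p w k ∧ (∀ s ∈ ({t} : Set (YY D p)), k * s = s * k) ∧ (c : YY D p) = m * k := fun c => by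
    obtain ⟨m, hm, w, hw, k, h2, h3, h4⟩ := form hp (Set.finite_singleton t) hZ (c := (c : YY D p)) fun s hs => by
      rw [hs]
      exact Subgroup.mem_centralizer_singleton_iff.1 c.2.2
    exact ⟨⟨w, mem_PP_of_PPZ hw⟩, m, hm, k, h2, h3, h4⟩
  choose f hf using hform
  have h2 := Card.card_le_mul ((H ⊓ DZ hp p {t}).subgroupOf (H ⊓ Subgroup.centralizer {t})) f fun a b hab => by
    obtain ⟨m, hm, k, h3, h4, h5⟩ := hf a
    obtain ⟨m', hm', k', h3', -, h5'⟩ := hf b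
    refine ⟨(a⁻¹ * b).2.1, ?_⟩
    rw [← hab] at h3'
    have h6 := h3.inv.mul h3'
    rw [inv_mul_cancel] at h6
    have h7 := h3.inv.conj_Mz hZ (fun s hs => by
      rw [inv_mul_eq_iff_eq_mul, ← mul_assoc, h4 s hs, mul_inv_cancel_right]) (mul_mem (inv_mem hm) hm')
    have e : ((a⁻¹ * b : ↥(H ⊓ Subgroup.centralizer {t})) : YY D p) = k⁻¹ * (m⁻¹ * m') * k⁻¹⁻¹ * (k⁻¹ * k') := by
      rw [Subgroup.coe_mul, Subgroup.coe_inv, h5, h5']
      group
    show ((a⁻¹ * b : ↥(H ⊓ Subgroup.centralizer {t})) : YY D p) ∈ DZ hp p {t}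
    rw [e]
    exact mul_mem (Mz_le_DZ h7) (T_le_DZ h6.mem_T)
  rw [Nat.card_congr (Subgroup.subgroupOfEquivOfLe hle).toEquiv] at h2
  exact h2.trans (Nat.mul_le_mul_right _ h1)

variable (hp) in
/-- **The centraliser of a semisimple element.** -/
theorem cen_le' (he : 0 < e) (hσ : IsFrob p e σ)
    (Φ : Fr M.toCoxeterSystem hp.isCartan (TT D (KK p)) (XX D l (KK p)) σ g) {y : YY D p} (hy : σ y = y) {n : ℕ}
    (hn : n.Coprime p) (hyn : y ^ n = 1) {k : ℕ} (hk : dd p y ≤ l + k) :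
    Nat.card ↥(DL.fix σ ⊓ Subgroup.centralizer {y}) ≤ nmk D l * ((p ^ e) ^ k * (p ^ e + 1) ^ l) := by
  obtain ⟨x, hx⟩ := exists_tor hp hn hyn
  obtain ⟨σ', w, b1, b2, b3, b4⟩ := CI.exists_red (hp := hp) he hσ Φ hy hx
  rw [b4]
  refine (card_cen (hp := hp) hn hx (by rw [conj_pow, hyn, mul_one, mul_inv_cancel]) _).trans
    (Nat.mul_le_mul_left _ (CI.card_DZ he b1 b2 hx b3 ?_))
  rwa [dd_conj]

variable (hp) in
theorem cen_le (he : 0 < e) (hσ : IsFrob p e σ)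
    (Φ : Fr M.toCoxeterSystem hp.isCartan (TT D (KK p)) (XX D l (KK p)) σ g) {y : YY D p} (hy : σ y = y)
    (hn : (orderOf y).Coprime p) :
    Nat.card ↥(DL.fix σ ⊓ Subgroup.centralizer {y}) ≤ nmk D l * ((p ^ e) ^ (dd p y - l) * (p ^ e + 1) ^ l) :=
  cen_le' hp he hσ Φ hy hn (pow_orderOf_eq_one y) (by omega)

/-- the centraliser in a finite group embedded in `Y ^ σ` -/
theorem cn_le_card {K : Type*} [Group K] (ι : K →* YY D p) (hι : Function.Injective ι) (hf : ∀ a, σ (ι a) = ι a)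
    (hfin : Finite ↥(fixedSubgroup σ)) (a : K) :
    cn a ≤ Nat.card ↥(DL.fix σ ⊓ Subgroup.centralizer {ι a}) := by
  have : Finite ↥(DL.fix σ ⊓ Subgroup.centralizer {ι a}) :=
    Finite.of_injective (fun z : ↥(DL.fix σ ⊓ Subgroup.centralizer {ι a}) => (⟨z.1, z.2.1⟩ : ↥(fixedSubgroup σ)))
      fun z z' h => Subtype.ext (congrArg (fun w : ↥(fixedSubgroup σ) => (w : YY D p)) h)
  refine Nat.card_le_card_of_injective (fun z => ⟨ι z.1, hf _, Subgroup.mem_centralizer_singleton_iff.2 ?_⟩) ?_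
  · rw [← map_mul, ← map_mul, Subgroup.mem_centralizer_singleton_iff.1 z.2]
  · exact fun z z' h => Subtype.ext (hι (congrArg Subtype.val h))

/-- **The centraliser of a `p'`-element of the finite group.** -/
theorem cn_le' {q : ℕ} {K : Type*} [Group K] (m : MData hp p q K) {a : K} (ha : (orderOf a).Coprime p) {k : ℕ}
    (hk : dd p (m.ι a) ≤ l + k) : cn a ≤ nmk D l * (q ^ k * (q + 1) ^ l) := by
  have h1 := cen_le' hp m.he m.frob m.fr (m.fix a) ha (by rw [← map_pow, pow_orderOf_eq_one, map_one]) hk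
  rw [m.hq] at h1
  exact (cn_le_card m.ι m.inj m.fix m.fin a).trans h1

end Cfsg.Agent.N2.Ex.Cb
end

-- part: N2/Ex/Cb/Ref
section
prune_inst 0x30004100040000000000001242003c62b2000002006b08000080000005c40d0080010720408030000014084400300048100000500010000000000800411c04a18002400002000004240001801002000000000000000000000000000000000000200000000
set_option linter.all false
open scoped Cfsg.Agent.FastGrp

/-!
# N2, exceptional groups: refined bounds for centralisers (helper37)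

* `card_G_le`, `card_cen_le` : `|G^F| ≤ |G^F|_p ^ 2 * max |T_w^F|` (any datum);
* `tord q u` : the order of the torus of type `u`, `card_TT`;
* `WP hp Z` : the Weyl group of the roots trivial on `Z`; `card_DZ_ref`, `cen_ref`;
* `conn` : the centraliser of an element of order prime to the order of the fundamental group is connected.
-/

set_option autoImplicit false
set_option linter.unusedSectionVars false

namespace Cfsg.Agent.N2.Ex.Cb

section Dat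

open Cfsg.Agent.DL Cfsg.Agent.DL.Asm Cfsg.Agent.DL.Uni Cfsg.Agent.Nodes.Reps Cfsg.Agent.SB.Exc

variable {p : ℕ} [Fact p.Prime] {k : Type} [Field k] [CharP k p] {Y : Type} [Group Y] {N : Type} [Fintype N]
  [DecidableEq N] {ρ : Y →* GL N k} {F : MulAut Y} {G : Subgroup Y} [IsAlgClosed k]

theorem card_G_le (D : Datum p ρ F G) {B : ℕ} (hB : ∀ w : D.W, (D.Wm w * D.Mx - 1).det.natAbs ≤ B) :
    Nat.card (GF F G) ≤ pc p (GF F G) ^ 2 * B := by
  have S := sys_of Mk.mackey subBox D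
  obtain ⟨St, hSt⟩ := St.stD D
  have h1 := S.count
  rw [finsum_mem_eq_finite_toFinset_sum _ S.finA] at h1
  rw [← h1]
  refine (Finset.sum_le_card_nsmul _ _ B fun T hT => ?_).trans ?_
  · obtain ⟨y, hy, rfl, h2⟩ := S.mem_tori.1 hT
    obtain ⟨w, hw⟩ := (D.stable_iff hy).1 h2
    rw [D.card_cj_TF hy hw]
    exact hB w
  · rw [smul_eq_mul]
    exact Nat.mul_le_mul_right _ (hSt.card_tori S).le

theorem Wm_sub (D : Datum p ρ F G) {Z : Set Y} (hZ : Z ⊆ D.T) (hF : ∀ a ∈ D.Sz Z, D.g a ∈ D.Sz Z) {C : Subgroup Y}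
    (hC : D.cen Z = C) (v : (D.sub hZ hF hC).W) : (D.sub hZ hF hC).Wm v = D.Wm (D.subW Z v) := by
  obtain ⟨m, hm, -⟩ := (D.sub hZ hF hC).exists_rp v
  exact mon_inj (k := k) fun c => D.τ_inj (((D.sub hZ hF hC).conj_τ hm c).symm.trans (D.conj_τ (D.rp_of_sub hZ hF hC hm) c))

theorem card_cen_le (D : Datum p ρ F G) {Z : Set Y} (hZ : Z ⊆ D.T) (hF : ∀ a ∈ D.Sz Z, D.g a ∈ D.Sz Z) {B : ℕ}
    (hB : ∀ w ∈ Subgroup.closure (D.rf '' D.Sz Z), (D.Wm w * D.Mx - 1).det.natAbs ≤ B) :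
    Nat.card (GF F (D.cen Z)) ≤ pc p (GF F (D.cen Z)) ^ 2 * B :=
  card_G_le (D.sub hZ hF rfl) fun v => by
    rw [Wm_sub]
    exact hB _ (D.range_subW (Z := Z) ▸ ⟨v, rfl⟩)

theorem pc_cen_le {n : ℕ} (h : Card.Fq p ρ F n) (D : Datum p ρ F G) {Z : Set Y} (hZ : Z ⊆ D.T)
    (hF : ∀ a ∈ D.Sz Z, D.g a ∈ D.Sz Z) : pc p (GF F (D.cen Z)) ^ 2 ≤ (p ^ n) ^ (D.Sz Z).ncard := by
  have h2 : {a | (D.sub hZ hF rfl).Rt a}.ncard = (D.Sz Z).ncard := by
    rw [← D.io_roots]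
    exact (Set.ncard_image_of_injective _ (D.io_injective _)).symm
  refine (Nat.pow_le_pow_left (h.pc_le (D.sub hZ hF rfl)) 2).trans ?_
  rw [← pow_mul, mul_comm, ← h2]
  exact Nat.pow_le_pow_right (pow_pos (Fact.out : p.Prime).pos _) (Card.two_mul_pos _)

end Dat

open CoxeterSystem Cfsg Cfsg.Lie Cfsg.Lie.ChevalleyDatum
open Cfsg.Agent.ChevalleyStructure Cfsg.Agent.ChevalleyStructure.Elts Cfsg.Agent.ChevalleyStructure.CoxeterGeom
  Cfsg.Agent.ChevalleyStructure.CoxeterGeomTypes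
open Cfsg.Agent.Tits.Roots Cfsg.Agent.Tits.Core Cfsg.Agent.Nodes Cfsg.Agent.Nodes.Reps Cfsg.Agent.Nodes.BNOf
  Cfsg.Agent.Nodes.RGDChev Cfsg.Agent.Nodes.Bruhat
open Cfsg.Agent.KFacts.RgdField Cfsg.Agent.KFacts.RgdChevCoord
open Cfsg.Agent.BpExc Cfsg.Agent.BpExc.TorCent Cfsg.Agent.BpExc.TorChev Cfsg.Agent.BpExc.Tow
  Cfsg.Agent.BpExc.TowChev Cfsg.Agent.BpExc.Fr Cfsg.Agent.BpExc.LangFr
open Cfsg.Agent.H469.Exc Cfsg.Agent.H795.SetCent Cfsg.Agent.H129.TorusChar Cfsg.Agent.DS.Ex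
open Cfsg.Agent.H931.KC Cfsg.Agent.DS.Nt Cfsg.Agent.H316.U6 Cfsg.Agent.SB.Exc Cfsg.Agent.Nodes.Coroot

variable {D : ChevalleyDatum} {l : ℕ} {M : CoxeterMatrix (Fin l)} {hp : IsType D l M} {p : ℕ} [Fact p.Prime]
  {e : ℕ} {σ : MulAut (YY D p)} {g : (Fin l → ℤ) ≃+ (Fin l → ℤ)}

/-- the matrix whose rows are the images of the simple roots -/
def mat {l : ℕ} (u : (Fin l → ℤ) → Fin l → ℤ) : Matrix (Fin l) (Fin l) ℤ := Matrix.of fun i => u (sr i)

theorem vecMul_mat (u : (Fin l → ℤ) →+ (Fin l → ℤ)) (x : Fin l → ℤ) : Matrix.vecMul x (mat u) = u x := by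
  funext j
  exact (eq_psi ((Pi.evalAddMonoidHom (fun _ => ℤ) j).comp u) x).symm

theorem mat_mul (u : (Fin l → ℤ) → Fin l → ℤ) (v : (Fin l → ℤ) →+ (Fin l → ℤ)) : mat u * mat v = mat (v ∘ u) := by
  ext i j
  exact congrFun (vecMul_mat v (u (sr i))) j

theorem mat_id : mat (id : (Fin l → ℤ) → Fin l → ℤ) = 1 := by
  ext i j
  rw [Matrix.one_apply]
  split_ifs with h
  · rw [h]
    exact sr_self j
  · exact sr_ne (Ne.symm h)

/-- the order of the torus of type `u` -/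
def tord {l : ℕ} (q : ℕ) (u : (Fin l → ℤ) → Fin l → ℤ) : ℕ :=
  ((q : ℤ) • (1 : Matrix (Fin l) (Fin l) ℤ) - mat u).det.natAbs

theorem tord_eq (q : ℕ) (u : (Fin l → ℤ) ≃+ (Fin l → ℤ)) : ((q : ℤ) • mat u.symm - 1).det.natAbs = tord q u := by
  have h1 : mat u * mat u.symm = 1 := by
    rw [← mat_id]
    exact (mat_mul u u.symm.toAddMonoidHom).trans (congrArg mat (funext u.symm_apply_apply))
  have h2 : (mat u.symm).det.natAbs = 1 := by
    have h3 := congrArg (fun A => A.det.natAbs) h1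
    simp only [Matrix.det_mul, Int.natAbs_mul, Matrix.det_one, Int.natAbs_one] at h3
    exact Nat.eq_one_of_mul_eq_one_left h3
  rw [tord, ← mul_one (Int.natAbs (Matrix.det (_ - mat u))), ← h2, ← Int.natAbs_mul, ← Matrix.det_mul, sub_mul,
    smul_mul_assoc, one_mul, h1]

variable (hp p) in
/-- the Weyl group of the roots trivial on `Z` -/
noncomputable def WP (Z : Set (YY D p)) : Subgroup M.Group :=
  Subgroup.closure {s | ∃ a ∈ Ps hp p Z, ∀ x,
    rep M.toCoxeterSystem hp.isCartan s x = x - cpr M.toCoxeterSystem hp.isCartan x a • a}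

theorem sub_mem_of_WP {Z : Set (YY D p)} {w : M.Group} (hw : w ∈ WP hp p Z) (x : Fin l → ℤ) :
    rep M.toCoxeterSystem hp.isCartan w x - x ∈ AddSubgroup.closure (Ps hp p Z) := by
  induction hw using Subgroup.closure_induction generalizing x with
  | mem s hs =>
    obtain ⟨a, ha, h⟩ := hs
    rw [h, sub_sub_cancel_left]
    exact neg_mem (zsmul_mem (AddSubgroup.subset_closure ha) _)
  | one =>
    rw [map_one, Module.End.one_apply, sub_self]
    exact zero_mem _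
  | mul v w _ _ hv hw =>
    rw [rep_mul_apply, ← sub_add_sub_cancel _ (rep M.toCoxeterSystem hp.isCartan w x)]
    exact add_mem (hv _) (hw _)
  | inv v _ hv =>
    have h := neg_mem (hv (rep M.toCoxeterSystem hp.isCartan v⁻¹ x))
    rwa [rep_apply_inv, neg_sub] at h

theorem det_chevFr (he : 0 < e) (hσ : IsFrob p e σ)
    (Φ : Fr M.toCoxeterSystem hp.isCartan (TT D (KK p)) (XX D l (KK p)) σ g) (w : M.Group) :
    ((DL.Ex.chevFr hp (locFin p) he hσ Φ).Wm w * (DL.Ex.chevFr hp (locFin p) he hσ Φ).Mx - 1).det.natAbs =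
      tord (p ^ e) fun x => rep M.toCoxeterSystem hp.isCartan w (g x) := by
  have h1 : (DL.Ex.chevFr hp (locFin p) he hσ Φ).Mx = ((p ^ e : ℕ) : ℤ) • mat g.symm := by
    rw [Nat.cast_pow]
    rfl
  have h2 : (DL.Ex.chevFr hp (locFin p) he hσ Φ).Wm w = mat (rep M.toCoxeterSystem hp.isCartan w⁻¹) := by
    ext i j
    have h3 := congrFun ((DL.Ex.chevFr hp (locFin p) he hσ Φ).wt_act' w (sr i)) j
    refine Eq.trans ?_ h3.symm
    exact (congrFun (Matrix.single_one_vecMul i _) j).symm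
  have h3 : mat (rep M.toCoxeterSystem hp.isCartan w⁻¹) * (((p ^ e : ℕ) : ℤ) • mat g.symm) =
      ((p ^ e : ℕ) : ℤ) • mat (g.trans (repAut M.toCoxeterSystem hp.isCartan w)).symm := by
    rw [mul_smul_comm]
    exact congrArg _ (mat_mul _ g.symm.toAddMonoidHom)
  refine Eq.trans ?_ (tord_eq (p ^ e) (g.trans (repAut M.toCoxeterSystem hp.isCartan w)))
  rw [← h3, ← h1, ← h2]
  rfl

/-- **The order of the finite torus.** -/
theorem card_TT (he : 0 < e) (hσ : IsFrob p e σ)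
    (Φ : Fr M.toCoxeterSystem hp.isCartan (TT D (KK p)) (XX D l (KK p)) σ g) :
    Nat.card ↥(DL.fix σ ⊓ TT D (KK p)) = tord (p ^ e) g := by
  have h1 := (DL.Ex.chevFr hp (locFin p) he hσ Φ).card_TF
  have h2 := det_chevFr (hp := hp) he hσ Φ 1
  have h3 := congrArg (fun A => (A * (DL.Ex.chevFr hp (locFin p) he hσ Φ).Mx - 1).det.natAbs)
    (DL.Ex.chevFr hp (locFin p) he hσ Φ).Wm_one
  simp only [one_mul] at h3
  rw [DL.GF, top_inf_eq, inf_comm] at h1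
  refine h1.trans (h3.symm.trans (h2.trans (congrArg _ (funext fun x => ?_))))
  rw [map_one, Module.End.one_apply]

theorem Sz_eq (he : 0 < e) (hσ : IsFrob p e σ)
    (Φ : Fr M.toCoxeterSystem hp.isCartan (TT D (KK p)) (XX D l (KK p)) σ g) {Z : Set (YY D p)}
    (hZ : Z ⊆ TT D (KK p)) : (DL.Ex.chevFr hp (locFin p) he hσ Φ).Sz Z = Ps hp p Z := by
  ext a
  refine Iff.trans ?_ (mem_Ps (hp := hp) (a := a) hZ).symm
  refine and_congr_right fun _ => forall_congr' fun z => forall_congr' fun hz => ?_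
  obtain ⟨c, rfl⟩ := (DL.Ex.mem_TT_iff hp z).1 (hZ hz)
  rw [DL.Ex.cX_tau hp c a]
  exact Eq.congr_left ((DL.Ex.chevFr hp (locFin p) he hσ Φ).χ_τ a c)

/-- **The order of the finite connected centraliser, refined.** -/
theorem card_DZ_ref (he : 0 < e) (hσ : IsFrob p e σ)
    (Φ : Fr M.toCoxeterSystem hp.isCartan (TT D (KK p)) (XX D l (KK p)) σ g) {Z : Set (YY D p)}
    (hZ : Z ⊆ TT D (KK p)) (hF : ∀ a ∈ Ps hp p Z, g a ∈ Ps hp p Z) {B : ℕ}
    (hB : ∀ w ∈ WP hp p Z, tord (p ^ e) (fun x => rep M.toCoxeterSystem hp.isCartan w (g x)) ≤ B) :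
    Nat.card ↥(DL.fix σ ⊓ DZ hp p Z) ≤ (p ^ e) ^ (Ps hp p Z).ncard * B := by
  let D₀ := DL.Ex.chevFr hp (locFin p) he hσ Φ
  have hS : D₀.Sz Z = Ps hp p Z := Sz_eq he hσ Φ hZ
  have hC : D₀.cen Z = DZ hp p Z := by
    have h0 : D₀.cen Z = D₀.T ⊔ D₀.S (Ps hp p Z) := congrArg (fun A => D₀.T ⊔ D₀.S A) hS
    exact h0.trans (sup_comm _ _)
  have hF' : ∀ a ∈ D₀.Sz Z, D₀.g a ∈ D₀.Sz Z := by
    rw [hS]
    exact hF
  have h1 := card_cen_le D₀ hZ hF' (B := B) fun w hw => by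
    refine (det_chevFr (hp := hp) he hσ Φ w).trans_le (hB w (Subgroup.closure_mono ?_ hw))
    rintro _ ⟨a, ha, rfl⟩
    exact ⟨a, hS ▸ ha, D₀.act_rf ha.1⟩
  have h2 := pc_cen_le (CI.fq he hσ) D₀ hZ hF'
  have h3 : (D₀.Sz Z).ncard = (Ps hp p Z).ncard := congrArg Set.ncard hS
  rw [h3] at h2
  replace h1 := h1.trans (Nat.mul_le_mul_right _ h2)
  rwa [hC, DL.GF, inf_comm] at h1

theorem g_mem_Ps (hσ : IsFrob p e σ) (Φ : Fr M.toCoxeterSystem hp.isCartan (TT D (KK p)) (XX D l (KK p)) σ g)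
    {Z : Set (YY D p)} (hZ : Z ⊆ TT D (KK p)) (h : ∀ z ∈ Z, σ z = z) : ∀ a ∈ Ps hp p Z, g a ∈ Ps hp p Z := fun a ha => by
  rw [mem_Ps hZ] at ha ⊢
  refine ⟨(Φ.root a).2 ha.1, fun t ht => ?_⟩
  rw [← h t ht, cX_sigma hp M.toCoxeterSystem hσ Φ (hZ ht), ha.2 t ht, one_pow]

/-- **The centraliser of an element of the torus, refined.** -/
theorem cen_ref (he : 0 < e) (hσ : IsFrob p e σ)
    (Φ : Fr M.toCoxeterSystem hp.isCartan (TT D (KK p)) (XX D l (KK p)) σ g) {t : YY D p} (ht : t ∈ TT D (KK p))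
    (hσt : σ t = t) {n : ℕ} (hn : n.Coprime p) (htn : t ^ n = 1) {B : ℕ}
    (hB : ∀ w ∈ WP hp p {t}, tord (p ^ e) (fun x => rep M.toCoxeterSystem hp.isCartan w (g x)) ≤ B) :
    Nat.card ↥(DL.fix σ ⊓ Subgroup.centralizer {t}) ≤ nmk D l * ((p ^ e) ^ (Ps hp p {t}).ncard * B) :=
  (card_cen (hp := hp) hn ht htn _).trans (Nat.mul_le_mul_left _ (card_DZ_ref he hσ Φ (Set.singleton_subset_iff.2 ht)
    (g_mem_Ps hσ Φ (Set.singleton_subset_iff.2 ht) fun z hz => by rw [hz, hσt]) hB))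

/-! ### connectedness -/

/-- the minuscule coweights are detected modulo `d` -/
def CZ (D : ChevalleyDatum) (l d : ℕ) : Prop :=
  ∀ j, hr D l j = 1 → ∃ z : Fin l → ℤ, (∀ i, (d : ℤ) ∣ pairing (cartanOf D l) i z) ∧ ¬ (d : ℤ) ∣ z j

theorem cz_of {D : ChevalleyDatum} {l d : ℕ} (L : List (Fin l → ℤ))
    (h : ∀ j, hr D l j = 1 → ∃ z ∈ L, (∀ i, (d : ℤ) ∣ pairing (cartanOf D l) i z) ∧ ¬ (d : ℤ) ∣ z j) : CZ D l d :=
  fun j hj => let ⟨z, _, h1⟩ := h j hj; ⟨z, h1⟩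

theorem cz_F4 : CZ chevF4 4 1 := cz_of [] (by decide +kernel)
theorem cz_E8 : CZ chevE8 8 1 := cz_of [] (by decide +kernel)
theorem cz_E6 : CZ chevE6 6 3 := cz_of [![1, 0, -1, 0, 1, -1]] (by decide +kernel)
theorem cz_E7 : CZ chevE7 7 2 := cz_of [![0, 1, 0, 0, 1, 0, 1]] (by decide +kernel)
theorem cz_typ (hp : IsType D l M) (hD : Typ D) : CZ D l (dM l) := by
  have hl := typ_l hp
  rcases hD with rfl | rfl | rfl | rfl
  · obtain rfl := hl.1 rfl
    exact cz_F4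
  · obtain rfl := hl.2.1 rfl
    exact cz_E6
  · obtain rfl := hl.2.2.1 rfl
    exact cz_E7
  · obtain rfl := hl.2.2.2 rfl
    exact cz_E8

theorem dvd_rep_sub {d : ℤ} {z : Fin l → ℤ} (hz : ∀ i, d ∣ pairing (cartanOf D l) i z) (w : M.Group) (j : Fin l) :
    d ∣ rep M.toCoxeterSystem hp.isCartan w z j - z j := by
  induction w using M.toCoxeterSystem.simple_induction_right generalizing j with
  | one => rw [map_one, Module.End.one_apply, sub_self]; exact dvd_zero _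
  | mul_simple_right w i ih =>
    obtain ⟨m, hm⟩ := hz i
    rw [rep_mul_apply, rep_simple_eq, map_sub, map_zsmul, Pi.sub_apply, Pi.smul_apply, smul_eq_mul, hm, sub_right_comm,
      mul_assoc]
    exact dvd_sub (ih j) (Dvd.intro _ rfl)

theorem pp_eq_one [Finite M.Group] {d n : ℕ} (H : CZ D l d) (hn : n.Coprime p) (hd : d.Coprime n) {t : YY D p}
    (ht : t ∈ TT D (KK p)) (htn : t ^ n = 1) {y : M.Group} (hy : y ∈ PP M.toCoxeterSystem hp.isCartan (ch hp) t) :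
    y = 1 := by
  by_contra h1
  have : NeZero (n : KK p) := ⟨cast_ne hn⟩
  obtain ⟨ζ, hζ⟩ := HasEnoughRootsOfUnity.exists_primitiveRoot (KK p) n
  obtain ⟨w, v, c, c0, π, K, -, -, h2, h3, h4⟩ :=
    pp_diag (Nat.pos_of_ne_zero (ne_zero_of_coprime hn)) hζ ht htn hy h1
  obtain ⟨j, hj⟩ : ∃ j, π (some j) = none := by
    rcases h : π.symm none with _ | j
    · exact absurd ((Equiv.symm_apply_eq π).1 h).symm h4
    · exact ⟨j, ((Equiv.symm_apply_eq π).1 h).symm⟩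
  have h5 : hr D l j = 1 := by
    have h6 := mk_perm hp h2 (some j)
    rw [hj] at h6
    exact h6.symm
  obtain ⟨z, h6, h7⟩ := H j h5
  have h8 : ∀ i, bb c (rep M.toCoxeterSystem hp.isCartan v (sr i)) - c i = if i = j then -(n : ℤ) else 0 := fun i => by
    have h9 := h2 (some i)
    have h10 := h3 (some i)
    change rep M.toCoxeterSystem hp.isCartan v (sr i) = _ at h9
    change _ = c i at h10
    rw [h9]
    split_ifs with h
    · rw [h, hj] at h10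
      change c0 = _ at h10
      rw [h, hj, al, map_neg, bb_hr K, h10]
      ring
    · rcases h' : π (some i) with _ | m
      · exact absurd (Option.some_injective _ (π.injective (h'.trans hj.symm))) h
      · rw [h'] at h10
        change c m = _ at h10
        rw [al, ← h10]
        exact sub_eq_zero.2 (psi_sr _ m)
  have h9 : bb c (rep M.toCoxeterSystem hp.isCartan v z) - bb c z = -(n * z j) := by
    have h10 := eq_psi ((bb c).comp (rep M.toCoxeterSystem hp.isCartan v).toAddMonoidHom) z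
    change bb c (rep M.toCoxeterSystem hp.isCartan v z) = ∑ i, z i * bb c (rep M.toCoxeterSystem hp.isCartan v (sr i)) at h10
    have h11 : bb c z = ∑ i, z i * (c i : ℤ) := rfl
    rw [h10, h11, ← Finset.sum_sub_distrib]
    simp only [← mul_sub, h8, mul_ite, mul_zero, Finset.sum_ite_eq', Finset.mem_univ, if_true]
    ring
  have h10 : (d : ℤ) ∣ n * z j := by
    rw [← dvd_neg, ← h9, ← map_sub]
    show _ ∣ ∑ i : Fin l, _
    exact Finset.dvd_sum fun i _ => Dvd.dvd.mul_right (dvd_rep_sub (hp := hp) h6 v i) _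
  exact h7 ((Nat.isCoprime_iff_coprime.2 hd).dvd_of_dvd_mul_left h10)

/-- **Connected centralisers.** -/
theorem conn {d n : ℕ} (H : CZ D l d) (hn : n.Coprime p) (hd : d.Coprime n) {t : YY D p} (ht : t ∈ TT D (KK p))
    (htn : t ^ n = 1) : Subgroup.centralizer {t} = DZ hp p {t} := by
  have := finW hp
  refine CI.cen_eq ht fun c hc => ?_
  obtain ⟨m, hm, w, hw, k, h1, -, rfl⟩ := form hp (Set.finite_singleton t) (Set.singleton_subset_iff.2 ht) (c := c)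
    fun s hs => by rw [hs, hc]
  rw [pp_eq_one H hn hd ht htn (mem_PP_of_PPZ hw)] at h1
  exact mul_mem (Mz_le_DZ hm) (T_le_DZ h1.mem_T)

theorem cen_ref_conn {d : ℕ} (H : CZ D l d) (he : 0 < e) (hσ : IsFrob p e σ)
    (Φ : Fr M.toCoxeterSystem hp.isCartan (TT D (KK p)) (XX D l (KK p)) σ g) {t : YY D p} (ht : t ∈ TT D (KK p))
    (hσt : σ t = t) {n : ℕ} (hn : n.Coprime p) (hd : d.Coprime n) (htn : t ^ n = 1) {B : ℕ}
    (hB : ∀ w ∈ WP hp p {t}, tord (p ^ e) (fun x => rep M.toCoxeterSystem hp.isCartan w (g x)) ≤ B) :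
    Nat.card ↥(DL.fix σ ⊓ Subgroup.centralizer {t}) ≤ (p ^ e) ^ (Ps hp p {t}).ncard * B := by
  rw [conn (hp := hp) H hn hd ht htn]
  exact card_DZ_ref he hσ Φ (Set.singleton_subset_iff.2 ht)
    (g_mem_Ps hσ Φ (Set.singleton_subset_iff.2 ht) fun z hz => by rw [hz, hσt]) hB

variable (hp) in
/-- **The centraliser of a semisimple element of order prime to the order of the fundamental group.** -/
theorem cen_le_conn {d : ℕ} (H : CZ D l d) (he : 0 < e) (hσ : IsFrob p e σ)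
    (Φ : Fr M.toCoxeterSystem hp.isCartan (TT D (KK p)) (XX D l (KK p)) σ g) {y : YY D p} (hy : σ y = y) {n : ℕ}
    (hn : n.Coprime p) (hd : d.Coprime n) (hyn : y ^ n = 1) {k : ℕ} (hk : dd p y ≤ l + k) :
    Nat.card ↥(DL.fix σ ⊓ Subgroup.centralizer {y}) ≤ (p ^ e) ^ k * (p ^ e + 1) ^ l := by
  obtain ⟨x, hx⟩ := exists_tor hp hn hyn
  obtain ⟨σ', w, b1, b2, b3, b4⟩ := CI.exists_red (hp := hp) he hσ Φ hy hx
  rw [b4, conn (hp := hp) H hn hd hx (by rw [conj_pow, hyn, mul_one, mul_inv_cancel])]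
  exact CI.card_DZ he b1 b2 hx b3 (by rwa [dd_conj])

theorem cn_le_conn {d : ℕ} (H : CZ D l d) {q : ℕ} {K : Type*} [Group K] (m : MData hp p q K) {a : K}
    (ha : (orderOf a).Coprime p) (hd : d.Coprime (orderOf a)) {k : ℕ} (hk : dd p (m.ι a) ≤ l + k) :
    cn a ≤ q ^ k * (q + 1) ^ l := by
  have h1 := cen_le_conn hp H m.he m.frob m.fr (m.fix a) ha hd (by rw [← map_pow, pow_orderOf_eq_one, map_one]) hk
  rw [m.hq] at h1
  exact (cn_le_card m.ι m.inj m.fix m.fin a).trans h1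

end Cfsg.Agent.N2.Ex.Cb

private theorem dce_289f435a6e6e : _root_.True := by
  try have : _root_.True := by simp only [_root_.Cfsg.Agent.N2.Ex.Cb.tord.eq_1]
  try have : _root_.True := by simp only [_root_.Cfsg.Agent.H931.KC.al.eq_1]
  try have : _root_.True := by simp only [_root_.Cfsg.Agent.H931.KC.al.eq_2]
  exact _root_.True.intro
end

-- part: N2/Ex/Mu/PUa
section
prune_inst 0x4202400102200000000001240001a06800000020008000028c0000404808e028041000010403400101000400030004811000000420000000a000000000000001000100280890000020000000804000000000000000000000000000000000000000000000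
set_option linter.all false
open scoped Cfsg.Agent.FastGrp

/-!
# N2 (S3519): `p`-subgroups of centralisers, for an abstract datum (helper51)

* `le_card_S` : `q ^ |A| ≤ |U_A ^ F|`;
* `up` : the order of a `p`-subgroup of `C(y) ^ F`;
* `low` : a large `p`-subgroup in the group of a union `Θ` of components (simply laced types).
-/

set_option autoImplicit false
set_option linter.unusedSectionVars false

namespace Cfsg.Agent.N2.Ex.Mu.PU

open CoxeterSystem Cfsg.Agent.ChevalleyStructure.CoxeterGeom Cfsg.Agent.Tits.Roots Cfsg.Agent.Nodes.Reps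
  Cfsg.Agent.Nodes.BNOf Cfsg.Agent.Nodes.Coroot Cfsg.Agent.Nodes.Slope Cfsg.Agent.DL.Base Cfsg.Agent.DL
  Cfsg.Agent.SB.Exc Cfsg.Agent.SB.Exc.Max Cfsg.Agent.SB.Exc.Card
open scoped commutatorElement

attribute [local instance] fintypeSmp decSmp

variable {p : ℕ} [Fact p.Prime] {k : Type} [Field k] [CharP k p] {Y : Type} [Group Y] {N : Type} [Fintype N]
  [DecidableEq N] {ρ : Y →* GL N k} {F : MulAut Y} {G : Subgroup Y} [IsAlgClosed k] {n : ℕ}

theorem btwn_self (D : Datum p ρ F G) {a c : D.I → ℤ} (ha : D.Rt a) (h : Btwn D.cs D.h a a c) : c = a := by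
  obtain ⟨hz, m, i, j, hm, hi, hj, e⟩ := h
  exact eq_of_cross hz ha hm (add_pos hi hj) (by rw [e, add_smul])

/-- the rational points of a unipotent group, lower bound -/
theorem le_card_S (h : Fq p ρ F n) (D : Datum p ρ F G) : ∀ (j : ℕ) (A : Set (D.I → ℤ)), D.Uni A →
    (∀ a ∈ A, D.g a ∈ A) → A.ncard = j → (p ^ n) ^ j ≤ Nat.card ↥(D.S A ⊓ fix F) := by
  intro j
  induction j using Nat.strong_induction_on with
  | _ j ih =>
  intro A hA hg hj
  have fin : ∀ B, Finite ↥(D.S B ⊓ fix F) := fun B => D.amb.finite_GF (D.S B)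
  have hfin : A.Finite := D.finite_roots.subset hA.root
  obtain ⟨lam, hl⟩ := hA.pos
  obtain ⟨L, hL, hLA⟩ := exists_conv hA.root lam hl
  rcases L with _ | ⟨r, L⟩
  · obtain rfl : A = ∅ := Set.eq_empty_of_forall_notMem fun a ha => by simpa using (hLA a).2 ha
    rw [← hj, Set.ncard_empty, pow_zero]
    exact Nat.card_pos
  obtain ⟨⟨f, hf0, hf⟩, -⟩ := hL
  have hrA : r ∈ A := (hLA r).1 List.mem_cons_self
  have hr := hA.root r hrA
  have hf1 : ∀ a ∈ A, a ≠ r → 0 < f a := fun a ha e => hf a ((List.mem_cons.1 ((hLA a).2 ha)).resolve_left e)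
  have hf2 : ∀ a ∈ A, 0 ≤ f a := fun a ha => by
    by_cases e : a = r
    exacts [e ▸ hf0.ge, (hf1 a ha e).le]
  have hbij := D.g_bijOn hA.root hg
  have mem : ∀ i, D.g^[i] r ∈ A := fun i => hbij.mapsTo.iterate i hrA
  have ext : ∀ i, ∀ a ∈ A, ∀ a' ∈ A, a ≠ a' → ¬ Btwn D.cs D.h a a' (D.g^[i] r) := by
    intro i
    induction i with
    | zero =>
      intro a ha a' ha' hne hb
      by_cases e : a = r
      · exact (btwn_pos' hb.symm f (hf1 a' ha' fun e' => hne (e.trans e'.symm)) (hf2 a ha)).ne' hf0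
      · exact (btwn_pos' hb f (hf1 a ha e) (hf2 a' ha')).ne' hf0
    | succ i ih =>
      intro a ha a' ha' hne hb
      obtain ⟨b, hb1, rfl⟩ := hbij.surjOn ha
      obtain ⟨b', hb2, rfl⟩ := hbij.surjOn ha'
      rw [Function.iterate_succ_apply', D.btwn_g (hA.root b hb1) (hA.root b' hb2) (hA.root _ (mem i))] at hb
      exact ih b hb1 b' hb2 (fun e => hne (congrArg _ e)) hb
  have per : r ∈ Function.periodicPts D.g := by
    have := hfin.to_subtype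
    obtain ⟨m, hm, e⟩ := (hbij.mapsTo.restrict_inj.2 hbij.injOn).mem_periodicPts ⟨r, hrA⟩
    exact ⟨m, hm, by
      have := congrArg Subtype.val e
      rwa [Set.MapsTo.coe_iterate_restrict] at this⟩
  set m := Function.minimalPeriod D.g r with hm
  have hm0 : 0 < m := Function.minimalPeriod_pos_of_mem_periodicPts per
  have em : D.g^[m] r = r := Function.iterate_minimalPeriod
  set O := (fun j => D.g^[j] r) '' Set.Iio m with hO
  have hOA : O ⊆ A := by rintro _ ⟨i, -, rfl⟩; exact mem i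
  have memO : ∀ i, D.g^[i] r ∈ O := fun i => ⟨i % m, Nat.mod_lt _ hm0, Function.iterate_mod_minimalPeriod_eq⟩
  have hrO : r ∈ O := memO 0
  have hgO : ∀ b ∈ O, D.g b ∈ O := by
    rintro _ ⟨i, -, rfl⟩
    exact Function.iterate_succ_apply' D.g i r ▸ memO (i + 1)
  have cO : O.ncard = m := by
    rw [hO, Set.InjOn.ncard_image Function.iterate_injOn_Iio_minimalPeriod, ← Finset.coe_range, Set.ncard_coe_finset,
      Finset.card_range]
  have c1 : (A \ O).ncard + m = j := by rw [← cO, Set.ncard_sdiff_add_ncard_of_subset hOA hfin, hj]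
  have cl : D.Cl (A \ O) := ⟨fun a ha => hA.root a ha.1, fun a ha a' ha' c hc => ⟨hA.cl.btw a ha.1 a' ha'.1 c hc, by
    rintro ⟨i, hi, rfl⟩
    by_cases e : a = a'
    · subst e
      exact ha.2 ⟨i, hi, btwn_self D (hA.root a ha.1) hc⟩
    · exact ext i a ha.1 a' ha'.1 e hc⟩⟩
  have ih' := ih _ (by omega) (A \ O) (hA.subset cl Set.sdiff_subset) (fun a ha => ⟨hg a ha.1, fun h1 => by
    obtain ⟨b, hb, e⟩ := (D.g_bijOn (fun b hb => hA.root b (hOA hb)) hgO).surjOn h1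
    exact ha.2 (hbij.injOn (hOA hb) ha.1 e ▸ hb)⟩) rfl
  obtain ⟨κ, H⟩ := exists_crd_uni crel_btwn hA hOA (by
    rintro a ha a' ha' hne _ ⟨i, -, rfl⟩
    exact ext i a ha a' ha' hne)
  obtain ⟨c, hc0, hc⟩ := D.F_pow_x m hr
  rw [em, h.sum_ex D hr hm0 em] at hc
  have he : 0 < n * m := Nat.mul_pos h.1 hm0
  have hQ : 1 < p ^ (n * m) := Nat.one_lt_pow he.ne' (Fact.out : p.Prime).one_lt
  obtain ⟨d, hd⟩ := IsAlgClosed.exists_pow_nat_eq c⁻¹ (Nat.sub_pos_of_lt hQ)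
  have hd0 : d ≠ 0 := by
    rintro rfl
    rw [zero_pow (Nat.sub_pos_of_lt hQ).ne'] at hd
    exact inv_ne_zero hc0 hd.symm
  have hd1 : c * d ^ p ^ (n * m) = d := by
    rw [← Nat.sub_add_cancel hQ.le, pow_succ, hd, ← mul_assoc, mul_inv_cancel₀ hc0, one_mul]
  have key : ∀ t : {a : k // a ^ p ^ (n * m) = a}, ∃ y ∈ D.S A, F y = y ∧ κ r y = d * t := by
    intro t
    have h1 : (F ^ m) (D.x r (d * t)) = D.x r (d * t) := by rw [hc, mul_pow, t.2, ← mul_assoc, hd1]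
    have h2 : ∀ i, (F ^ i) (D.x r (d * t)) ∈ D.S A := fun i =>
      pow_mem_of_maps (F := F) (H := (D.S A : Set Y)) (fun y hy => D.F_mem_S hA.root hg hy) i (x_mem_S hrA hr _)
    obtain ⟨y, hy, h3, h4⟩ := H.exists_fix hg hgO
      (t := fun b => ∑ i ∈ Finset.range m, κ b ((F ^ i) (D.x r (d * t)))) fun b hb => by
        have h5 := Finset.sum_range_succ (fun i => κ (D.g b) ((F ^ i) (D.x r (d * t)))) m
        rw [Finset.sum_range_succ', h1, pow_zero, MulAut.one_apply] at h5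
        rw [← add_right_cancel h5, sum_pow_char_pow, Finset.mul_sum]
        exact Finset.sum_congr rfl fun i _ => by rw [pow_succ', MulAut.mul_apply, H.mapF hg hb (hgO b hb) (h2 i)]
    refine ⟨y, hy, h3, (h4 r hrO).trans ?_⟩
    rw [Finset.sum_eq_single_of_mem 0 (Finset.mem_range.2 hm0) fun i hi h0 => ?_]
    · exact H.self r hrO _
    · obtain ⟨c', -, h5⟩ := D.F_pow_x i hr
      rw [h5]
      exact H.ne r hrO _ (mem i) (fun e => h0 (Function.iterate_injOn_Iio_minimalPeriod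
        (Finset.mem_range.1 hi) hm0 e)) _
  choose y hy hF hκ using key
  have sub : D.S (A \ O) ≤ D.S A := RGD.Sup_mono Set.sdiff_subset
  have val : ∀ t, ∀ v ∈ D.S (A \ O), κ r (y t * v) = d * t := fun t v hv => by
    rw [H.mul r hrO _ (hy t) _ (sub hv), hκ, H.zero_of_mem hrO Set.sdiff_subset (fun h => h.2 hrO) hv, add_zero]
  have h1 := Nat.card_le_card_of_injective (fun z : {a : k // a ^ p ^ (n * m) = a} × ↥(D.S (A \ O) ⊓ fix F) =>
    (⟨y z.1 * z.2, mul_mem (hy _) (sub z.2.2.1), mul_mem (hF _) z.2.2.2⟩ : ↥(D.S A ⊓ fix F))) (by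
      rintro ⟨t, v⟩ ⟨t', v'⟩ e
      have e1 : y t * v = y t' * v' := congrArg Subtype.val e
      have e2 := val t v v.2.1
      rw [e1, val t' v' v'.2.1] at e2
      obtain rfl : t' = t := Subtype.ext (mul_left_cancel₀ hd0 e2)
      rw [Subtype.ext (mul_left_cancel e1)])
  rw [Nat.card_prod, card_pow_eq he] at h1
  refine le_trans ?_ ((Nat.mul_le_mul_left _ ih').trans h1)
  rw [pow_mul, ← pow_add, add_comm, c1]

variable {D : Datum p ρ F G}

theorem rf_Sz {Z : Set Y} {b : D.I → ℤ} (hb : b ∈ D.Sz Z) : ∀ a ∈ D.Sz Z, D.act (D.rf b) a ∈ D.Sz Z := fun a ha =>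
  ⟨ha.1.act _, by
    rw [D.act_rf hb.1]
    exact (D.Lam Z).sub_mem ha.2 ((D.Lam Z).zsmul_mem hb.2 _)⟩

/-- a union of components of the roots trivial on `Z`, simply laced types -/
structure Cp (D : Datum p ρ F G) (Z : Set Y) (Θ : Set (D.I → ℤ)) : Prop where
  h4 : ∀ i j, D.M i j ≠ 4
  h6 : ∀ i j, D.M i j ≠ 6
  sub : Θ ⊆ D.Sz Z
  act : ∀ w, (∀ a ∈ D.Sz Z, D.act w a ∈ D.Sz Z) → ∀ a ∈ Θ, D.act w a ∈ Θ

variable {Z : Set Y} {Θ : Set (D.I → ℤ)}

theorem Cp.neg (H : Cp D Z Θ) {a : D.I → ℤ} (ha : a ∈ Θ) : -a ∈ Θ :=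
  D.act_rf_self (H.sub ha).1 ▸ H.act _ (rf_Sz (H.sub ha)) a ha

theorem Cp.btw (H : Cp D Z Θ) {a b c : D.I → ℤ} (ha : a ∈ Θ) (hb : b ∈ D.Sz Z) (h1 : a ≠ b) (h2 : a ≠ -b)
    (hc : Btwn D.cs D.h b a c) : c ∈ Θ := by
  obtain ⟨h3, rfl⟩ := SB.Low.Tab.btw_key D.cs D.h H.h4 H.h6 hb.1 (H.sub ha).1
    (((SB.Low.Tab.cpr_range D.cs D.h H.h4 H.h6 (H.sub ha).1 hb.1).resolve_left fun h => h1 h.1).resolve_left
      fun h => h2 h.1) hc
  have h4 := H.act _ (rf_Sz hb) a ha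
  rwa [D.act_rf hb.1, h3, neg_smul, one_smul, sub_neg_eq_add, add_comm] at h4

/-- the centraliser normalises the group of the components -/
theorem Cp.norm (H : Cp D Z Θ) (hZ : Z ⊆ D.T) {y : Y} (hy : y ∈ G) (hc : y ∈ Subgroup.centralizer Z) {u : Y}
    (hu : u ∈ D.S Θ) : y * u * y⁻¹ ∈ D.S Θ := by
  obtain ⟨c, hc1, m, ⟨w, hm⟩, hmc, rfl⟩ := D.exists_cen_form hZ hy hc
  have h1 := D.conj_mem_S hm (fun a ha => (H.sub ha).1) (H.act w fun a ha => D.act_mem_Sz hZ hm hmc ha) hu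
  have h2 := conj_S_S (B := Θ) D.Sz_root (fun b hb a ha u hu v hv => by
    have h3 : v ∈ D.S Θ := RGD.le_Sup (X := D.X) ha hv
    by_cases e : b ∈ Θ
    · have h4 : u ∈ D.S Θ := RGD.le_Sup (X := D.X) e hu
      exact mul_mem (mul_mem h4 h3) (inv_mem h4)
    · have h4 : a ≠ b := fun k => e (k ▸ ha)
      have h5 : a ≠ -b := fun k => e (neg_neg b ▸ k ▸ H.neg ha)
      have h6 := mul_mem (RGD.Sup_mono (fun c hc => H.btw ha hb h4 h5 hc)
        (D.comm hb.1 (H.sub ha).1 h4.symm (fun k => h5 (by rw [k, neg_neg])) hu hv)) h3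
      rwa [commutatorElement_def, inv_mul_cancel_right] at h6) hc1 _ h1
  convert h2 using 1
  group

theorem Cp.exists_uni (H : Cp D Z Θ) (h : Fq p ρ F n) (hZ : Z ⊆ D.T) (hF : ∀ a ∈ D.Sz Z, D.g a ∈ D.Sz Z)
    (hg : ∀ a ∈ Θ, D.g a ∈ Θ) : ∃ U : Subgroup Y, (∀ u ∈ U, F u = u ∧ (∃ j, u ^ p ^ j = 1) ∧ u ∈ D.S Θ) ∧
      (p ^ n) ^ Θ.ncard ≤ Nat.card U ^ 2 := by
  obtain ⟨y, hy, hy', hq⟩ := (D.sub hZ hF rfl).exists_qs
  have := finite_group D.cs D.h (D.Lam Z)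
  let A : Set ((D.sub hZ hF rfl).I → ℤ) := {c | c ∈ RGD.Pos (D.sub hZ hF rfl).cs (D.sub hZ hF rfl).h ∧ D.io Z c ∈ Θ}
  have hA : ((D.sub hZ hF rfl).conj hy hy').Uni A := Datum.uni_of_subset_pos _
    ⟨fun _ h => h.1.1, fun a ha b hb c hc => ⟨(D.sub hZ hF rfl).cl_pos.btw a ha.1 b hb.1 c hc, by
      by_cases e : a = b
      · subst e
        rw [btwn_self (D.sub hZ hF rfl) ha.1.1 hc]
        exact ha.2
      · refine H.btw ha.2 (H.sub hb.2) ((D.io_injective Z).ne e) ?_ (btwn_iff.1 hc).symm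
        rw [← map_neg]
        exact (D.io_injective Z).ne (ne_neg_of_nonneg ha.1.1 ha.1.2 hb.1.2)⟩⟩ fun _ h => h.1
  have hgA : ∀ c ∈ A, ((D.sub hZ hF rfl).conj hy hy').g c ∈ A := fun c hc =>
    ⟨⟨((D.sub hZ hF rfl).conj hy hy').g_root c hc.1.1, hq c hc.1.1 hc.1.2⟩, by
      rw [Datum.conj_g, ← D.act_subW hZ hF rfl, D.sub_g hZ hF rfl hc.1.1]
      refine H.act _ (fun a ha => ?_) _ (hg _ hc.2)
      obtain ⟨b, hb, rfl⟩ := (D.io_roots Z).ge ha
      rw [D.act_subW hZ hF rfl]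
      exact (D.io_mem_Sz Z).2 (hb.act _)⟩
  refine ⟨((D.sub hZ hF rfl).conj hy hy').S A ⊓ fix F, fun u hu => ⟨hu.2, pel_of_uni hA hu.1, ?_⟩,
    le_trans ?_ (Nat.pow_le_pow_left (le_card_S h ((D.sub hZ hF rfl).conj hy hy') _ A hA hgA rfl) 2)⟩
  · have h1 := hu.1
    rw [Datum.conj_S, Datum.sub_S] at h1
    have h2 := H.norm hZ (D.cen_le_G Z hy) (D.cen_le_centralizer hZ hy)
      (RGD.Sup_mono (by rintro _ ⟨c, hc, rfl⟩; exact hc.2) (Nodes.Reps.mem_cj.1 h1))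
    convert h2 using 1
    group
  · rw [← pow_mul (p ^ n)]
    refine Nat.pow_le_pow_right (pow_pos (Fact.out : p.Prime).pos _) ?_
    have h0 : (D.io Z '' A).Finite := D.finite_roots.subset (by rintro _ ⟨c, hc, rfl⟩; exact (H.sub hc.2).1)
    have h1 : Θ ⊆ D.io Z '' A ∪ Neg.neg '' (D.io Z '' A) := fun a ha => by
      obtain ⟨b, hb, rfl⟩ := (D.io_roots Z).ge (H.sub ha)
      rcases IsRoot.pos_or_neg hb with e | e
      · exact Or.inl ⟨b, ⟨⟨hb, e⟩, ha⟩, rfl⟩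
      · exact Or.inr ⟨_, ⟨-b, ⟨⟨IsRoot.neg hb, neg_nonneg.2 e⟩, by rw [map_neg]; exact H.neg ha⟩, rfl⟩,
          by rw [map_neg, neg_neg]⟩
    have h2 := (Set.ncard_le_ncard h1 (h0.union (h0.image _))).trans (Set.ncard_union_le _ _)
    rw [Set.ncard_image_of_injective _ neg_injective, Set.ncard_image_of_injective _ (D.io_injective Z)] at h2
    omega

theorem conj_Sz {y z : Y} (hz : z ∈ G) (hz' : z⁻¹ * F z ∈ D.NN) (hs : z⁻¹ * y * z ∈ D.T) :
    (D.conj hz hz').Sz {y} = D.Sz {z⁻¹ * y * z} := by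
  ext a
  have h1 := D.conj_χ hz hz' a hs
  rw [show z * (z⁻¹ * y * z) * z⁻¹ = y by group] at h1
  refine and_congr_right fun _ => ⟨fun h t ht => ?_, fun h t ht => ?_⟩
  · rw [ht, ← h1]
    exact h y rfl
  · rw [ht]
    exact h1.trans (h _ rfl)

/-- **The upper bound.** -/
theorem up (h : Fq p ρ F n) (D : Datum p ρ F G) {y x : Y} (hy : F y = y) (hx : x ∈ G) (hs : x * y * x⁻¹ ∈ D.T)
    {P : Subgroup Y} (hP : IsPGroup p P) (hG : P ≤ G) (hF : P ≤ fix F) (hc : P ≤ Subgroup.centralizer {y}) :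
    Nat.card P ^ 2 ≤ (p ^ n) ^ (D.Sz {x * y * x⁻¹}).ncard := by
  obtain ⟨z, hz, hz', hT, h1⟩ := exists_conj_le_T D (Z := {y}) (fun a ha => by rw [ha, hy]; rfl) (inv_mem hx)
    (fun a ha => by rw [ha, inv_inv]; exact hs)
  have h2 : z⁻¹ * y * z = x * y * x⁻¹ := by rw [h1 y rfl, inv_inv]
  have h3 := Cb.pc_cen_le h (D.conj hz hz') hT fun a => (D.conj hz hz').g_mem_Sz hT fun t ht => by rw [ht, hy]; rfl
  rw [conj_Sz hz hz' (h2 ▸ hs), h2] at h3
  refine (Nat.pow_le_pow_left ?_ 2).trans h3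
  have h4 : P ≤ GF F ((D.conj hz hz').cen {y}) := fun u hu => ⟨by
    obtain ⟨j, hj⟩ := hP ⟨u, hu⟩
    refine (D.conj hz hz').mem_cen_of_pow hT (hG hu) (hc hu) (j := j) ?_
    rw [show u ^ p ^ j = 1 from congrArg Subtype.val hj]
    exact one_mem _, hF hu⟩
  have := D.amb.finite_GF ((D.conj hz hz').cen {y})
  have : Finite P := Finite.of_injective _ (Subgroup.inclusion_injective h4)
  obtain ⟨j, hj⟩ := IsPGroup.iff_card.1 hP
  have h5 := Subgroup.card_dvd_of_le h4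
  rw [hj] at h5 ⊢
  exact Nat.pow_le_pow_right (Fact.out : p.Prime).pos
    (((Fact.out : p.Prime).pow_dvd_iff_le_factorization Nat.card_pos.ne').1 h5)

/-- **The lower bound.** -/
theorem low (h : Fq p ρ F n) (D : Datum p ρ F G) {y x : Y} (hy : F y = y) (hx : x ∈ G) (hs : x * y * x⁻¹ ∈ D.T)
    {Θ : Set (D.I → ℤ)} (H : Cp D {x * y * x⁻¹} Θ)
    (hg : ∀ w, (∀ a ∈ D.Sz {x * y * x⁻¹}, D.act w (D.g a) ∈ D.Sz {x * y * x⁻¹}) → ∀ a ∈ Θ, D.act w (D.g a) ∈ Θ) :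
    ∃ U : Subgroup Y, (∀ u ∈ U, F u = u ∧ (∃ j, u ^ p ^ j = 1) ∧ x * u * x⁻¹ ∈ D.S Θ) ∧
      (p ^ n) ^ Θ.ncard ≤ Nat.card U ^ 2 := by
  obtain ⟨z, hz, hz', hT, h1⟩ := exists_conj_le_T D (Z := {y}) (fun a ha => by rw [ha, hy]; rfl) (inv_mem hx)
    (fun a ha => by rw [ha, inv_inv]; exact hs)
  have h2 : z⁻¹ * y * z = x * y * x⁻¹ := by rw [h1 y rfl, inv_inv]
  have h3 : (D.conj hz hz').Sz {y} = D.Sz {x * y * x⁻¹} := by rw [conj_Sz hz hz' (h2 ▸ hs), h2]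
  have h4 : ∀ a ∈ (D.conj hz hz').Sz {y}, (D.conj hz hz').g a ∈ (D.conj hz hz').Sz {y} := fun a =>
    (D.conj hz hz').g_mem_Sz hT fun t ht => by rw [ht, hy]; rfl
  have H' : Cp (D.conj hz hz') {y} Θ := ⟨H.h4, H.h6, h3 ▸ H.sub, h3 ▸ H.act⟩
  obtain ⟨U, h5, h6⟩ := H'.exists_uni h hT h4 (hg _ (h3 ▸ h4))
  refine ⟨U, fun u hu => ⟨(h5 u hu).1, (h5 u hu).2.1, ?_⟩, h6⟩
  have h7 := (h5 u hu).2.2
  rw [Datum.conj_S] at h7
  have h8 := H.norm (Set.singleton_subset_iff.2 hs) (mul_mem hx hz) (Subgroup.mem_centralizer_singleton_iff.2 (by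
    nth_rewrite 1 [← h2]
    group)) (Nodes.Reps.mem_cj.1 h7)
  convert h8 using 1
  group

end Cfsg.Agent.N2.Ex.Mu.PU
end

-- part: N2/G2/WhyF
section
prune_inst 0x14204500142200000000001000000224100000900040080008c00046094482020000080040002000000080800000000000000010400000000a000000000000001023520282990d04240000802004000000000000000000000000000000000000000000000
set_option linter.all false
open scoped Cfsg.Agent.FastGrp

/-!
# N2 (S3519), `³D₄(q)`, box [Why]: the frame of an element of order `q + 1` (helper75)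
-/

set_option autoImplicit false
set_option linter.unusedSectionVars false

namespace Cfsg.Agent.N2.G2.Wy

open Subgroup CoxeterSystem Cfsg Cfsg.Lie Cfsg.Lie.ChevalleyDatum Cfsg.Agent.FP3
open Cfsg.Agent.ChevalleyStructure Cfsg.Agent.ChevalleyStructure.Elts Cfsg.Agent.ChevalleyStructure.CoxeterGeom
  Cfsg.Agent.ChevalleyStructure.CoxeterGeomTypes
open Cfsg.Agent.Tits.Roots Cfsg.Agent.Nodes Cfsg.Agent.Nodes.Reps Cfsg.Agent.Nodes.BNOf Cfsg.Agent.Nodes.RGDChev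
  Cfsg.Agent.Nodes.Coroot Cfsg.Agent.Nodes.RGDTwD4
open Cfsg.Agent.KFacts.RgdField Cfsg.Agent.KFacts.RgdChevCoord Cfsg.Agent.BpExc.LangFr
open Cfsg.Agent.H469.Exc Cfsg.Agent.H129.TorusChar Cfsg.Agent.DS.Ex Cfsg.Agent.DS.Ex.Tor Cfsg.Agent.DS.Nt
  Cfsg.Agent.N2.Ex Cfsg.Agent.H81.TorOrth Cfsg.Agent.H605.MX
open Cfsg.Agent.SB.Low (Cz Md im Sat RD boxTabD boxNS comm_of_orth)
open Cfsg.Agent.ChevalleyStructure.SL2Hom (up lo mem_closure_SL2)
open Cfsg.Agent.Nodes.RGDFoldSL (hS)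

section Grp

variable {T S : Type} [Group T] [Finite T] [Group S] [IsSimpleGroup S]

theorem mc_eq (hS : ¬ IsMulCommutative S) {φ : S →* T} (hφ : Function.Injective φ) {s : T} (hc : ∀ g, φ g * s = s * φ g)
    (h : cn s = orderOf s * Nat.card S) : Mc s = φ.range := by
  have h1 : commutator S = ⊤ := (IsSimpleGroup.eq_bot_or_eq_top_of_normal _ inferInstance).resolve_left fun e =>
    hS ⟨⟨fun a b => commutatorElement_eq_one_iff_mul_comm.1 (mem_bot.1 (e ▸ commutator_mem_commutator (mem_top a) (mem_top b)))⟩⟩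
  have h2 : center S = ⊥ := (IsSimpleGroup.eq_bot_or_eq_top_of_normal _ inferInstance).resolve_right fun e =>
    hS ⟨⟨fun a b => mem_center_iff.1 (e ▸ mem_top b) a⟩⟩
  have h3 : ∀ i : ℤ, ∀ g, φ g * s ^ i = s ^ i * φ g := fun i g => (Commute.zpow_right (hc g) i).eq
  let f : zpowers s × S → centralizer ({s} : Set T) := fun x => ⟨x.1 * φ x.2, mul_mem
    (zpowers_le.2 (mem_centralizer_singleton_iff.2 rfl) x.1.2) (mem_centralizer_singleton_iff.2 (hc _))⟩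
  have h4 : Function.Injective f := by
    rintro ⟨⟨_, i, rfl⟩, a⟩ ⟨⟨_, j, rfl⟩, b⟩ e
    have e1 : s ^ i * φ a = s ^ j * φ b := congrArg Subtype.val e
    have e2 : φ (a * b⁻¹) = s ^ (j - i) := by
      rw [map_mul, map_inv, sub_eq_neg_add, zpow_add, zpow_neg, mul_inv_eq_iff_eq_mul, mul_assoc, ← e1, inv_mul_cancel_left]
    have e3 : a * b⁻¹ = 1 := mem_bot.1 (h2 ▸ mem_center_iff.2 fun g => hφ (by rw [map_mul, map_mul φ _ g, e2, h3]))
    obtain rfl := mul_inv_eq_one.1 e3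
    exact Prod.ext (Subtype.ext (mul_right_cancel e1)) rfl
  have h5 := (Nat.bijective_iff_injective_and_card f).2 ⟨h4, by rw [Nat.card_prod, Nat.card_zpowers]; exact h.symm⟩
  refine le_antisymm (commutator_le.2 fun x hx y hy => ?_) ?_
  · obtain ⟨⟨⟨_, i, rfl⟩, a⟩, e⟩ := h5.2 ⟨x, hx⟩
    obtain ⟨⟨⟨_, j, rfl⟩, b⟩, e'⟩ := h5.2 ⟨y, hy⟩
    obtain rfl : s ^ i * φ a = x := congrArg Subtype.val e
    obtain rfl : s ^ j * φ b = y := congrArg Subtype.val e'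
    refine ⟨a * b * a⁻¹ * b⁻¹, ?_⟩
    have k : ∀ (m : ℤ) (z : T), z ∈ φ.range → s ^ m * z * (s ^ m)⁻¹ = z := by
      rintro m _ ⟨g, rfl⟩
      rw [← h3, mul_inv_cancel_right]
    have k1 : s ^ i * φ a * (s ^ j * φ b) * (s ^ i * φ a)⁻¹ = s ^ j * φ (a * b * a⁻¹) := by
      calc _ = s ^ i * ((φ a * s ^ j) * φ b * (φ a)⁻¹) * (s ^ i)⁻¹ := by group
        _ = s ^ j * (s ^ i * φ (a * b * a⁻¹) * (s ^ i)⁻¹) := by rw [h3, map_mul, map_mul, map_inv]; group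
        _ = _ := by rw [k _ _ ⟨_, rfl⟩]
    rw [commutatorElement_def, k1, ← k j _ ⟨a * b * a⁻¹ * b⁻¹, rfl⟩, map_mul φ _ b⁻¹, map_inv]
    group
  · rw [MonoidHom.range_eq_map, ← h1, commutator_def, map_commutator]
    have h6 : (⊤ : Subgroup S).map φ ≤ centralizer {s} := by
      rintro _ ⟨g, -, rfl⟩
      exact mem_centralizer_singleton_iff.2 (hc g)
    exact commutator_mono h6 h6

end Grp

theorem rd : RD coxeterD4.toCoxeterSystem hp.isCartan := boxTabD.1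

theorem ps_mem {s : ℕ} (hs : s < chevD4.nroots) {H : Subgroup (YY chevD4 2)} (h1 : XX chevD4 4 (KK 2) (vec chevD4 4 s) ≤ H)
    (h2 : XX chevD4 4 (KK 2) (-vec chevD4 4 s) ≤ H) (x : Matrix.SpecialLinearGroup (Fin 2) (KK 2)) : ps hp hs x ∈ H := by
  refine (closure_le (H.comap (ps hp hs))).2 ?_ (mem_closure_SL2 x)
  rintro _ (⟨b, rfl⟩ | ⟨b, rfl⟩)
  · show ps hp hs (up b) ∈ H
    rw [ps_up]
    exact h1 (xs_mem hp hs b)
  · show ps hp hs (lo b) ∈ H
    rw [ps_lo]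
    exact h2 (by rw [← vec_neg hp hs]; exact xs_mem hp (NPerm.neg_lt hp.inList hs) b)

theorem so_of {a b : Fin 4 → ℤ} (ha : RT hp a) (hb : RT hp b) (h : cpr coxeterD4.toCoxeterSystem hp.isCartan b a = 0) :
    SO coxeterD4.toCoxeterSystem hp.isCartan a b := by
  have := finite_W hp coxeterD4.toCoxeterSystem
  refine ⟨fun e => ?_, fun e => ?_, fun i j hi hj e => ?_⟩
  · rw [e, cpr_self _ _ hb] at h
    omega
  · rw [e, cpr_neg_right _ _ _ hb, cpr_self _ _ hb] at h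
    omega
  · have h1 := cpr_self _ _ e
    nth_rewrite 1 [cpr_add _ _ _ _ e, cpr_smul _ _ _ _ e, cpr_smul _ _ _ _ e, rd.symm _ _ ha e, rd.symm _ _ hb e,
      cpr_add _ _ _ _ ha, cpr_add _ _ _ _ hb, cpr_smul _ _ _ _ ha, cpr_smul _ _ _ _ ha, cpr_smul _ _ _ _ hb,
      cpr_smul _ _ _ _ hb, cpr_self _ _ ha, cpr_self _ _ hb, h, rd.symm _ _ ha hb, h] at h1
    nlinarith [mul_self_pos.2 hi, mul_self_pos.2 hj]

theorem chk_P : (SB.Low.Tab.D.RL.all fun a => (SB.Low.Tab.D.RL.filter fun b => SB.Low.Tab.D.ip b a == 0).length == 6) = true ∧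
    SB.Low.Tab.D.RL.Nodup := by decide +kernel

theorem ncard_perp {a : Fin 4 → ℤ} (ha : RT hp a) :
    {b | RT hp b ∧ cpr coxeterD4.toCoxeterSystem hp.isCartan b a = 0}.ncard = 6 := by
  have := finite_W hp coxeterD4.toCoxeterSystem
  have h1 := List.all_eq_true.1 chk_P.1 _ ((SB.Low.Tab.D.root_iff _ a).1 ha)
  rw [← Set.ncard_image_of_injective _ SB.Low.Tab.D.vt_inj, ← beq_iff_eq.1 h1,
    ← List.toFinset_card_of_nodup (chk_P.2.filter _), ← Set.ncard_coe_finset]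
  congr 1
  ext x
  rw [← SB.Low.Tab.D.vt_tv x, SB.Low.Tab.D.vt_inj.mem_set_image, Finset.mem_coe, List.mem_toFinset, List.mem_filter,
    beq_iff_eq, ← SB.Low.Tab.D.cpr_eq _ _ ha, ← SB.Low.Tab.D.root_iff coxeterD4.toCoxeterSystem]
  rfl

/-- the characters trivial on `t` -/
def Lm {t : YY chevD4 2} (ht : t ∈ TT chevD4 (KK 2)) : AddSubgroup (Fin 4 → ℤ) where
  carrier := {x | cX hp t x = 1}
  zero_mem' := (isMC_cX hp ht).zero
  add_mem' := fun {a b} (ha : cX hp t a = 1) (hb : cX hp t b = 1) => by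
    show cX hp t _ = 1
    rw [(isMC_cX hp ht).add, ha, hb, one_mul]
  neg_mem' := fun {a} (ha : cX hp t a = 1) => by
    show cX hp t _ = 1
    rw [(isMC_cX hp ht).neg, ha, inv_one]

theorem no_pow {c : KK 2} {q : ℕ} (hc : IsPrimitiveRoot c (q ^ 3 - 1)) {a b d : ℤ} (h : (a ≠ 0 ∧ |a| ≤ 2 ∧ b = 0 ∧ d = 0) ∨
    (a = 0 ∧ b ≠ 0 ∧ |b| ≤ 2 ∧ d = 0) ∨ (a = 0 ∧ b = 0 ∧ d ≠ 0 ∧ |d| ≤ 2) ∨
      ((a = 1 ∨ a = -1) ∧ (b = 1 ∨ b = -1) ∧ (d = 1 ∨ d = -1))) (h4 : 4 ≤ q) : c ^ (a + q * b + q ^ 2 * d) ≠ 1 := by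
  rw [Ne, hc.zpow_eq_one_iff_dvd, Nat.cast_sub (Nat.one_le_pow _ _ (by omega))]
  push_cast
  have h5 : (4 : ℤ) ≤ q := by exact_mod_cast h4
  have h6 : (q : ℤ) ^ 2 * 4 ≤ q ^ 3 := by nlinarith
  have h7 : (q : ℤ) * 4 ≤ q ^ 2 := by nlinarith
  intro e
  have h8 : a + q * b + q ^ 2 * d ≠ 0 ∧ |a + q * b + q ^ 2 * d| < q ^ 3 - 1 := by
    rw [abs_lt]
    simp only [abs_le] at h
    rcases h with ⟨h1, ⟨h2, h3⟩, rfl, rfl⟩ | ⟨rfl, h1, ⟨h2, h3⟩, rfl⟩ | ⟨rfl, rfl, h1, h2, h3⟩ | ⟨h1 | h1, h2 | h2, h3 | h3⟩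
    · exact ⟨by simpa using h1, by omega, by omega⟩
    · interval_cases b <;> omega
    · interval_cases d <;> omega
    all_goals subst_vars; omega
  exact h8.1 (Int.eq_zero_of_abs_lt_dvd e h8.2)

variable {e : ℕ} {α : MulAut (YY chevD4 2)} {θ : (Fin 4 → ℤ) ≃+ (Fin 4 → ℤ)} (he : 0 < e) (hα : IsFrob 2 e α)
  (F : FR hp 2 α θ) {w : coxeterD4.Group}
  (hθ : ∀ x, θ x = rep coxeterD4.toCoxeterSystem hp.isCartan w (H720.TwFr.permE H720.TwFr.rho4 x))
  {t : YY chevD4 2} (ht : t ∈ TT chevD4 (KK 2)) (hf : α t = t)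
  (hpos : ∀ a, RT hp a → cX hp t a = 1 → 0 ≤ a → 0 ≤ θ a)

include hα F hθ ht hf hpos in
theorem roots (h4 : 4 ≤ 2 ^ e) (ho : orderOf t = 2 ^ e + 1) (hd : dd 2 t = 10) : ∃ a c, RT hp a ∧ RT hp c ∧
    (θ a = a ∨ θ a = -a) ∧ θ (θ (θ c)) = c ∧ (0 ≤ c ∧ 0 ≤ θ c ∧ 0 ≤ θ (θ c)) ∧
    (cpr coxeterD4.toCoxeterSystem hp.isCartan (θ c) c = 0 ∧ cpr coxeterD4.toCoxeterSystem hp.isCartan (θ (θ c)) c = 0 ∧
      cpr coxeterD4.toCoxeterSystem hp.isCartan (θ (θ c)) (θ c) = 0) ∧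
    (cX hp t c = 1 ∧ cX hp t (θ c) = 1 ∧ cX hp t (θ (θ c)) = 1) ∧ ∀ b, RT hp b →
      (cX hp t b = 1 ↔ cpr coxeterD4.toCoxeterSystem hp.isCartan b a = 0) ∧
      (cX hp t b = 1 → b = c ∨ b = -c ∨ b = θ c ∨ b = -θ c ∨ b = θ (θ c) ∨ b = -θ (θ c)) ∧
      (cX hp t b ≠ 1 → b ≠ a → b ≠ -a → (cpr coxeterD4.toCoxeterSystem hp.isCartan b c = 1 ∨
          cpr coxeterD4.toCoxeterSystem hp.isCartan b c = -1) ∧
        (cpr coxeterD4.toCoxeterSystem hp.isCartan b (θ c) = 1 ∨ cpr coxeterD4.toCoxeterSystem hp.isCartan b (θ c) = -1) ∧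
        (cpr coxeterD4.toCoxeterSystem hp.isCartan b (θ (θ c)) = 1 ∨
          cpr coxeterD4.toCoxeterSystem hp.isCartan b (θ (θ c)) = -1)) := by
  have := finite_W hp coxeterD4.toCoxeterSystem
  have hT := rt_th coxeterD4.toCoxeterSystem (θ := θ.toAddMonoidHom) hθ
  have h1 : ∀ x, cX hp t (θ x) = cX hp t x ^ 2 ^ e := fun x => by
    have := cX_sigma hp coxeterD4.toCoxeterSystem hα F ht x
    rwa [hf] at this
  have h2 : ∀ x ∈ Lm ht, θ x ∈ Lm ht := fun x (hx : cX hp t x = 1) => show cX hp t _ = 1 by rw [h1, hx, one_pow]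
  have h3 : (SB.Low.Ps coxeterD4.toCoxeterSystem hp.isCartan (Lm ht)).ncard = 6 := by
    have h5 := SB.Exc.CI.ncard_Ps (hp := hp) ht
    rw [hd, show Ps hp 2 {t} = SB.Low.Ps coxeterD4.toCoxeterSystem hp.isCartan (Lm ht) from Set.ext fun a =>
      (mem_Ps (Set.singleton_subset_iff.2 ht)).trans (and_congr_right fun _ => forall_eq)] at h5
    omega
  have hr : ∀ {a}, RT hp a → RT hp (θ a) := fun ha => (F.root _).2 ha
  rcases hT.cls (Lm ht) (Set.nonempty_of_ncard_ne_zero (by omega)) h2 (fun a ha => hpos a ha.1 ha.2) with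
    ⟨c, hc, h5⟩ | ⟨a, -, -, h5⟩ | ⟨a, b, ha, hb, -, -, h5, h6, h7⟩
  · wlog c0 : 0 ≤ c generalizing c
    · exact this (-c) ⟨hc.1.neg, neg_mem hc.2⟩ (by rw [map_neg, cpr_neg _ _ _ hc.1.neg, cpr_neg_right _ _ _ hc.1, h5]; rfl)
        (hc.1.not_nonneg_iff_neg.1 c0)
    obtain ⟨a, ha, a1, a2, a3, a4, a5⟩ := tabB coxeterD4.toCoxeterSystem (θ := θ.toAddMonoidHom) hθ hc.1 h5 (hr hc.1)
      (hr (hr hc.1))
    obtain ⟨b1, b2, b3⟩ := hT.t1 c hc.1 h5
    have c1 := hpos _ hc.1 hc.2 c0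
    have c2 := hpos _ (hr hc.1) (h2 _ hc.2) c1
    have c3 := hpos _ (hr (hr hc.1)) (h2 _ (h2 _ hc.2)) c2
    have h6 : {b | RT hp b ∧ cpr coxeterD4.toCoxeterSystem hp.isCartan b a = 0} ⊆
        SB.Low.Ps coxeterD4.toCoxeterSystem hp.isCartan (Lm ht) := fun b hb => ⟨hb.1, by
      rcases (a5 b hb.1).1 hb.2 with rfl | rfl | rfl | rfl | rfl | rfl
      exacts [hc.2, neg_mem hc.2, h2 _ hc.2, neg_mem (h2 _ hc.2), h2 _ (h2 _ hc.2), neg_mem (h2 _ (h2 _ hc.2))]⟩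
    have h7 := Set.eq_of_subset_of_ncard_le h6 (h3.trans (ncard_perp ha).symm).le
      (Set.finite_of_ncard_ne_zero (by omega))
    have h8 : ∀ b, RT hp b → (cX hp t b = 1 ↔ cpr coxeterD4.toCoxeterSystem hp.isCartan b a = 0) := fun b hb =>
      ⟨fun h => (h7.ge ⟨hb, h⟩).2, fun h => (h6 ⟨hb, h⟩).2⟩
    exact ⟨a, c, ha, hc.1, a1, b3.resolve_right fun e => hc.1.not_pos_neg c0 (neg_nonneg.1 (e ▸ c3)), ⟨c0, c1, c2⟩,
      ⟨h5, b1, b2⟩, ⟨hc.2, h2 _ hc.2, h2 _ (h2 _ hc.2)⟩, fun b hb => ⟨h8 b hb, fun h => (a5 b hb).1 ((h8 b hb).1 h),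
        fun h => (a5 b hb).2 ((h8 b hb).not.1 h)⟩⟩
  · have := Set.ncard_insert_le a {-a}
    rw [← h5, h3, Set.ncard_singleton] at this
    omega
  · have h8 := tabA coxeterD4.toCoxeterSystem (θ := θ.toAddMonoidHom) hθ ha hb h5 h7 (Λ := Lm ht)
      (h6.ge (Or.inl rfl)).2 (h6.ge (Or.inr (Or.inl rfl))).2 fun x => show cX hp t (θ x + x) = 1 by
        rw [(isMC_cX hp ht).add, h1, ← pow_succ, ← cX_pow hp ht, ← ho, pow_orderOf_eq_one, cX_one]
    have h9 : t ^ 3 = 1 := cX_inj hp (pow_mem ht 3) (one_mem _) fun i => by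
      have h10 : cX hp t ((3 : ℤ) • sr i) = 1 := h8 _
      rw [show (3 : ℤ) • sr i = sr i + sr i + (sr i : Fin 4 → ℤ) by module, (isMC_cX hp ht).add, (isMC_cX hp ht).add] at h10
      rw [cX_pow hp ht, cX_one, ← h10]
      ring
    have := Nat.le_of_dvd three_pos (orderOf_dvd_of_pow_eq_one h9)
    omega

end Cfsg.Agent.N2.G2.Wy
end
end
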