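import Cfsg.Agent.N2.Ex.CC.Asm_mg_m3
import Cfsg.Agent.N2.Ex.Al.Grp_mg_m3
import Cfsg.Agent.N2.Ex.Al.TbD
import Cfsg.Agent.Lib.FinFast
import Cfsg.Agent.DL.Ex.Fin_m3
import Cfsg.Agent.N2.Ex.Mu.PUa_m3
import Cfsg.Agent.DL.St.Main_m3
import Cfsg.Agent.H316.U6Norm_m3
import Cfsg.Agent.Cam.Ex.Chi_m3
import Cfsg.Agent.DS.Nt.Base
import Cfsg.Agent.Cam.Ex.Root
import Cfsg.Agent.Lib.Refl
import Cfsg.Agent.FastGrp
import Cfsg.Agent.Prune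
set_option linter.all false

section
prune_inst 0x7fbdfdf9bbb8ffffdfff7ffffefddffc39f89fffa6dff9437fe0e1ff2bdf2b08cba5fbaf8df052ff1ed6e2b610387b53ff7eefffea6bdc7ffffd5ff41ffbee5ff5f7b50851d4983e0fbc0fff0bf07f8e7f3fffffffffffffffffffffffffffbeffffffffffff

-- part: N2/Ex/Mu/LatE7
section
prune_inst 0x420204440700002000000001022003c2076000590002b8801f1a005420d4f730580400720da900e0091c492ec5808400811000159421000002a003600411a00a080af728232740f043e000f00b807180c00000000000000000000000000041000000000000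
set_option linter.all false
open scoped Cfsg.Agent.FastGrp

/-!
# N2, multiplicities: the rows of `E7` (helper40, generated data)
-/

set_option autoImplicit false
set_option maxRecDepth 100000

namespace Cfsg.Agent.N2.Ex.Mu.Lt

open Cfsg Cfsg.Lie Cfsg.Agent.Nodes.RGDChev Cfsg.Agent.N2.Ex.Al Cfsg.Agent.N2.Ex.Al.Ck Cfsg.Agent.N2.Ex.Cb

section Fast

private theorem land_pk (V : ℕ) {h : ℕ → ℕ} (hh : ∀ k, h k < 65536) (n : ℕ) :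
    Nat.land V (pk h n) = pk (fun k => Nat.land (dg V k) (h k)) n := by
  induction n with
  | zero => exact Nat.and_zero V
  | succ n ih =>
    have h1 : pk h n < 2 ^ (16 * n) := pk_lt fun k _ => hh k
    have h2 : pk (fun k => Nat.land (dg V k) (h k)) n < 2 ^ (16 * n) := pk_lt fun k _ => Nat.and_lt_two_pow (n := 16) _ (hh k)
    refine Nat.eq_of_testBit_eq fun j => ?_
    rw [pk_succ, pk_succ, add_comm, add_comm (pk _ n), mul_comm, mul_comm (Nat.land _ _), Nat.testBit_two_pow_mul_add _ h2, ← ih]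
    show (V &&& _).testBit j = if _ then (V &&& _).testBit j else (V >>> (16 * n) % 2 ^ 16 &&& _).testBit _
    rw [Nat.testBit_and, Nat.testBit_two_pow_mul_add _ h1]
    split_ifs with h3
    · rw [Nat.testBit_and]
    · rw [Nat.testBit_and, Nat.testBit_mod_two_pow, Nat.testBit_shiftRight, Nat.add_sub_cancel' (Nat.le_of_not_lt h3)]
      by_cases h4 : j - 16 * n < 16
      · rw [decide_eq_true h4, Bool.true_and]
      · rw [Nat.testBit_lt_two_pow ((hh n).trans_le (Nat.pow_le_pow_right (n := 2) two_pos (Nat.le_of_not_lt h4))),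
          Bool.and_false, Bool.and_false]

private noncomputable def rp (c n : ℕ) : ℕ := pk (fun _ => c) n

private noncomputable def fd (n s t V : ℕ) : ℕ := Nat.land (Nat.shiftRight V s) (rp (Nat.pred (Nat.pow 2 t)) n)

private theorem fd_eq (n s t V : ℕ) (h : s + t ≤ 16) : fd n s t V = pk (fun k => dg V k / 2 ^ s % 2 ^ t) n := by
  have h1 : 2 ^ t - 1 < 65536 := (Nat.sub_lt (Nat.two_pow_pos t) one_pos).trans_le (Nat.pow_le_pow_right (n := 2) two_pos (by omega : t ≤ 16))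
  refine (land_pk _ (fun _ => h1) n).trans (congrArg (pk · n) (funext fun k => Nat.eq_of_testBit_eq fun j => ?_))
  show ((V >>> s) >>> (16 * k) % 2 ^ 16 &&& 2 ^ t - 1).testBit j = (V >>> (16 * k) % 2 ^ 16 / 2 ^ s % 2 ^ t).testBit j
  rw [Nat.and_two_pow_sub_one_eq_mod, ← Nat.shiftRight_eq_div_pow]
  simp only [Nat.testBit_mod_two_pow, Nat.testBit_shiftRight]
  by_cases h2 : j < t
  · rw [decide_eq_true (by omega : j < 16), decide_eq_true (by omega : s + j < 16), Nat.add_left_comm]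
  · rw [decide_eq_false h2, Bool.false_and, Bool.false_and]

private theorem pk_add (g h : ℕ → ℕ) (n : ℕ) : Nat.add (pk g n) (pk h n) = pk (fun k => g k + h k) n := by
  induction n with
  | zero => rfl
  | succ n ih => rw [pk_succ, pk_succ, pk_succ, ← ih, Nat.add_eq, Nat.add_eq]; ring

private theorem pk_mul (c : ℕ) (g : ℕ → ℕ) (n : ℕ) : Nat.mul c (pk g n) = pk (fun k => c * g k) n := by
  induction n with
  | zero => rfl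
  | succ n ih => rw [pk_succ, pk_succ, ← ih, Nat.mul_eq, Nat.mul_eq]; ring

private theorem pk_congr {g h : ℕ → ℕ} {n : ℕ} (e : ∀ k < n, g k = h k) : pk g n = pk h n := by
  induction n with
  | zero => rfl
  | succ n ih => rw [pk_succ, pk_succ, ih fun k hk => e k (Nat.lt_succ_of_lt hk), e n (Nat.lt_succ_self n)]

private theorem fd_pk {n s t : ℕ} {g : ℕ → ℕ} (h : s + t ≤ 16) (hg : ∀ k, g k < 65536) :
    fd n s t (pk g n) = pk (fun k => g k / 2 ^ s % 2 ^ t) n :=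
  (fd_eq n s t _ h).trans (pk_congr fun k hk => by rw [dg_pk (fun k _ => hg k) hk])

private noncomputable def id' (p : ℕ → Bool) (n : ℕ) : ℕ := pk (fun k => cond (p k) 1 0) n

private theorem id'_mod (p : ℕ → Bool) (n : ℕ) : id' p n % 65535 = cL p n % 65535 ∧ cL p n ≤ n := by
  induction n with
  | zero => exact ⟨rfl, le_rfl⟩
  | succ n ih =>
    have h1 : 2 ^ (16 * n) % 65535 = 1 := by rw [pow_mul, Nat.pow_mod]; norm_num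
    have h2 : id' p (n + 1) = id' p n + cond (p n) 1 0 * 2 ^ (16 * n) := pk_succ _ _
    have h3 : cL p (n + 1) = cond (p n) (cL p n + 1) (cL p n) := rfl
    rw [h2, h3]
    generalize 2 ^ (16 * n) = z at h1
    cases p n <;> simp only [cond_true, cond_false] <;> omega

private noncomputable def ct (z : ℕ → ℕ) (n m V : ℕ) : ℕ := Nat.mod (Nat.land (z V) (id' m.testBit n)) 65535

private theorem ct_eq {z : ℕ → ℕ} {N n : ℕ} (hn : n < 65535) (hz : ∀ V, z V = id' (zr N V) n) (m V : ℕ) :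
    ct z n m V = lC (zr N V) (fl m.testBit n) := by
  have h1 : ∀ (p : ℕ → Bool) k, cond (p k) 1 0 < 65536 := fun p k => by cases p k <;> decide
  have h2 : Nat.land (id' (zr N V) n) (id' m.testBit n) = id' (fun a => m.testBit a && zr N V a) n :=
    (land_pk _ (h1 _) n).trans (pk_congr fun k hk => by
      rw [id', dg_pk (fun k _ => h1 _ k) hk]
      beta_reduce
      cases m.testBit k <;> cases zr N V k <;> rfl)
  have h3 := id'_mod (fun a => m.testBit a && zr N V a) n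
  rw [ct, hz, h2, lC_fl]
  exact h3.1.trans (Nat.mod_eq_of_lt (h3.2.trans_lt hn))

private noncomputable def z2 (n V : ℕ) : ℕ := fd n 0 1 (Nat.add (fd n 0 1 V) (rp 1 n))

private theorem z2_eq (n V : ℕ) : z2 n V = id' (zr 2 V) n := by
  rw [z2, fd_eq n 0 1 V (by decide), rp, pk_add, fd_pk (by decide) fun k => by omega]
  refine pk_congr fun k _ => ?_
  show _ = cond (Nat.beq (dg V k % 2) 0) 1 0
  rcases Nat.mod_two_eq_zero_or_one (dg V k) with h | h <;> rw [pow_zero, Nat.div_one, Nat.div_one, pow_one, h] <;> rfl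

private noncomputable def z3 (n V : ℕ) : ℕ :=
  fd n 7 1 (Nat.add (fd n 0 7 (Nat.add (Nat.mul 43 ((fun x => Nat.add (fd n 0 6 x) (fd n 6 6 x)) (Nat.add (fd n 0 8 V) (fd n 8 8 V))))
    (rp 85 n))) (rp 43 n))

private theorem z3_eq (n V : ℕ) : z3 n V = id' (zr 3 V) n := by
  rw [z3, fd_eq n 0 8 V (by decide), fd_eq n 8 8 V (by decide), pk_add]
  beta_reduce
  rw [fd_pk (by decide) fun k => by omega, fd_pk (by decide) fun k => by omega, pk_add, pk_mul, rp, rp, pk_add,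
    fd_pk (by decide) fun k => by omega, pk_add, fd_pk (by decide) fun k => by omega]
  refine pk_congr fun k _ => ?_
  have h1 : ∀ x < 128, ((43 * x + 85) / 2 ^ 0 % 2 ^ 7 + 43) / 2 ^ 7 % 2 ^ 1 = cond (Nat.beq (x % 3) 0) 1 0 := by decide +kernel
  have h2 : dg V k < 65536 := Nat.mod_lt _ (by decide)
  rw [h1 _ (by omega)]
  refine congrArg (fun x => cond (Nat.beq x 0) 1 0) (?_ : _ = dg V k % 3)
  have h3 : ∀ y < 512, (y / 2 ^ 0 % 2 ^ 6 + y / 2 ^ 6 % 2 ^ 6) % 3 = y % 3 := by decide +kernel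
  rw [h3 _ (by omega)]
  generalize dg V k = x at h2
  show (x / 1 % 256 + x / 256 % 256) % 3 = x % 3
  have h4 : x = x % 256 + 256 * (x / 256) := (Nat.mod_add_div x 256).symm
  rw [Nat.div_one, Nat.mod_eq_of_lt (show x / 256 < 256 by omega)]
  generalize x % 256 = a at h4
  generalize x / 256 = b at h4
  omega

private noncomputable def rkG (ct : ℕ → ℕ → ℕ) (T : Tb) (l N : ℕ) (tp : List (ℕ × ℕ)) (B : ℕ × ℕ × ℕ × ℕ) (et : ℕ) (nr : ℕ → ℕ → Bool)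
    (R : Rw) (x : Rt) (g : ℕ) : Bool :=
  (Nat.ble (cL R.m.testBit T.n) x.mx ||
    (lA (fun z => lA (fun d => decide (∑ i : Fin l, vz l z i * ((T.c i d : ℤ) - 2) = 0)) R.Δ) x.Z &&
      eng T l N x.Z fun V => or (Nat.blt (ct R.m V) x.mx) (or (Nat.beq (ct R.m V) (cL R.m.testBit T.n)) (and x.ex (nr R.m V))))) &&
    aL (fun h => !Nat.beq (g % h) 0 || !adm T tp R.m x h || gd T B et R.m x h) 31

private noncomputable def rowG (ct : ℕ → ℕ → ℕ) (T : Tb) (l N : ℕ) (tp : List (ℕ × ℕ)) (B : ℕ × ℕ × ℕ × ℕ) (et : ℕ) (nr : ℕ → ℕ → Bool)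
    (R : Rw) (x : Rt) : Bool :=
  kl T l R x && lA (xr T R.m) x.xb && cond (Nat.beq x.kN 0) (rkG ct T l N tp B et nr R x 0)
    (aL (fun r => !Nat.beq (x.kN % r) 0 || Nat.beq (r % 2) 0 || Nat.beq r 1 || Nat.beq r N ||
      rkG ct T l N tp B et nr R x (r - 1)) (x.kN + 1))

private theorem row_eq {z : ℕ → ℕ → ℕ} {N : ℕ} (hz : ∀ n V, z n V = id' (zr N V) n) {T : Tb} (hn : T.n < 65535) (l : ℕ) :
    rowT T l N = rowG (ct (z T.n) T.n) T l N := by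
  rw [show ct (z T.n) T.n = fun m V => lC (zr N V) (fl m.testBit T.n) from funext fun m => funext (ct_eq hn (hz _) m)]
  rfl

end Fast

/-- the certificates -/
def xE7_2 : List Rt := [⟨0, 0, [], [], [], [], 0, false⟩,
  ⟨0, 0, [], [], [], [], 2, false⟩,
  ⟨0, 0, [], [], [], [], 4, false⟩,
  ⟨0, 0, [], [], [], [[1, 0, 2, 3, 0, 0, 0], [0, 1, 0, 0, 0, 0, 0], [0, 0, 0, 0, 1, 0, 0], [0, 0, 0, 0, 0, 1, 0], [0, 0, 0, 0, 0, 0, 1]], 3, false⟩,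
  ⟨0, 0, [], [], [], [[0, 1, 0, 2, 1, 0, 0], [0, 0, 0, 0, 1, 2, 0], [1, 0, 2, 0, 0, 0, 0], [0, 0, 0, 0, 0, 0, 1]], 0, false⟩,
  ⟨0, 0, [], [], [], [[1, 1, 2, 2, 0, 0, 0], [0, 0, 0, 0, 1, 0, 0], [0, 0, 0, 0, 0, 1, 0], [0, 0, 0, 0, 0, 0, 1]], 1, false⟩,
  ⟨0, 0, [], [], [], [], 8, false⟩,
  ⟨0, 0, [], [], [], [], 8, false⟩,
  ⟨2, 9, [-1, -1, -1, 1], [], [], [], 8, false⟩,
  ⟨0, 0, [], [], [], [], 10, false⟩,
  ⟨2, 9, [-1, -1, -1, 1, 0], [], [], [], 10, false⟩,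
  ⟨0, 0, [], [], [], [], 12, false⟩,
  ⟨0, 0, [], [], [], [], 12, false⟩,
  ⟨0, 0, [], [], [], [], 12, false⟩,
  ⟨2, 5, [0, 0, -1, -1, -1, 1], [], [], [], 12, false⟩,
  ⟨0, 0, [], [], [], [], 14, false⟩,
  ⟨0, 0, [], [], [], [], 14, false⟩,
  ⟨0, 0, [], [], [], [], 14, false⟩,
  ⟨2, 2, [-1, 0, 0, 1, 0, 1, -1], [], [], [], 14, false⟩,
  ⟨2, 3, [0, -1, -1, -1, 1], [], [], [], 16, false⟩,
  ⟨0, 0, [], [], [], [], 16, false⟩,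
  ⟨0, 0, [], [], [], [], 18, false⟩,
  ⟨3, 3, [-1, -1, -2, -2, -1, 1], [], [], [], 18, false⟩,
  ⟨2, 3, [0, -1, -1, -1, 0, 1], [], [], [], 18, false⟩,
  ⟨0, 0, [], [], [], [], 20, false⟩,
  ⟨0, 0, [], [], [], [], 20, false⟩,
  ⟨0, 0, [], [], [], [], 22, false⟩,
  ⟨0, 0, [], [], [], [[0, 1, 0, 2, 1, 0, 0], [1, 0, 2, 0, 1, 2, 0], [0, 0, 0, 0, 0, 0, 1]], 9, false⟩,
  ⟨2, 3, [0, -1, -1, -1, 1, 0], [], [], [], 24, false⟩,
  ⟨0, 0, [], [], [], [[0, 0, 0, 0, 1, 0, 0], [0, 0, 0, 0, 0, 0, 1]], 13, false⟩,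
  ⟨0, 0, [], [18], [], [], 26, false⟩,
  ⟨2, 27, [-1, 0, 0, -1, -2, -1, 1], [], [], [], 26, false⟩,
  ⟨2, 3, [0, -1, -1, -1, 1, 0], [], [], [], 28, false⟩,
  ⟨0, 0, [], [], [], [[0, 0, 0, 0, 0, 1, 0], [-2, -3, -4, -6, -5, 0, -3]], 15, false⟩,
  ⟨0, 0, [], [], [], [[0, 0, 0, 0, 0, 1, 0], [0, 0, 0, 0, 0, 0, 1]], 21, false⟩,
  ⟨2, 3, [0, -1, -1, -1, 0, 1, 0], [], [], [], 30, false⟩,
  ⟨2, 4, [0, -1, -1, -2, -1, 1], [], [], [], 32, false⟩,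
  ⟨0, 0, [], [], [], [[0, 0, 0, 0, 0, 1, 2]], 23, false⟩,
  ⟨3, 4, [-1, -1, -2, -3, -2, -1, 1], [], [], [], 27, true⟩,
  ⟨0, 0, [], [], [], [[-2, -3, -4, -6, -5, -4, 0], [0, 0, 0, 0, 0, 0, 1]], 25, false⟩,
  ⟨0, 0, [], [], [], [[-2, -3, -4, -6, -5, -4, -2]], 27, true⟩,
  ⟨0, 0, [], [], [], [[-2, -3, -4, -6, -5, -2, 1]], 31, false⟩,
  ⟨2, 4, [0, -1, -1, -2, -1, 0, 1], [], [], [], 56, false⟩,
  ⟨0, 0, [], [], [], [[0, 0, 0, 0, 0, 0, 1]], 31, false⟩,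
  ⟨2, 5, [0, -1, -1, -2, -2, -1, 1], [], [], [], 62, false⟩,
  ⟨0, 0, [], [], [], [], 72, false⟩,
  ⟨0, 0, [], [], [], [], 126, false⟩]

/-- the check -/
noncomputable def cE7_2 (j : ℕ) : Bool :=
  rowT tbE7 7 2 tpE7 (13, 21, 3, 31) 72 (nr tbE7 2 [(36, 30, 62, 60), (42, 40, 72, 72)] []) (rw0 rwE7 j) (xE7_2.getD j ⟨0, 0, [], [], [], [], 0, false⟩)

theorem cE7_2_0 : aL (fun j => cE7_2 (j + 0)) 39 = true := by
  delta cE7_2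
  rw [row_eq z2_eq (by decide)]
  decide +kernel

theorem cE7_2_39 : aL (fun j => cE7_2 (j + 39)) 2 = true := by
  delta cE7_2
  rw [row_eq z2_eq (by decide)]
  decide +kernel

theorem cE7_2_41 : aL (fun j => cE7_2 (j + 41)) 6 = true := by
  delta cE7_2
  rw [row_eq z2_eq (by decide)]
  decide +kernel

theorem allE7_2 : ∀ j < rwE7.length, cE7_2 j = true := fun j (hj : j < 47) => by
  by_cases h0 : j < 39
  · simpa only [Nat.sub_add_cancel (show 0 ≤ j by omega)] using aL_iff.1 cE7_2_0 (j - 0) (by omega)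
  by_cases h39 : j < 41
  · simpa only [Nat.sub_add_cancel (show 39 ≤ j by omega)] using aL_iff.1 cE7_2_39 (j - 39) (by omega)
  simpa only [Nat.sub_add_cancel (show 41 ≤ j by omega)] using aL_iff.1 cE7_2_41 (j - 41) (by omega)

/-- the certificates -/
def xE7_3 : List Rt := [⟨0, 0, [], [], [], [], 0, false⟩,
  ⟨0, 0, [], [], [], [], 2, false⟩,
  ⟨0, 0, [], [], [], [], 4, false⟩,
  ⟨0, 0, [], [], [], [[1, 0, 2, 3, 0, 0, 0], [0, 1, 0, 0, 0, 0, 0], [0, 0, 0, 0, 1, 0, 0], [0, 0, 0, 0, 0, 1, 0], [0, 0, 0, 0, 0, 0, 1]], 1, false⟩,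
  ⟨0, 0, [], [], [], [[0, 1, 0, 2, 1, 0, 0], [0, 0, 0, 0, 1, 2, 0], [1, 0, 2, 0, 0, 0, 0], [0, 0, 0, 0, 0, 0, 1]], 5, false⟩,
  ⟨0, 0, [], [], [], [[1, 1, 2, 2, 0, 0, 0], [0, 0, 0, 0, 1, 0, 0], [0, 0, 0, 0, 0, 1, 0], [0, 0, 0, 0, 0, 0, 1]], 5, false⟩,
  ⟨0, 0, [], [], [], [], 8, false⟩,
  ⟨0, 0, [], [], [], [], 8, false⟩,
  ⟨2, 9, [-1, -1, -1, 1], [], [], [], 8, false⟩,
  ⟨0, 0, [], [], [], [], 10, false⟩,
  ⟨2, 9, [-1, -1, -1, 1, 0], [], [], [], 10, false⟩,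
  ⟨0, 0, [], [], [], [], 12, false⟩,
  ⟨0, 0, [], [], [], [], 12, false⟩,
  ⟨0, 0, [], [], [], [], 12, false⟩,
  ⟨2, 5, [0, 0, -1, -1, -1, 1], [], [], [], 12, false⟩,
  ⟨0, 0, [], [], [], [], 14, false⟩,
  ⟨0, 0, [], [], [], [], 14, false⟩,
  ⟨0, 0, [], [], [], [], 14, false⟩,
  ⟨2, 2, [-1, 0, 0, 1, 0, 1, -1], [], [], [], 14, false⟩,
  ⟨2, 3, [0, -1, -1, -1, 1], [], [], [], 16, false⟩,
  ⟨0, 0, [], [], [], [], 16, false⟩,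
  ⟨0, 0, [], [], [], [], 18, false⟩,
  ⟨3, 3, [-1, -1, -2, -2, -1, 1], [], [], [], 18, false⟩,
  ⟨2, 3, [0, -1, -1, -1, 0, 1], [], [], [], 18, false⟩,
  ⟨0, 0, [], [], [], [], 20, false⟩,
  ⟨0, 0, [], [], [], [], 20, false⟩,
  ⟨0, 0, [], [], [], [], 22, false⟩,
  ⟨0, 0, [], [], [], [[0, 1, 0, 2, 1, 0, 0], [1, 0, 2, 0, 1, 2, 0], [0, 0, 0, 0, 0, 0, 1]], 13, false⟩,
  ⟨2, 3, [0, -1, -1, -1, 1, 0], [], [], [], 24, false⟩,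
  ⟨0, 0, [], [], [], [[0, 0, 0, 0, 1, 0, 0], [0, 0, 0, 0, 0, 0, 1]], 25, false⟩,
  ⟨0, 0, [], [], [], [[6, 9, 12, 18, 15, 10, 5]], 21, false⟩,
  ⟨2, 27, [-1, 0, 0, -1, -2, -1, 1], [], [], [], 26, false⟩,
  ⟨2, 3, [0, -1, -1, -1, 1, 0], [], [], [], 28, false⟩,
  ⟨0, 0, [], [], [], [[0, 0, 0, 0, 0, 1, 0], [-2, -3, -4, -6, -5, 0, -3]], 13, false⟩,
  ⟨0, 0, [], [], [], [[0, 0, 0, 0, 0, 1, 0], [0, 0, 0, 0, 0, 0, 1]], 13, false⟩,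
  ⟨2, 3, [0, -1, -1, -1, 0, 1, 0], [], [], [], 30, false⟩,
  ⟨2, 4, [0, -1, -1, -2, -1, 1], [], [], [], 32, false⟩,
  ⟨0, 0, [], [], [], [[0, 0, 0, 0, 0, 1, 2]], 31, false⟩,
  ⟨3, 4, [-1, -1, -2, -3, -2, -1, 1], [], [], [], 36, false⟩,
  ⟨0, 0, [], [], [], [[-2, -3, -4, -6, -5, -4, 0], [0, 0, 0, 0, 0, 0, 1]], 25, false⟩,
  ⟨0, 0, [], [], [], [[-2, -3, -4, -6, -5, -4, -2]], 27, true⟩,
  ⟨0, 0, [], [], [], [[-2, -3, -4, -6, -5, -2, 1]], 31, false⟩,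
  ⟨2, 4, [0, -1, -1, -2, -1, 0, 1], [], [], [], 56, false⟩,
  ⟨0, 0, [], [], [], [[0, 0, 0, 0, 0, 0, 1]], 31, true⟩,
  ⟨2, 5, [0, -1, -1, -2, -2, -1, 1], [], [], [], 62, false⟩,
  ⟨0, 0, [], [], [], [], 72, false⟩,
  ⟨0, 0, [], [], [], [], 126, false⟩]

/-- the check -/
noncomputable def cE7_3 (j : ℕ) : Bool :=
  rowT tbE7 7 3 tpE7 (25, 13, 5, 31) 72 (nr tbE7 3 [(42, 40, 60, 60)] [(60, 60, 42, 40)]) (rw0 rwE7 j) (xE7_3.getD j ⟨0, 0, [], [], [], [], 0, false⟩)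

theorem cE7_3_0 : aL (fun j => cE7_3 (j + 0)) 4 = true := by
  delta cE7_3
  rw [row_eq z3_eq (by decide)]
  decide +kernel

theorem cE7_3_4 : aL (fun j => cE7_3 (j + 4)) 1 = true := by
  delta cE7_3
  rw [row_eq z3_eq (by decide)]
  decide +kernel

theorem cE7_3_5 : aL (fun j => cE7_3 (j + 5)) 1 = true := by
  delta cE7_3
  rw [row_eq z3_eq (by decide)]
  decide +kernel

theorem cE7_3_6 : aL (fun j => cE7_3 (j + 6)) 22 = true := by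
  delta cE7_3
  rw [row_eq z3_eq (by decide)]
  decide +kernel

theorem cE7_3_28 : aL (fun j => cE7_3 (j + 28)) 2 = true := by
  delta cE7_3
  rw [row_eq z3_eq (by decide)]
  decide +kernel

theorem cE7_3_30 : aL (fun j => cE7_3 (j + 30)) 1 = true := by
  delta cE7_3
  rw [row_eq z3_eq (by decide)]
  decide +kernel

theorem cE7_3_31 : aL (fun j => cE7_3 (j + 31)) 3 = true := by
  delta cE7_3
  rw [row_eq z3_eq (by decide)]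
  decide +kernel

theorem cE7_3_34 : aL (fun j => cE7_3 (j + 34)) 1 = true := by
  delta cE7_3
  rw [row_eq z3_eq (by decide)]
  decide +kernel

theorem cE7_3_35 : aL (fun j => cE7_3 (j + 35)) 3 = true := by
  delta cE7_3
  rw [row_eq z3_eq (by decide)]
  decide +kernel

theorem cE7_3_38 : aL (fun j => cE7_3 (j + 38)) 2 = true := by
  delta cE7_3
  rw [row_eq z3_eq (by decide)]
  decide +kernel

theorem cE7_3_40 : aL (fun j => cE7_3 (j + 40)) 1 = true := by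
  delta cE7_3
  rw [row_eq z3_eq (by decide)]
  decide +kernel

theorem cE7_3_41 : aL (fun j => cE7_3 (j + 41)) 1 = true := by
  delta cE7_3
  rw [row_eq z3_eq (by decide)]
  decide +kernel

theorem cE7_3_42 : aL (fun j => cE7_3 (j + 42)) 2 = true := by
  delta cE7_3
  rw [row_eq z3_eq (by decide)]
  decide +kernel

theorem cE7_3_44 : aL (fun j => cE7_3 (j + 44)) 3 = true := by
  delta cE7_3
  rw [row_eq z3_eq (by decide)]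
  decide +kernel

theorem allE7_3 : ∀ j < rwE7.length, cE7_3 j = true := fun j (hj : j < 47) => by
  by_cases h0 : j < 4
  · simpa only [Nat.sub_add_cancel (show 0 ≤ j by omega)] using aL_iff.1 cE7_3_0 (j - 0) (by omega)
  by_cases h4 : j < 5
  · simpa only [Nat.sub_add_cancel (show 4 ≤ j by omega)] using aL_iff.1 cE7_3_4 (j - 4) (by omega)
  by_cases h5 : j < 6
  · simpa only [Nat.sub_add_cancel (show 5 ≤ j by omega)] using aL_iff.1 cE7_3_5 (j - 5) (by omega)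
  by_cases h6 : j < 28
  · simpa only [Nat.sub_add_cancel (show 6 ≤ j by omega)] using aL_iff.1 cE7_3_6 (j - 6) (by omega)
  by_cases h28 : j < 30
  · simpa only [Nat.sub_add_cancel (show 28 ≤ j by omega)] using aL_iff.1 cE7_3_28 (j - 28) (by omega)
  by_cases h30 : j < 31
  · simpa only [Nat.sub_add_cancel (show 30 ≤ j by omega)] using aL_iff.1 cE7_3_30 (j - 30) (by omega)
  by_cases h31 : j < 34
  · simpa only [Nat.sub_add_cancel (show 31 ≤ j by omega)] using aL_iff.1 cE7_3_31 (j - 31) (by omega)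
  by_cases h34 : j < 35
  · simpa only [Nat.sub_add_cancel (show 34 ≤ j by omega)] using aL_iff.1 cE7_3_34 (j - 34) (by omega)
  by_cases h35 : j < 38
  · simpa only [Nat.sub_add_cancel (show 35 ≤ j by omega)] using aL_iff.1 cE7_3_35 (j - 35) (by omega)
  by_cases h38 : j < 40
  · simpa only [Nat.sub_add_cancel (show 38 ≤ j by omega)] using aL_iff.1 cE7_3_38 (j - 38) (by omega)
  by_cases h40 : j < 41
  · simpa only [Nat.sub_add_cancel (show 40 ≤ j by omega)] using aL_iff.1 cE7_3_40 (j - 40) (by omega)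
  by_cases h41 : j < 42
  · simpa only [Nat.sub_add_cancel (show 41 ≤ j by omega)] using aL_iff.1 cE7_3_41 (j - 41) (by omega)
  by_cases h42 : j < 44
  · simpa only [Nat.sub_add_cancel (show 42 ≤ j by omega)] using aL_iff.1 cE7_3_42 (j - 42) (by omega)
  simpa only [Nat.sub_add_cancel (show 44 ≤ j by omega)] using aL_iff.1 cE7_3_44 (j - 44) (by omega)

theorem slE7 : sl tbE7 = true := by decide +kernel

theorem tpkE7 : ∀ f ∈ tpE7, f.1 ≠ 0 ∧ f.1 ≤ 30 := by decide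

variable {r h : ℕ} [Fact r.Prime]

theorem cnE7_2 {M : CoxeterMatrix (Fin 7)} {hp : IsType chevE7 7 M} {F G : LL 7 →+ ℤ} (S : Si hp r 2 h tpE7 F G) :
    Cn h (13, 21, 3, 31) 72 (Ne0 [(36, 30, 62, 60), (42, 40, 72, 72)] []) (Kl hp r F) (Kl hp 2 G) :=
  cn_of (gsE7 hp) (by decide) (by decide) (by decide) tpkE7 rowE7 (by decide) rfl ne0_of_image
    (nr_spec (gsE7 hp) slE7) allE7_2 S

theorem cnE7_3 {M : CoxeterMatrix (Fin 7)} {hp : IsType chevE7 7 M} {F G : LL 7 →+ ℤ} (S : Si hp r 3 h tpE7 F G) :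
    Cn h (25, 13, 5, 31) 72 (Ne0 [(42, 40, 60, 60)] [(60, 60, 42, 40)]) (Kl hp r F) (Kl hp 3 G) :=
  cn_of (gsE7 hp) (by decide) (by decide) (by decide) tpkE7 rowE7 (by decide) rfl ne0_of_image
    (nr_spec (gsE7 hp) slE7) allE7_3 S

end Cfsg.Agent.N2.Ex.Mu.Lt
end

-- part: N2/Ex/Al/SvE7
section
prune_inst 0x20206444700002000800001022003c6076000592002b8801f1e00d420d0f7345a0410720fad00e1091d492ec7848c00811000159421000002a00be00411a00a084af7ae2b67c1f043f000f40f807180c00000000000000000000000000041000000000000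
set_option linter.all false
private noncomputable def lq2621049049 {T : Sort _} (f :
    type_of% (@_root_.List.cons.{0}) →
    type_of% (@_root_.List.nil.{0}) →
    type_of% (@_root_.Prod.mk.{0, 0}) →
    type_of% (@_root_.List.cons.{0} (Prod Nat (Prod Nat (List Nat)))) →
    type_of% (@_root_.Cfsg.Agent.N2.Ex.Al.Ck.Ce.mk) →
    type_of% (@_root_.Sum.inl.{0, 0}) →
    type_of% (@_root_.Cfsg.Agent.N2.Ex.Al.Ck.CT.mk) →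
    type_of% (@_root_.Bool.true) →
    type_of% (@_root_.Bool.false) →
    type_of% (@_root_.Cfsg.Agent.N2.Ex.Al.Ck.En.mk) →
    type_of% (@_root_.Sum.inr.{0, 0}) →
    type_of% (@_root_.Cfsg.Agent.N2.Ex.Al.Ck.CA.mk) → T) : T :=
  f (@_root_.List.cons.{0}) (@_root_.List.nil.{0}) (@_root_.Prod.mk.{0, 0}) (@_root_.List.cons.{0} (Prod Nat (Prod Nat (List Nat)))) (@_root_.Cfsg.Agent.N2.Ex.Al.Ck.Ce.mk) (@_root_.Sum.inl.{0, 0}) (@_root_.Cfsg.Agent.N2.Ex.Al.Ck.CT.mk) (@_root_.Bool.true) (@_root_.Bool.false) (@_root_.Cfsg.Agent.N2.Ex.Al.Ck.En.mk) (@_root_.Sum.inr.{0, 0}) (@_root_.Cfsg.Agent.N2.Ex.Al.Ck.CA.mk)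

/-!
# N2, subgroups of maximal rank: the surviving rows of `E7` (helper40, generated data)
-/

set_option autoImplicit false
set_option maxRecDepth 100000

namespace Cfsg.Agent.N2.Ex.Al.Ck

open Cfsg Cfsg.Lie Cfsg.Agent.Nodes.RGDChev

/-- A1A1A1A1A1A1A1 -/
def svE7_18 : Sv where
  m := 10799978099577742348168948143911600211
  Δ := [0, 1, 4, 36, 6, 54, 60]
  dm := (beta% delta% lq2621049049 fun a b _ _ _ _ _ _ _ _ _ _ =>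
 (a 0<|a 1<|a 4<|a 6<|a 25<|a 36<|a 38<|a 47<|a 50<|a 54<|a 55<|a 59<|a 60<|a 62<|b))
  s := 14
  sq := (beta% delta% lq2621049049 fun a b c _ _ _ _ i j _ _ _ =>
 (a (c 0 i)<|a (c 25 j)<|a (c 1 i)<|a (c 38 j)<|a (c 60 i)<|a (c 4 i)<|a (c 36 i)<|a (c 47 j)<|b))
  co := (beta% delta% lq2621049049 fun a b _ _ _ _ _ _ _ _ _ _ =>
 (a (a 1<|a 0<|a 0<|a 0<|a 0<|a 0<|a 0<|a 0<|b)<|a (a 0<|a 0<|a 1<|a 0<|a 0<|a 0<|a 0<|a 0<|b)<|a (a (-1)<|a 1<|a (-1)<|a 1<|a 0<|a 0<|a 0<|a (-1)<|b)<|a (a 0<|a 0<|a 0<|a (-1)<|a 0<|a (-1)<|a 0<|a 1<|b)<|a (a 0<|a 0<|a 0<|a 0<|a 0<|a 1<|a 0<|a 0<|b)<|a (a 1<|a (-1)<|a 0<|a 1<|a 1<|a 1<|a 0<|a (-2)<|b)<|a (a (-1)<|a 0<|a 0<|a 0<|a (-1)<|a (-1)<|a 0<|a 2<|b)<|b))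
  ω := 168
  cl := (beta% delta% lq2621049049 fun a b c _ _ _ _ _ j _ _ _ =>
 (a (c j b)<|a (c j (a 11<|a 41<|b))<|a (c j (a 22<|a 49<|a 10<|a 8<|b))<|a (c j (a 24<|a 49<|a 10<|a 8<|b))<|a (c j (a 48<|a 27<|a 39<|a 37<|a 14<|a 13<|b))<|a (c j (a 48<|a 2<|a 39<|a 37<|a 14<|a 13<|b))<|b))
  lf := (beta% delta% lq2621049049 fun a b c d _ _ _ _ _ _ _ _ =>
 (let h:=(let h:=(let h:=(let h:=(let h:=(d (c 4340907292714350135<|c 2 (a 30<|a 26<|b))<|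
 d (c 4340907292715525179<|c 2 (a 16<|a 14<|a 30<|a 26<|b))<|
 d (c 4340946909540660783<|c 2 (a 40<|a 37<|a 14<|a 13<|b))<|
 d (c 4340946909544185915<|c 4 (a 45<|a 18<|a 58<|a 3<|b))<|
 d (c 4340966717963379759<|c 3 (a 26<|a 28<|a 16<|a 13<|b))<|
 d (c 4340966717965729847<|c 5 (a 16<|a 13<|b))<|b);
 (d (c 4340064001639973950<|c 3 (a 28<|a 26<|a 27<|a 2<|b))<|
 d (c 4340067266415638071<|c 3 (a 40<|a 37<|a 14<|a 13<|b))<|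
 d (c 4340067266419097918<|c 5 (a 27<|a 2<|b))<|
 d (c 4340122305918207031<|c 4 (a 10<|a 8<|a 27<|a 2<|b))<|
 d (c 4340122305918402863<|c 2 (a 27<|a 2<|a 40<|a 37<|a 14<|a 13<|b))<|
 h));
 (let h:=(d (c 4338976614768510523<|c 5 (a 45<|a 18<|a 58<|a 3<|b))<|
 d (c 4338976614768836911<|c 3 (a 30<|a 28<|a 16<|a 13<|b))<|
 d (c 4338943565834036283<|c 2 (a 56<|a 8<|a 27<|a 2<|b))<|
 d (c 4338943565836321086<|c 4 (a 54<|a 4<|a 58<|a 3<|b))<|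
 d (c 4340064001636709935<|c 1 (a 28<|a 30<|a 48<|a 2<|a 16<|a 13<|b))<|
 h);
 (d (c 4336689618235031607<|c 2 (a 48<|a 2<|a 16<|a 13<|b))<|
 d (c 4336691800380015678<|c 5 (a 54<|a 4<|a 58<|a 3<|b))<|
 d (c 4336691800380276795<|c 3 (a 16<|a 13<|b))<|
 d (c 4338938118911821374<|c 3 (a 48<|a 2<|a 30<|a 26<|b))<|
 d (c 4338938118909862959<|c 1 (a 48<|a 2<|a 16<|a 13<|b))<|
 h)));
 (let h:=(let h:=(d (c 3908601323791843387<|c 5 (a 56<|a 8<|a 49<|a 22<|b))<|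
 d (c 3908627750805578790<|c 2 (a 27<|a 2<|a 56<|a 8<|a 30<|a 26<|b))<|
 d (c 3908627750807928882<|c 4 (a 16<|a 13<|b))<|
 d (c 4336685232486090299<|c 2 (a 16<|a 13<|a 30<|a 26<|b))<|
 d (c 4336685232486220855<|c 2 (a 13<|a 14<|a 30<|a 26<|b))<|
 d (c 4336689618234639934<|c 4 (a 48<|a 2<|b))<|
 h);
 (d (c 3907783338760406054<|c 5 (a 8<|a 56<|a 24<|a 22<|b))<|
 d (c 3907783338760601906<|c 3 (a 28<|a 26<|a 10<|a 8<|a 27<|a 2<|b))<|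
 d (c 3908561689882410034<|c 2 (a 40<|a 37<|a 27<|a 2<|a 14<|a 13<|b))<|
 d (c 3908561689883976763<|c 3 (a 39<|a 37<|a 48<|a 2<|a 14<|a 13<|b))<|
 d (c 3908601323787926566<|c 2 (a 56<|a 10<|a 30<|a 26<|b))<|
 h));
 (let h:=(d (c 3905190588171158590<|c 3 (a 22<|a 24<|a 48<|a 27<|a 16<|a 13<|b))<|
 d (c 3907718364998679602<|c 1 (a 40<|a 37<|a 27<|a 2<|b))<|
 d (c 3907718365002335294<|c 2 (a 12<|a 41<|a 14<|a 13<|b))<|
 d (c 3907721714468994086<|c 3 (a 40<|a 37<|a 27<|a 2<|a 14<|a 13<|b))<|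
 d (c 3907721714472845630<|c 4 (a 27<|a 2<|b))<|
 h);
 (d (c 3905188478335583806<|c 5 (a 48<|a 2<|b))<|
 d (c 3905188478333625382<|c 2 (a 39<|a 37<|a 48<|a 2<|a 14<|a 13<|b))<|
 d (c 3905223675607254587<|c 3 (a 39<|a 37<|a 27<|a 2<|b))<|
 d (c 3905223675607385126<|c 4 (a 56<|a 8<|b))<|
 d (c 3905190588169069627<|c 1 (a 48<|a 27<|a 16<|a 13<|b))<|
 h))));
 (let h:=(let h:=(let h:=(d (c 3901806393518261819<|c 4 (a 8<|a 56<|a 24<|a 22<|b))<|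
 d (c 3901806393518588210<|c 5 (a 56<|a 8<|b))<|
 d (c 3901807480681793086<|c 2 (a 10<|a 56<|a 48<|a 2<|a 30<|a 26<|b))<|
 d (c 3901807480682184754<|c 3 (a 12<|a 41<|a 14<|a 13<|b))<|
 d (c 3901812939987878206<|c 2 (a 56<|a 10<|a 48<|a 27<|a 30<|a 26<|b))<|
 d (c 3901812939987943483<|c 2 (a 48<|a 27<|a 16<|a 13<|b))<|
 h);
 (d (c 447827950738089007<|c 1 (a 48<|a 2<|b))<|
 d (c 447866485113699366<|c 4 (a 30<|a 26<|b))<|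
 d (c 447866485117550895<|c 3 (a 24<|a 22<|a 48<|a 2<|b))<|
 d (c 447892861413827622<|c 3 (a 10<|a 8<|a 27<|a 2<|b))<|
 d (c 447892861416112434<|c 5 (a 24<|a 22<|b))<|
 h));
 (let h:=(d (c 446459131705177647<|c 2 (a 49<|a 24<|a 16<|a 13<|b))<|
 d (c 446459131708441638<|c 5 (a 24<|a 22<|a 10<|a 8<|b))<|
 d (c 446478850906661935<|c 1 (a 49<|a 24<|a 16<|a 13<|b))<|
 d (c 446478850908750903<|c 3 (a 45<|a 46<|a 61<|a 7<|a 14<|a 13<|b))<|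
 d (c 447827950736522290<|c 2 (a 12<|a 11<|a 14<|a 13<|b))<|
 h);
 (d (c 445579500948553783<|c 2 (a 48<|a 2<|b))<|
 d (c 445641095959807014<|c 4 (a 24<|a 22<|a 10<|a 8<|b))<|
 d (c 445641095960068146<|c 2 (a 27<|a 48<|a 56<|a 8<|a 30<|a 26<|b))<|
 d (c 446423912992224823<|c 4 (a 22<|a 24<|a 56<|a 8<|b))<|
 d (c 446423912993399846<|c 3 (a 27<|a 2<|b))<|
 h)));
 (let h:=(let h:=(d (c 443042949148049458<|c 2 (a 14<|a 13<|a 48<|a 2<|b))<|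
 d (c 443101202725470511<|c 2 (a 30<|a 28<|a 27<|a 2<|b))<|
 d (c 443101202725535799<|c 2 (a 48<|a 27<|a 30<|a 26<|b))<|
 d (c 445575051945983026<|c 3 (a 49<|a 22<|a 16<|a 13<|b))<|
 d (c 445575051949638711<|c 2 (a 40<|a 39<|a 27<|a 2<|a 14<|a 13<|b))<|
 d (c 445579500944636966<|c 5 (a 56<|a 10<|a 49<|a 22<|b))<|
 h);
 (d (c 2611591040909456921<|c 5 (a 10<|a 56<|a 24<|a 22<|b))<|
 d (c 2611591040912982066<|c 3 (a 56<|a 8<|a 30<|a 26<|b))<|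
 d (c 443041815810094647<|c 5 (a 22<|a 24<|a 56<|a 8<|b))<|
 d (c 443041815813554482<|c 4 (a 24<|a 22<|b))<|
 d (c 443042949144524335<|c 3 (a 12<|a 11<|a 14<|a 13<|b))<|
 h));
 (let h:=(d (c 2609620746137633074<|c 4 (a 22<|a 49<|a 10<|a 8<|b))<|
 d (c 2611524941399866418<|c 5 (a 14<|a 13<|b))<|
 d (c 2611524941400258103<|c 4 (a 14<|a 13<|b))<|
 d (c 2611584422314523673<|c 4 (a 49<|a 22<|a 56<|a 8<|b))<|
 d (c 2611584422318440503<|c 3 (a 30<|a 26<|b))<|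
 h);
 (d (c 2609555716876680242<|c 3 (a 14<|a 13<|b))<|
 d (c 2609555716880205374<|c 2 (a 48<|a 2<|a 30<|a 26<|b))<|
 d (c 2609561320902704153<|c 2 (a 48<|a 2<|a 14<|a 13<|b))<|
 d (c 2609561320906555710<|c 5 (a 30<|a 26<|b))<|
 d (c 2609620746137306649<|c 2 (a 48<|a 2<|a 56<|a 8<|a 30<|a 26<|b))<|
 h)))));
 (let h:=(let h:=(let h:=(let h:=(d (c 2608151640628672055<|c 2 (a 54<|a 36<|a 61<|a 7<|a 14<|a 13<|b))<|
 d (c 2608151640631805502<|c 2 (a 54<|a 36<|a 61<|a 7<|b))<|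
 d (c 2608153967494182425<|c 3 (a 27<|a 2<|a 14<|a 13<|b))<|
 d (c 2608153967497446462<|c 4 (a 49<|a 22<|b))<|
 d (c 2608206774133851673<|c 2 (a 39<|a 37<|a 48<|a 2<|b))<|
 d (c 2608206774133982263<|c 5 (a 49<|a 22<|b))<|
 h);
 (d (c 2601110526172070194<|c 2 (a 27<|a 2<|a 14<|a 13<|b))<|
 d (c 2601111596423971902<|c 2 (a 14<|a 13<|b))<|
 d (c 2601111596424233010<|c 1 (a 49<|a 22<|a 16<|a 13<|b))<|
 d (c 2601114873584681278<|c 3 (a 54<|a 36<|a 61<|a 7<|b))<|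
 d (c 2601114873584746551<|c 1 (a 48<|a 27<|a 30<|a 26<|b))<|
 h));
 (let h:=(d (c 304896988153986073<|c 5 (a 10<|a 8<|b))<|
 d (c 304896988157837615<|c 2 (a 37<|a 40<|a 48<|a 2<|a 14<|a 13<|b))<|
 d (c 304903572942829081<|c 4 (a 10<|a 8<|b))<|
 d (c 304903572946288946<|c 2 (a 56<|a 8<|a 30<|a 26<|b))<|
 d (c 2601110526171874359<|c 3 (a 48<|a 2<|a 14<|a 13<|b))<|
 h);
 (d (c 302310923940799547<|c 2 (a 39<|a 40<|a 48<|a 2<|b))<|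
 d (c 302363752020575769<|c 4 (a 8<|a 10<|a 49<|a 22<|b))<|
 d (c 302363752018617391<|c 3 (a 37<|a 39<|a 27<|a 2<|a 14<|a 13<|b))<|
 d (c 304838606767668274<|c 2 (a 56<|a 8<|a 48<|a 2<|a 30<|a 26<|b))<|
 d (c 304838606768059951<|c 3 (a 41<|a 11<|a 14<|a 13<|b))<|
 h)));
 (let h:=(let h:=(d (c 301466511895953467<|c 4 (a 49<|a 24<|a 56<|a 8<|b))<|
 d (c 301525924761830937<|c 3 (a 30<|a 28<|a 10<|a 8<|a 27<|a 2<|b))<|
 d (c 301525924762222642<|c 5 (a 10<|a 8<|a 24<|a 22<|b))<|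
 d (c 302343815787066927<|c 2 (a 22<|a 24<|a 48<|a 27<|a 16<|a 13<|b))<|
 d (c 302343815790200379<|c 2 (a 8<|a 56<|a 48<|a 27<|a 30<|a 26<|b))<|
 d (c 302310923939624473<|c 5 (a 8<|a 10<|a 49<|a 22<|b))<|
 h);
 (d (c 295307048743076143<|c 1 (a 30<|a 28<|a 27<|a 2<|b))<|
 d (c 295307048743141435<|c 3 (a 48<|a 27<|a 16<|a 13<|b))<|
 d (c 301459808337673266<|c 4 (a 10<|a 8<|a 24<|a 22<|b))<|
 d (c 301459808341198395<|c 5 (a 49<|a 24<|a 56<|a 8<|b))<|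
 d (c 301466511892036633<|c 3 (a 40<|a 39<|a 27<|a 2<|b))<|
 h));
 (let h:=(d (c 88730824588264486<|c 2 (a 14<|a 16<|a 27<|a 2<|a 30<|a 26<|b))<|
 d (c 295267453338985531<|c 2 (a 10<|a 8<|a 27<|a 2<|b))<|
 d (c 295267453341270322<|c 3 (a 37<|a 40<|a 48<|a 2<|a 14<|a 13<|b))<|
 d (c 295268603584848943<|c 1 (a 27<|a 2<|b))<|
 d (c 295268603587199026<|c 2 (a 41<|a 11<|a 14<|a 13<|b))<|
 h);
 (d (c 88669123188767782<|c 4 b)<|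
 d (c 88669123189159479<|c 5 b)<|
 d (c 88724155104771097<|c 3 (a 39<|a 37<|a 48<|a 2<|b))<|
 d (c 88724155108426807<|c 2 (a 30<|a 26<|a 16<|a 13<|b))<|
 d (c 88730824585000473<|c 2 (a 13<|a 16<|a 27<|a 2<|a 30<|a 26<|b))<|
 h))));
 (let h:=(let h:=(let h:=(d (c 87578408456174630<|c 5 (a 11<|a 41<|b))<|
 d (c 87578408459699771<|c 4 (a 11<|a 41<|b))<|
 d (c 87545478105021465<|c 2 (a 30<|a 28<|a 16<|a 13<|b))<|
 d (c 87545478106588219<|c 3 (a 39<|a 37<|a 14<|a 13<|b))<|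
 d (c 87604941860111897<|c 2 (a 24<|a 22<|a 48<|a 2<|b))<|
 d (c 87604941858153510<|c 2 (a 27<|a 2<|a 30<|a 26<|b))<|
 h);
 (d (c 82753751537288763<|c 3 (a 30<|a 28<|a 27<|a 2<|b))<|
 d (c 82760476513023513<|c 4 (a 12<|a 11<|b))<|
 d (c 82760476516548667<|c 5 (a 12<|a 11<|b))<|
 d (c 82813270787884569<|c 5 (a 12<|a 41<|b))<|
 d (c 82813270788276279<|c 4 (a 12<|a 41<|b))<|
 h));
 (let h:=(d (c 79099120005948454<|c 2 (a 27<|a 2<|b))<|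
 d (c 79099120008298551<|c 3 (a 48<|a 2<|b))<|
 d (c 79134288003466278<|c 3 (a 40<|a 37<|a 48<|a 2<|b))<|
 d (c 79134288003727419<|c 2 (a 16<|a 13<|b))<|
 d (c 82753751534155319<|c 3 (a 48<|a 27<|a 30<|a 26<|b))<|
 h);
 (d (c 17510985463768111<|c 1 (a 24<|a 22<|b))<|
 d (c 17517621136340505<|c 3 (a 24<|a 22<|b))<|
 d (c 17517621137515558<|c 1 (a 36<|a 0<|a 30<|a 28<|a 61<|a 7<|b))<|
 d (c 79094632671355963<|c 1 (a 16<|a 13<|b))<|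
 d (c 79094632673444919<|c 1 (a 30<|a 26<|b))<|
 h)));
 (let h:=(let h:=(d (c 13236084791837758<|c 2 (a 12<|a 11<|b))<|
 d (c 13295560908080665<|c 1 (a 54<|a 0<|a 16<|a 14<|a 61<|a 7<|b))<|
 d (c 13295560908211238<|c 3 (a 49<|a 22<|b))<|
 d (c 17491138453060646<|c 3 (a 11<|a 41<|b))<|
 d (c 17491138453452335<|c 2 (a 24<|a 22<|b))<|
 d (c 17510985462201369<|c 2 (a 12<|a 41<|b))<|
 h);
 (d (c 10755689098053145<|c 3 (a 12<|a 41<|b))<|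
 d (c 10755689098379567<|c 2 (a 10<|a 8<|a 24<|a 22<|b))<|
 d (c 13233830232472614<|c 2 (a 8<|a 56<|a 24<|a 22<|b))<|
 d (c 13233830235997758<|c 3 b)<|
 d (c 13236084788182041<|c 1 (a 56<|a 8<|b))<|
 h));
 (let h:=(d (c 7076723225264431<|c 1 (a 10<|a 8<|b))<|
 d (c 10697257007855151<|c 1 (a 45<|a 18<|a 58<|a 3<|b))<|
 d (c 10697257010988606<|c 1 (a 54<|a 36<|a 61<|a 7<|b))<|
 d (c 10702848652293657<|c 2 (a 56<|a 8<|b))<|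
 d (c 10702848655753534<|c 3 (a 12<|a 11<|b))<|
 h);
 (a (c 7038138145055791<|c 0 b)<|
 a (c 7038138147144766<|c 1 b)<|
 a (c 7041475233784870<|c 1 (a 49<|a 22<|b))<|
 a (c 7041475236069694<|c 2 b)<|
 a (c 7076723225068582<|c 2 (a 11<|a 41<|b))<|
 h)))))))
  q₁ := 10
  k₁ := 28
  ev := false
  lg := (0, [], 0)

/-- inverted roots -/
def ivE7_18 : List (ℕ × List ℕ × ℕ) := []

/-- the certificates -/
def ceE7_18 : List (List (ℕ × Ce)) := (beta% delta% lq2621049049 fun a b c _ e f g _ j k l m =>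
 (a (a (c 2 (e 8725325740 b 0 b (l (f (m (a 27<|a 2<|a 40<|a 37<|a 14<|a 13<|b) j 7 1 18 (a (k 0 1 0 0 0 b)<|a (k 2 1 0 0 0 b)<|a (k 3 1 0 0 0 b)<|a (k 5 1 0 0 0 b)<|a (k 7 1 0 0 0 b)<|a (k 8 1 0 0 0 b)<|a (k 9 1 0 0 0 b)<|a (k 10 1 0 0 0 b)<|a (k 11 1 0 0 0 b)<|a (k 12 1 0 0 0 b)<|a (k 15 1 0 0 0 b)<|a (k 16 1 0 0 0 b)<|a (k 18 1 0 0 0 b)<|a (k 25 1 0 0 0 b)<|a (k 34 1 0 0 0 b)<|a (k 42 1 0 0 0 b)<|a (k 63 1 0 0 0 b)<|a (k 88 1 0 0 0 b)<|b))))))<|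
 a (c 3 (e 45879180693687295 (a 60<|a 6<|a 1<|a 54<|b) 0 b (f (g 8 (a 4<|a 0<|a 4<|a 0<|a 0<|a 5<|a 4<|b) (a 0<|a 0<|a 4<|a 4<|a 0<|a 0<|a 6<|b) (a 0<|a 4<|a 5<|a 5<|a 4<|a 2<|a 4<|b) (a 51<|a 61<|b) 0 0 b))))<|
 a (c 4 (e 2507779081543395178097 (a 54<|a 54<|a 6<|b) 0 b (f (g 15 (a 5<|a 5<|a 10<|a 10<|a 0<|a 6<|a 3<|b) (a 10<|a 10<|a 5<|a 5<|a 0<|a 3<|a 9<|b) (a 0<|a 0<|a 0<|a 0<|a 0<|a 0<|a 0<|b) b 0 0 b))))<|
 a (c 5 (e 11536965352363910807376271 (a 54<|a 60<|a 1<|a 60<|b) 0 b (f (g 24 (a 0<|a 8<|a 10<|a 10<|a 0<|a 10<|a 12<|b) (a 12<|a 16<|a 5<|a 5<|a 12<|a 5<|a 18<|b) (a 0<|a 0<|a 0<|a 0<|a 0<|a 0<|a 0<|b) b 0 0 b))))<|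
 a (c 7 (e 3714607986279463294898251748591 (a 54<|a 6<|a 36<|a 60<|a 54<|a 36<|a 54<|a 6<|a 4<|b) 0 b (f (g 48 (a 0<|a 0<|a 28<|a 18<|a 36<|a 8<|a 0<|b) (a 24<|a 24<|a 14<|a 9<|a 42<|a 28<|a 24<|b) (a 0<|a 0<|a 0<|a 0<|a 0<|a 0<|a 0<|b) b 0 0 b))))<|
 a (c 8 (e 564430101564134991562949936829498 (a 60<|a 1<|a 4<|a 54<|a 4<|a 4<|a 6<|a 54<|a 60<|b) 0 b (f (g 63 (a 18<|a 0<|a 0<|a 58<|a 28<|a 1<|a 42<|b) (a 9<|a 0<|a 0<|a 29<|a 14<|a 32<|a 21<|b) (a 0<|a 0<|a 0<|a 0<|a 0<|a 0<|a 0<|b) b 0 0 b))))<|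
 a (c 9 (e 47247028047381859686182541362559840 (a 54<|a 1<|b) 0 b (f (g 80 (a 40<|a 64<|a 58<|a 20<|a 60<|a 18<|a 0<|b) (a 20<|a 72<|a 69<|a 50<|a 30<|a 9<|a 0<|b) (a 0<|a 0<|a 0<|a 0<|a 0<|a 0<|a 0<|b) b 0 0 b))))<|b)<|
 a (a (c 2 (e 8725325740 (a 4<|a 36<|a 4<|a 6<|a 4<|a 0<|a 0<|a 1<|a 4<|b) 0 b (f (g 15 (a 0<|a 5<|a 9<|a 2<|a 6<|a 3<|a 0<|b) (a 0<|a 10<|a 12<|a 1<|a 3<|a 9<|a 0<|b) (a 0<|a 0<|a 0<|a 0<|a 0<|a 0<|a 0<|b) b 0 0 b))))<|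
 a (c 3 (e 45879180693687295 (a 0<|a 4<|a 4<|a 4<|a 54<|b) 0 b (f (g 5 (a 0<|a 0<|a 1<|a 4<|a 0<|a 3<|a 1<|b) (a 0<|a 0<|a 3<|a 2<|a 0<|a 4<|a 3<|b) (a 0<|a 0<|a 0<|a 0<|a 0<|a 0<|a 0<|b) b 0 0 b))))<|
 a (c 4 (e 2507779081543395178097 b 0 b (f (g 15 (a 0<|a 10<|a 9<|a 10<|a 1<|a 14<|a 11<|b) (a 0<|a 5<|a 12<|a 5<|a 8<|a 7<|a 13<|b) (a 0<|a 0<|a 0<|a 0<|a 0<|a 0<|a 0<|b) b 0 0 b))))<|
 a (c 5 (e 11536965352363910807376271 b 0 b (f (g 12 (a 0<|a 0<|a 10<|a 4<|a 10<|a 6<|a 6<|b) (a 0<|a 6<|a 5<|a 8<|a 11<|a 9<|a 3<|b) (a 0<|a 0<|a 0<|a 0<|a 0<|a 0<|a 0<|b) b 0 0 b))))<|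
 a (c 7 (e 3714607986279463294898251748591 (a 6<|a 54<|a 0<|a 54<|b) 0 b (f (g 300 (a 0<|a 200<|a 62<|a 138<|a 0<|a 96<|a 132<|b) (a 0<|a 100<|a 181<|a 69<|a 150<|a 48<|a 216<|b) (a 0<|a 0<|a 0<|a 0<|a 0<|a 0<|a 0<|b) b 0 0 b))))<|
 a (c 8 (e 564430101564134991562949936829498 b 0 b (f (g 21 (a 0<|a 18<|a 13<|a 6<|a 20<|a 1<|a 5<|b) (a 0<|a 9<|a 17<|a 3<|a 10<|a 11<|a 13<|b) (a 0<|a 0<|a 0<|a 0<|a 0<|a 0<|a 0<|b) b 0 0 b))))<|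
 a (c 9 (e 47247028047381859686182541362559840 (a 0<|a 1<|a 4<|a 1<|a 4<|a 4<|b) 0 b (f (g 80 (a 64<|a 20<|a 40<|a 78<|a 0<|a 64<|a 76<|b) (a 72<|a 50<|a 60<|a 39<|a 0<|a 72<|a 78<|b) (a 0<|a 0<|a 0<|a 0<|a 0<|a 0<|a 0<|b) b 0 0 b))))<|b)<|
 a (a (c 2 (e 8725325740 (a 54<|a 36<|b) 0 b (f (g 9 (a 0<|a 4<|a 1<|a 3<|a 8<|a 7<|a 6<|b) (a 0<|a 2<|a 5<|a 6<|a 4<|a 8<|a 3<|b) (a 0<|a 0<|a 0<|a 0<|a 0<|a 0<|a 0<|b) b 0 0 b))))<|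
 a (c 3 (e 45879180693687295 (a 60<|a 0<|a 4<|b) 0 b (f (g 7 (a 0<|a 0<|a 1<|a 6<|a 0<|a 4<|a 2<|b) (a 0<|a 0<|a 4<|a 3<|a 0<|a 2<|a 1<|b) (a 0<|a 0<|a 0<|a 0<|a 0<|a 0<|a 0<|b) b 0 0 b))))<|
 a (c 4 (e 2507779081543395178097 (a 0<|a 6<|a 1<|a 4<|a 54<|a 1<|b) 0 b (f (g 315 (a 252<|a 252<|a 253<|a 188<|a 252<|a 130<|a 170<|b) (a 126<|a 126<|a 284<|a 94<|a 126<|a 65<|a 85<|b) (a 0<|a 0<|a 0<|a 0<|a 0<|a 0<|a 0<|b) b 0 0 b))))<|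
 a (c 5 (e 11536965352363910807376271 (a 1<|a 6<|b) 0 b (f (g 63 (a 0<|a 2<|a 24<|a 58<|a 10<|a 57<|a 44<|b) (a 0<|a 1<|a 12<|a 29<|a 5<|a 60<|a 22<|b) (a 0<|a 0<|a 0<|a 0<|a 0<|a 0<|a 0<|b) b 0 0 b))))<|
 a (c 7 (e 3714607986279463294898251748591 (a 60<|a 1<|a 0<|a 1<|a 1<|a 0<|b) 0 b (f (g 344 (a 0<|a 128<|a 326<|a 62<|a 208<|a 90<|a 142<|b) (a 0<|a 236<|a 335<|a 31<|a 276<|a 217<|a 71<|b) (a 0<|a 0<|a 0<|a 0<|a 0<|a 0<|a 0<|b) b 0 0 b))))<|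
 a (c 8 (e 564430101564134991562949936829498 (a 0<|a 6<|b) 0 b (f (g 4599 (a 0<|a 4500<|a 2453<|a 1723<|a 3807<|a 3564<|a 1022<|b) (a 0<|a 2250<|a 3526<|a 3161<|a 4203<|a 1782<|a 511<|b) (a 0<|a 0<|a 0<|a 0<|a 0<|a 0<|a 0<|b) b 0 0 b))))<|
 a (c 9 (e 47247028047381859686182541362559840 (a 4<|a 6<|a 0<|b) 0 b (f (g 365 (a 146<|a 194<|a 43<|a 103<|a 79<|a 150<|a 333<|b) (a 73<|a 97<|a 204<|a 234<|a 222<|a 75<|a 349<|b) (a 0<|a 0<|a 0<|a 0<|a 0<|a 0<|a 0<|b) b 0 0 b))))<|b)<|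
 a (a (c 2 (e 8725325740 (a 60<|a 36<|b) 0 b (f (g 85 (a 0<|a 55<|a 9<|a 70<|a 25<|a 48<|a 51<|b) (a 0<|a 70<|a 47<|a 35<|a 55<|a 24<|a 68<|b) (a 0<|a 0<|a 0<|a 0<|a 0<|a 0<|a 0<|b) b 0 0 b))))<|
 a (c 3 (e 45879180693687295 (a 54<|a 6<|a 4<|a 4<|a 60<|a 54<|a 0<|b) 0 b (f (g 205 (a 0<|a 55<|a 38<|a 180<|a 165<|a 36<|a 82<|b) (a 0<|a 130<|a 19<|a 90<|a 185<|a 18<|a 41<|b) (a 0<|a 0<|a 0<|a 0<|a 0<|a 0<|a 0<|b) b 0 0 b))))<|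
 a (c 4 (e 2507779081543395178097 (a 60<|a 1<|a 6<|b) 0 b (f (g 17 (a 0<|a 6<|a 7<|a 10<|a 7<|a 11<|a 16<|b) (a 0<|a 3<|a 12<|a 5<|a 12<|a 14<|a 8<|b) (a 0<|a 0<|a 0<|a 0<|a 0<|a 0<|a 0<|b) b 0 0 b))))<|
 a (c 5 (e 11536965352363910807376271 (a 54<|a 4<|a 54<|a 36<|a 4<|a 0<|a 4<|a 60<|a 1<|b) 0 b (f (g 12207 (a 4069<|a 2730<|a 3475<|a 3237<|a 10764<|a 11247<|a 8451<|b) (a 8138<|a 1365<|a 7841<|a 7722<|a 5382<|a 11727<|a 10329<|b) (a 0<|a 0<|a 0<|a 0<|a 0<|a 0<|a 0<|b) b 0 0 b))))<|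
 a (c 7 (e 3714607986279463294898251748591 (a 1<|a 54<|a 54<|a 0<|a 54<|a 60<|a 36<|b) 0 b (f (g 4804 (a 0<|a 2156<|a 2226<|a 1160<|a 680<|a 1908<|a 0<|b) (a 2402<|a 3480<|a 1113<|a 580<|a 340<|a 3356<|a 0<|b) (a 0<|a 0<|a 0<|a 0<|a 0<|a 0<|a 0<|b) b 0 0 b))))<|
 a (c 8 (e 564430101564134991562949936829498 (a 6<|a 6<|a 0<|a 36<|a 4<|a 36<|b) 0 b (f (g 86037 (a 57358<|a 58779<|a 70911<|a 79506<|a 45990<|a 10638<|a 4097<|b) (a 28679<|a 72408<|a 78474<|a 39753<|a 22995<|a 5319<|a 45067<|b) (a 0<|a 0<|a 0<|a 0<|a 0<|a 0<|a 0<|b) b 0 0 b))))<|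
 a (c 9 (e 47247028047381859686182541362559840 (a 0<|a 60<|a 54<|a 54<|a 0<|b) 0 b (f (g 16405 (a 0<|a 15780<|a 8921<|a 13890<|a 10780<|a 955<|a 9843<|b) (a 0<|a 7890<|a 12663<|a 6945<|a 5390<|a 8680<|a 13124<|b) (a 0<|a 0<|a 0<|a 0<|a 0<|a 0<|a 0<|b) b 0 0 b))))<|b)<|
 a (a (c 2 (e 8725325740 (a 36<|a 60<|a 60<|a 4<|a 0<|a 60<|a 0<|a 0<|b) 0 b (f (g 127 (a 107<|a 87<|a 118<|a 93<|a 80<|a 68<|a 10<|b) (a 117<|a 107<|a 59<|a 110<|a 40<|a 34<|a 5<|b) (a 0<|a 0<|a 0<|a 0<|a 0<|a 0<|a 0<|b) b 0 0 b))))<|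
 a (c 3 (e 45879180693687295 (a 36<|a 0<|a 60<|b) 0 b (f (g 547 (a 46<|a 138<|a 257<|a 316<|a 414<|a 279<|a 167<|b) (a 23<|a 69<|a 402<|a 158<|a 207<|a 413<|a 357<|b) (a 0<|a 0<|a 0<|a 0<|a 0<|a 0<|a 0<|b) b 0 0 b))))<|
 a (c 4 (e 2507779081543395178097 (a 54<|a 1<|b) 0 b (f (g 16383 (a 3349<|a 2987<|a 7245<|a 2710<|a 11948<|a 5907<|a 4933<|b) (a 9866<|a 9685<|a 11814<|a 1355<|a 5974<|a 11145<|a 10658<|b) (a 0<|a 0<|a 0<|a 0<|a 0<|a 0<|a 0<|b) b 0 0 b))))<|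
 a (c 5 (e 11536965352363910807376271 (a 4<|a 0<|a 1<|b) 0 b (f (g 13021 (a 1270<|a 6671<|a 1676<|a 4255<|a 5708<|a 5298<|a 12767<|b) (a 635<|a 9846<|a 838<|a 8638<|a 2854<|a 2649<|a 12894<|b) (a 0<|a 0<|a 0<|a 0<|a 0<|a 0<|a 0<|b) b 0 0 b))))<|
 a (c 7 (e 3714607986279463294898251748591 (a 0<|a 6<|a 6<|b) 0 b (f (g 411772 (a 400862<|a 335402<|a 129528<|a 260656<|a 288954<|a 198588<|a 354506<|b) (a 406317<|a 373587<|a 64764<|a 130328<|a 144477<|a 99294<|a 177253<|b) (a 0<|a 0<|a 0<|a 0<|a 0<|a 0<|a 0<|b) b 0 0 b))))<|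
 a (c 8 (e 564430101564134991562949936829498 (a 54<|a 60<|a 6<|a 4<|a 4<|a 4<|b) 0 b (f (g 42799 (a 11394<|a 5554<|a 350<|a 22849<|a 41166<|a 13229<|a 12124<|b) (a 5697<|a 2777<|a 175<|a 32824<|a 20583<|a 28014<|a 6062<|b) (a 0<|a 0<|a 0<|a 0<|a 0<|a 0<|a 0<|b) b 0 0 b))))<|
 a (c 9 (e 47247028047381859686182541362559840 (a 4<|a 1<|a 1<|a 6<|b) 0 b (f (g 597871 (a 429715<|a 280209<|a 193885<|a 213983<|a 467474<|a 284800<|a 579187<|b) (a 513793<|a 439040<|a 395878<|a 405927<|a 233737<|a 142400<|a 588529<|b) (a 0<|a 0<|a 0<|a 0<|a 0<|a 0<|a 0<|b) b 0 0 b))))<|b)<|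
 a (a (c 2 (e 8725325740 (a 60<|a 1<|a 36<|a 6<|b) 0 b (f (g 127 (a 23<|a 81<|a 48<|a 60<|a 35<|a 90<|a 13<|b) (a 75<|a 104<|a 24<|a 30<|a 81<|a 45<|a 70<|b) (a 0<|a 0<|a 0<|a 0<|a 0<|a 0<|a 0<|b) b 0 0 b))))<|
 a (c 3 (e 45879180693687295 (a 60<|a 1<|a 36<|a 36<|a 1<|b) 0 b (f (g 547 (a 51<|a 153<|a 492<|a 91<|a 459<|a 383<|a 245<|b) (a 299<|a 350<|a 246<|a 319<|a 503<|a 465<|a 396<|b) (a 0<|a 0<|a 0<|a 0<|a 0<|a 0<|a 0<|b) b 0 0 b))))<|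
 a (c 4 (e 2507779081543395178097 b 0 b (f (g 16383 (a 8941<|a 2998<|a 14412<|a 5132<|a 11992<|a 788<|a 11659<|b) (a 12662<|a 1499<|a 7206<|a 2566<|a 5996<|a 394<|a 14021<|b) (a 0<|a 0<|a 0<|a 0<|a 0<|a 0<|a 0<|b) b 0 0 b))))<|
 a (c 5 (e 11536965352363910807376271 (a 36<|a 60<|a 60<|a 0<|a 1<|a 60<|a 0<|a 6<|b) 0 b (f (g 19531 (a 10733<|a 4928<|a 5569<|a 6526<|a 5109<|a 3972<|a 10539<|b) (a 15132<|a 2464<|a 12550<|a 3263<|a 12320<|a 1986<|a 15035<|b) (a 0<|a 0<|a 0<|a 0<|a 0<|a 0<|a 0<|b) b 0 0 b))))<|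
 a (c 7 (e 3714607986279463294898251748591 (a 0<|b) 0 b (f (g 102943 (a 38191<|a 61451<|a 22685<|a 85982<|a 18385<|a 31743<|a 77321<|b) (a 70567<|a 82197<|a 62814<|a 42991<|a 60664<|a 67343<|a 90132<|b) (a 0<|a 0<|a 0<|a 0<|a 0<|a 0<|a 0<|b) b 0 0 b))))<|
 a (c 8 (e 564430101564134991562949936829498 (a 1<|a 1<|a 60<|a 60<|a 0<|a 54<|a 0<|a 60<|a 54<|b) 0 b (f (g 233017 (a 120684<|a 33404<|a 4904<|a 113059<|a 34215<|a 232404<|a 140410<|b) (a 60342<|a 16702<|a 2452<|a 173038<|a 133616<|a 116202<|a 70205<|b) (a 0<|a 0<|a 0<|a 0<|a 0<|a 0<|a 0<|b) b 0 0 b))))<|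
 a (c 9 (e 47247028047381859686182541362559840 (a 0<|a 36<|a 0<|a 4<|a 1<|a 36<|a 36<|b) 0 b (f (g 2391485 (a 1818722<|a 371897<|a 2115400<|a 9328<|a 1435897<|a 1329931<|a 1516377<|b) (a 909361<|a 1381691<|a 1057700<|a 4664<|a 1913691<|a 1860708<|a 1953931<|b) (a 0<|a 0<|a 0<|a 0<|a 0<|a 0<|a 0<|b) b 0 0 b))))<|b)<|b))

theorem svsE7_18 : tbE7.svs 7 svE7_18 = true := by decide +kernel

private noncomputable def _root_.Cfsg.Agent.LsF.f90fa7f_0 : {f // @Cfsg.Agent.N2.Ex.Al.Ck.lA = f} := ⟨_, by first | (delta Cfsg.Agent.N2.Ex.Al.Ck.lA; rewrite [Cfsg.Agent.LsF.and_eq]; exact rfl) | exact rfl⟩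
private noncomputable def _root_.Cfsg.Agent.LsF.f90fa7f_1 : {f // @Cfsg.Agent.N2.Ex.Al.Ck.Tb.cmp = f} := ⟨_, by first | (delta Cfsg.Agent.N2.Ex.Al.Ck.Tb.cmp; rewrite [Cfsg.Agent.LsF.f90fa7f_0.2, Cfsg.Agent.LsF.and_eq]; exact rfl) | exact rfl⟩
private noncomputable def _root_.Cfsg.Agent.LsF.f90fa7f_2 : {f // @Cfsg.Agent.N2.Ex.Al.Ck.Tb.dfs = f} := ⟨_, by first | (delta Cfsg.Agent.N2.Ex.Al.Ck.Tb.dfs; rewrite [Cfsg.Agent.LsF.f90fa7f_1.2, Cfsg.Agent.LsF.cond_eq]; exact rfl) | exact rfl⟩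
private noncomputable def _root_.Cfsg.Agent.LsF.f90fa7f_3 : {f // @Cfsg.Agent.N2.Ex.Al.Ck.lE = f} := ⟨_, by first | (delta Cfsg.Agent.N2.Ex.Al.Ck.lE; rewrite [Cfsg.Agent.LsF.or_eq]; exact rfl) | exact rfl⟩
private noncomputable def _root_.Cfsg.Agent.LsF.f90fa7f_4 : {f // @Cfsg.Agent.N2.Ex.Al.Ck.Tb.lt = f} := ⟨_, by first | (delta Cfsg.Agent.N2.Ex.Al.Ck.Tb.lt; rewrite [Cfsg.Agent.LsF.f90fa7f_0.2]; exact rfl) | exact rfl⟩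
private noncomputable def _root_.Cfsg.Agent.LsF.f90fa7f_5 : {f // @Cfsg.Agent.N2.Ex.Al.Ck.Tb.ag = f} := ⟨_, by first | (delta Cfsg.Agent.N2.Ex.Al.Ck.Tb.ag; rewrite [Cfsg.Agent.LsF.cond_eq]; exact rfl) | exact rfl⟩
private noncomputable def _root_.Cfsg.Agent.LsF.f90fa7f_6 : {f // @Cfsg.Agent.N2.Ex.Al.Ck.Tb.lfc = f} := ⟨_, by first | (delta Cfsg.Agent.N2.Ex.Al.Ck.Tb.lfc; rewrite [Cfsg.Agent.LsF.f90fa7f_3.2, Cfsg.Agent.LsF.f90fa7f_4.2, Cfsg.Agent.LsF.f90fa7f_0.2, Cfsg.Agent.LsF.f90fa7f_5.2, Cfsg.Agent.LsF.and_eq, Cfsg.Agent.LsF.testBit_eq, Cfsg.Agent.LsF.getD_eq, Cfsg.Agent.LsF.length_eq]; exact rfl) | exact rfl⟩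
private noncomputable def _root_.Cfsg.Agent.LsF.f90fa7f_7 : {f // @Cfsg.Agent.N2.Ex.Al.Ck.Tb.svd = f} := ⟨_, by first | (delta Cfsg.Agent.N2.Ex.Al.Ck.Tb.svd; rewrite [Cfsg.Agent.LsF.f90fa7f_2.2, Cfsg.Agent.LsF.f90fa7f_6.2, Cfsg.Agent.LsF.cond_eq]; exact rfl) | exact rfl⟩
theorem svdE7_18 : tbE7.svd svE7_18 = true := by ((try (rewrite [Cfsg.Agent.LsF.f90fa7f_7.2])); decide +kernel)

theorem svcE7_18 : aL (tbE7.svc 7 svE7_18 ivE7_18 ceE7_18) 6 = true := by decide +kernel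

theorem goodE7_18 {M : CoxeterMatrix (Fin 7)} (hp : IsType chevE7 7 M) : Good hp tbE7 10799978099577742348168948143911600211 :=
  (gsE7 hp).good_sv (fun h => absurd h (by decide)) svsE7_18 svdE7_18 (aL_iff.1 svcE7_18)

/-- D4A1A1A1 -/
def svE7_35 : Sv where
  m := 74626287254162092864136710113678328023
  Δ := [0, 1, 2, 4, 6, 27, 48]
  dm := [1, 4, 6, 50, 55, 59, 62]
  s := 30
  sq := (beta% delta% lq2621049049 fun a b c _ _ _ _ i j _ _ _ =>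
 (a (c 0 i)<|a (c 2 i)<|a (c 27 i)<|a (c 48 i)<|a (c 50 j)<|a (c 1 i)<|a (c 55 j)<|b))
  co := (beta% delta% lq2621049049 fun a b _ _ _ _ _ _ _ _ _ _ =>
 (a (a 1<|a 0<|a 0<|a 0<|a 0<|a 0<|a 0<|b)<|a (a 0<|a 0<|a 0<|a 0<|a 0<|a 1<|a 0<|b)<|a (a 0<|a 1<|a 0<|a 0<|a 0<|a 0<|a 0<|b)<|a (a 0<|a 0<|a 0<|a 0<|a (-1)<|a (-1)<|a 1<|b)<|a (a 0<|a (-1)<|a 1<|a 0<|a 2<|a 1<|a (-2)<|b)<|a (a 1<|a 1<|a 0<|a 1<|a (-1)<|a 0<|a 0<|b)<|a (a (-2)<|a (-1)<|a (-2)<|a (-1)<|a 0<|a (-1)<|a 2<|b)<|b))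
  ω := 6
  cl := (beta% delta% lq2621049049 fun a b c _ _ _ _ _ j _ _ _ =>
 (a (c j b)<|a (c j (a 12<|a 11<|b))<|a (c j (a 24<|a 22<|a 10<|a 8<|b))<|b))
  lf := (beta% delta% lq2621049049 fun a b c _ _ _ _ _ _ _ _ _ =>
 (a (c 2315795956023<|c 0 b)<|
 a (c 2405637947707<|c 1 b)<|
 a (c 29696212796466<|c 1 (a 24<|a 22<|b))<|
 a (c 29893009540155<|c 2 b)<|
 a (c 52785604920882<|c 2 (a 12<|a 11<|b))<|
 a (c 52892559672887<|c 1 (a 10<|a 8<|b))<|b))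
  q₁ := 12
  k₁ := 22
  ev := false
  lg := (0, [], 0)

/-- inverted roots -/
def ivE7_35 : List (ℕ × List ℕ × ℕ) := []

/-- the certificates -/
def ceE7_35 : List (List (ℕ × Ce)) := (beta% delta% lq2621049049 fun a b c _ e f g _ _ _ _ _ =>
 (a (a (c 2 (e 657164885 (a 48<|a 51<|a 54<|a 62<|a 4<|a 60<|a 27<|a 48<|b) 0 b (f (g 15 (a 12<|a 0<|a 9<|a 8<|a 0<|a 1<|a 0<|b) (a 6<|a 0<|a 12<|a 4<|a 0<|a 8<|a 0<|b) (a 0<|a 0<|a 0<|a 0<|a 0<|a 0<|a 0<|b) b 0 0 b))))<|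
 a (c 3 (e 397516328267740 (a 1<|a 4<|a 2<|a 31<|a 2<|a 36<|a 7<|a 54<|a 0<|b) 0 b (f (g 40 (a 36<|a 20<|a 28<|a 18<|a 20<|a 4<|a 0<|b) (a 38<|a 10<|a 34<|a 29<|a 30<|a 22<|a 20<|b) (a 0<|a 0<|a 0<|a 0<|a 0<|a 0<|a 0<|b) b 0 0 b))))<|
 a (c 4 (e 4684774223231115774 (a 60<|a 31<|a 51<|a 62<|a 62<|b) 0 b (f (g 51 (a 42<|a 17<|a 31<|a 16<|a 34<|a 0<|a 17<|b) (a 21<|a 34<|a 41<|a 8<|a 17<|a 0<|a 34<|b) (a 0<|a 0<|a 0<|a 0<|a 0<|a 0<|a 0<|b) b 0 0 b))))<|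
 a (c 5 (e 6555979330770975908906 (a 2<|a 2<|a 27<|a 62<|a 36<|a 48<|a 36<|a 0<|a 6<|b) 0 b (f (g 124 (a 16<|a 0<|a 18<|a 90<|a 62<|a 34<|a 0<|b) (a 8<|a 0<|a 9<|a 107<|a 93<|a 79<|a 0<|b) (a 0<|a 0<|a 0<|a 0<|a 0<|a 0<|a 0<|b) b 0 0 b))))<|
 a (c 7 (e 350840282326976564244759630 (a 61<|b) 0 b (f (g 24 (a 10<|a 0<|a 6<|a 0<|a 8<|a 8<|a 16<|b) (a 17<|a 0<|a 3<|a 12<|a 16<|a 4<|a 20<|b) (a 0<|a 0<|a 0<|a 0<|a 0<|a 0<|a 0<|b) b 0 0 b))))<|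
 a (c 8 (e 26152682827824591816830836644 (a 60<|a 27<|a 0<|a 4<|b) 0 b (f (g 819 (a 448<|a 234<|a 189<|a 499<|a 273<|a 750<|a 117<|b) (a 224<|a 117<|a 504<|a 659<|a 546<|a 375<|a 468<|b) (a 0<|a 0<|a 0<|a 0<|a 0<|a 0<|a 0<|b) b 0 0 b))))<|
 a (c 9 (e 1168065299645654639240189311427 (a 7<|a 31<|a 60<|a 6<|a 48<|a 31<|a 62<|a 4<|b) 0 b (f (g 80 (a 60<|a 40<|a 42<|a 52<|a 32<|a 16<|a 32<|b) (a 30<|a 60<|a 61<|a 26<|a 56<|a 8<|a 16<|b) (a 0<|a 0<|a 0<|a 0<|a 0<|a 0<|a 0<|b) b 0 0 b))))<|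
 a (c 11 (e 750695957424934880602604327344119 (a 4<|b) 0 b (f (g 40 (a 24<|a 8<|a 16<|a 30<|a 20<|a 22<|a 16<|b) (a 32<|a 4<|a 28<|a 35<|a 30<|a 11<|a 28<|b) (a 0<|a 0<|a 0<|a 0<|a 0<|a 0<|a 0<|b) b 0 0 b))))<|b)<|
 a (a (c 2 (e 657164885 (a 51<|a 48<|a 2<|a 27<|b) 0 b (f (g 21 (a 5<|a 0<|a 12<|a 18<|a 7<|a 15<|a 14<|b) (a 13<|a 0<|a 6<|a 9<|a 14<|a 18<|a 7<|b) (a 0<|a 0<|a 0<|a 0<|a 0<|a 0<|a 0<|b) b 0 0 b))))<|
 a (c 3 (e 397516328267740 (a 31<|a 61<|b) 0 b (f (g 40 (a 24<|a 0<|a 16<|a 26<|a 20<|a 32<|a 20<|b) (a 32<|a 20<|a 8<|a 33<|a 10<|a 16<|a 30<|b) (a 0<|a 0<|a 0<|a 0<|a 0<|a 0<|a 0<|b) b 0 0 b))))<|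
 a (c 4 (e 4684774223231115774 (a 0<|a 4<|a 4<|a 7<|a 48<|a 6<|a 62<|a 0<|b) 0 b (f (g 13107 (a 8262<|a 8738<|a 357<|a 11315<|a 6168<|a 11649<|a 1542<|b) (a 4131<|a 4369<|a 6732<|a 12211<|a 3084<|a 12378<|a 771<|b) (a 0<|a 0<|a 0<|a 0<|a 0<|a 0<|a 0<|b) b 0 0 b))))<|
 a (c 5 (e 6555979330770975908906 (a 27<|a 51<|a 36<|a 7<|a 0<|b) 0 b (f (g 104 (a 0<|a 0<|a 24<|a 58<|a 52<|a 68<|a 52<|b) (a 0<|a 0<|a 12<|a 29<|a 78<|a 86<|a 78<|b) (a 0<|a 0<|a 0<|a 0<|a 0<|a 0<|a 0<|b) b 0 0 b))))<|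
 a (c 7 (e 350840282326976564244759630 b 0 b (f (g 48 (a 0<|a 0<|a 16<|a 42<|a 28<|a 32<|a 4<|b) (a 0<|a 0<|a 32<|a 21<|a 38<|a 40<|a 26<|b) (a 0<|a 0<|a 0<|a 0<|a 0<|a 0<|a 0<|b) b 0 0 b))))<|
 a (c 8 (e 26152682827824591816830836644 (a 36<|a 7<|a 51<|a 2<|a 0<|a 0<|a 6<|a 54<|a 36<|b) 0 b (f (g 233415 (a 96460<|a 66690<|a 147160<|a 77819<|a 168777<|a 92267<|a 50274<|b) (a 48230<|a 33345<|a 73580<|a 155617<|a 201096<|a 162841<|a 25137<|b) (a 0<|a 0<|a 0<|a 0<|a 0<|a 0<|a 0<|b) b 0 0 b))))<|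
 a (c 9 (e 1168065299645654639240189311427 (a 36<|a 7<|a 60<|a 27<|b) 0 b (f (g 205 (a 10<|a 0<|a 195<|a 9<|a 82<|a 115<|a 123<|b) (a 5<|a 0<|a 200<|a 107<|a 41<|a 160<|a 164<|b) (a 0<|a 0<|a 0<|a 0<|a 0<|a 0<|a 0<|b) b 0 0 b))))<|
 a (c 11 (e 750695957424934880602604327344119 (a 2<|a 2<|b) 0 b (f (g 15 (a 12<|a 6<|a 6<|a 11<|a 4<|a 1<|a 14<|b) (a 6<|a 3<|a 3<|a 13<|a 2<|a 8<|a 7<|b) (a 0<|a 0<|a 0<|a 0<|a 0<|a 0<|a 0<|b) b 0 0 b))))<|b)<|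
 a (a (c 2 (e 657164885 (a 51<|b) 0 b (f (g 63 (a 14<|a 36<|a 21<|a 58<|a 9<|a 39<|a 18<|b) (a 7<|a 18<|a 42<|a 29<|a 36<|a 51<|a 9<|b) (a 0<|a 0<|a 0<|a 0<|a 0<|a 0<|a 0<|b) b 0 0 b))))<|
 a (c 3 (e 397516328267740 (a 31<|a 51<|a 27<|b) 0 b (f (g 91 (a 0<|a 77<|a 26<|a 15<|a 49<|a 45<|a 56<|b) (a 0<|a 84<|a 13<|a 53<|a 70<|a 68<|a 28<|b) (a 0<|a 0<|a 0<|a 0<|a 0<|a 0<|a 0<|b) b 0 0 b))))<|
 a (c 4 (e 4684774223231115774 (a 61<|a 2<|a 27<|a 62<|a 0<|a 1<|b) 0 b (f (g 195 (a 70<|a 159<|a 130<|a 55<|a 51<|a 45<|a 9<|b) (a 35<|a 177<|a 65<|a 125<|a 123<|a 120<|a 102<|b) (a 0<|a 0<|a 0<|a 0<|a 0<|a 0<|a 0<|b) b 0 0 b))))<|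
 a (c 5 (e 6555979330770975908906 (a 1<|a 60<|a 48<|a 61<|b) 0 b (f (g 9 (a 4<|a 2<|a 7<|a 6<|a 1<|a 4<|a 5<|b) (a 2<|a 1<|a 8<|a 3<|a 5<|a 2<|a 7<|b) (a 0<|a 0<|a 0<|a 0<|a 0<|a 0<|a 0<|b) b 0 0 b))))<|
 a (c 7 (e 350840282326976564244759630 (a 0<|a 51<|a 6<|a 62<|a 6<|a 27<|a 1<|a 0<|b) 0 b (f (g 129 (a 5<|a 84<|a 30<|a 126<|a 72<|a 52<|a 117<|b) (a 67<|a 42<|a 15<|a 63<|a 36<|a 26<|a 123<|b) (a 0<|a 0<|a 0<|a 0<|a 0<|a 0<|a 0<|b) b 0 0 b))))<|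
 a (c 8 (e 26152682827824591816830836644 (a 2<|a 4<|a 31<|b) 0 b (f (g 12099 (a 9465<|a 8066<|a 5670<|a 11734<|a 8066<|a 1203<|a 4033<|b) (a 10782<|a 4033<|a 2835<|a 5867<|a 4033<|a 6651<|a 8066<|b) (a 0<|a 0<|a 0<|a 0<|a 0<|a 0<|a 0<|b) b 0 0 b))))<|
 a (c 9 (e 1168065299645654639240189311427 (a 7<|a 48<|a 62<|b) 0 b (f (g 26572 (a 19110<|a 13578<|a 7462<|a 1816<|a 15914<|a 23078<|a 10366<|b) (a 22841<|a 6789<|a 17017<|a 14194<|a 7957<|a 11539<|a 18469<|b) (a 0<|a 0<|a 0<|a 0<|a 0<|a 0<|a 0<|b) b 0 0 b))))<|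
 a (c 11 (e 750695957424934880602604327344119 (a 4<|a 62<|a 4<|a 0<|a 4<|a 60<|a 4<|a 27<|a 36<|b) 0 b (f (g 5320 (a 4120<|a 144<|a 5190<|a 3906<|a 1584<|a 4296<|a 1464<|b) (a 2060<|a 72<|a 2595<|a 4613<|a 792<|a 4808<|a 3392<|b) (a 0<|a 0<|a 0<|a 0<|a 0<|a 0<|a 0<|b) b 0 0 b))))<|b)<|b))

theorem svsE7_35 : tbE7.svs 7 svE7_35 = true := by decide +kernel

theorem svdE7_35 : tbE7.svd svE7_35 = true := by decide +kernel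

private noncomputable def _root_.Cfsg.Agent.LsF.f90fa7f_8 : {f // @Cfsg.Agent.N2.Ex.Al.Ck.aL = f} := ⟨_, by first | (delta Cfsg.Agent.N2.Ex.Al.Ck.aL; rewrite [Cfsg.Agent.LsF.and_eq]; exact rfl) | exact rfl⟩
private noncomputable def _root_.Cfsg.Agent.LsF.f90fa7f_9 : {f // @Cfsg.Agent.N2.Ex.Al.Ck.eL = f} := ⟨_, by first | (delta Cfsg.Agent.N2.Ex.Al.Ck.eL; rewrite [Cfsg.Agent.LsF.or_eq]; exact rfl) | exact rfl⟩
private noncomputable def _root_.Cfsg.Agent.LsF.f90fa7f_10 : {f // @Nat.pred = f} := ⟨_, by first | (delta Nat.pred; (try delta Nat.pow.match_1); (try delta Nat.casesOn); exact rfl) | exact rfl⟩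
private noncomputable def _root_.Cfsg.Agent.LsF.f90fa7f_11 : {f // @Cfsg.Agent.N2.Ex.Al.Ck.Tb.ev = f} := ⟨_, by first | (delta Cfsg.Agent.N2.Ex.Al.Ck.Tb.ev; rewrite [Cfsg.Agent.LsF.f90fa7f_10.2]; exact rfl) | exact rfl⟩
private noncomputable def _root_.Cfsg.Agent.LsF.f90fa7f_12 : {f // @Cfsg.Agent.N2.Ex.Al.Ck.Tb.nz = f} := ⟨_, by first | (delta Cfsg.Agent.N2.Ex.Al.Ck.Tb.nz; rewrite [Cfsg.Agent.LsF.f90fa7f_9.2, Cfsg.Agent.LsF.f90fa7f_11.2, Cfsg.Agent.LsF.and_eq, Cfsg.Agent.LsF.length_eq]; exact rfl) | exact rfl⟩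
private noncomputable def _root_.Cfsg.Agent.LsF.f90fa7f_13 : {f // @Cfsg.Agent.N2.Ex.Al.Ck.Tb.inv = f} := ⟨_, by first | (delta Cfsg.Agent.N2.Ex.Al.Ck.Tb.inv; rewrite [Cfsg.Agent.LsF.f90fa7f_12.2, Cfsg.Agent.LsF.f90fa7f_5.2, Cfsg.Agent.LsF.f90fa7f_8.2, Cfsg.Agent.LsF.f90fa7f_11.2, Cfsg.Agent.LsF.and_eq, Cfsg.Agent.LsF.or_eq, Cfsg.Agent.LsF.not_eq]; exact rfl) | exact rfl⟩
private noncomputable def _root_.Cfsg.Agent.LsF.f90fa7f_14 : {f // @Cfsg.Agent.N2.Ex.Al.Ck.npp = f} := ⟨_, by first | (delta Cfsg.Agent.N2.Ex.Al.Ck.npp; rewrite [Cfsg.Agent.LsF.f90fa7f_3.2, Cfsg.Agent.LsF.nmod_pat, Cfsg.Agent.LsF.and_eq, Cfsg.Agent.LsF.or_eq]; exact rfl) | exact rfl⟩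
private noncomputable def _root_.Cfsg.Agent.LsF.f90fa7f_15 : {f // @Cfsg.Agent.N2.Ex.Al.Ck.Tb.ch = f} := ⟨_, by first | (delta Cfsg.Agent.N2.Ex.Al.Ck.Tb.ch; rewrite [Cfsg.Agent.LsF.f90fa7f_8.2, Cfsg.Agent.LsF.f90fa7f_11.2, Cfsg.Agent.LsF.f90fa7f_5.2, Cfsg.Agent.LsF.and_eq, Cfsg.Agent.LsF.getD_eq, Cfsg.Agent.LsF.length_eq]; exact rfl) | exact rfl⟩
private noncomputable def _root_.Cfsg.Agent.LsF.f90fa7f_16 : {f // @Cfsg.Agent.N2.Ex.Al.Ck.Tb.com = f} := ⟨_, by first | (delta Cfsg.Agent.N2.Ex.Al.Ck.Tb.com; rewrite [Cfsg.Agent.LsF.f90fa7f_8.2, Cfsg.Agent.LsF.f90fa7f_5.2]; exact rfl) | exact rfl⟩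
private noncomputable def _root_.Cfsg.Agent.LsF.f90fa7f_17 : {f // @Cfsg.Agent.SB.Exc.dM = f} := ⟨_, by first | (delta Cfsg.Agent.SB.Exc.dM; rewrite [Cfsg.Agent.LsF.instDecEq_eq, Cfsg.Agent.LsF.ite_eq]; exact rfl) | exact rfl⟩
private noncomputable def _root_.Cfsg.Agent.LsF.f90fa7f_18 : {f // @Cfsg.Agent.N2.Ex.Al.Ck.cL = f} := ⟨_, by first | (delta Cfsg.Agent.N2.Ex.Al.Ck.cL; rewrite [Cfsg.Agent.LsF.cond_eq]; exact rfl) | exact rfl⟩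
private noncomputable def _root_.Cfsg.Agent.LsF.f90fa7f_19 : {f // @Cfsg.Agent.N2.Ex.Al.Ck.Tb.cls = f} := ⟨_, by first | (delta Cfsg.Agent.N2.Ex.Al.Ck.Tb.cls; rewrite [Cfsg.Agent.LsF.f90fa7f_3.2, Cfsg.Agent.LsF.f90fa7f_8.2, Cfsg.Agent.LsF.f90fa7f_11.2, Cfsg.Agent.LsF.f90fa7f_0.2, Cfsg.Agent.LsF.and_eq, Cfsg.Agent.LsF.or_eq]; exact rfl) | exact rfl⟩
private noncomputable def _root_.Cfsg.Agent.LsF.f90fa7f_20 : {f // @Cfsg.Agent.N2.Ex.Al.Ck.lo = f} := ⟨_, by first | (delta Cfsg.Agent.N2.Ex.Al.Ck.lo; rewrite [Cfsg.Agent.LsF.getD_eq, Cfsg.Agent.LsF.dFinLe_eq, Cfsg.Agent.LsF.ite_eq]; exact rfl) | exact rfl⟩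
private noncomputable def _root_.Cfsg.Agent.LsF.f90fa7f_21 : {f // @Cfsg.Agent.N2.Ex.Al.Ck.up = f} := ⟨_, by first | (delta Cfsg.Agent.N2.Ex.Al.Ck.up; rewrite [Cfsg.Agent.LsF.getD_eq, Cfsg.Agent.LsF.dFinEq_eq, Cfsg.Agent.LsF.dFinLt_eq, Cfsg.Agent.LsF.ite_eq]; exact rfl) | exact rfl⟩
private noncomputable def _root_.Cfsg.Agent.LsF.f90fa7f_22 : {f // @Cfsg.Agent.N2.Ex.Al.Ck.Tb.vec = f} := ⟨_, by first | (delta Cfsg.Agent.N2.Ex.Al.Ck.Tb.vec; rewrite [Cfsg.Agent.LsF.isub_pat, Cfsg.Agent.LsF.icast_pat]; exact rfl) | exact rfl⟩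
private noncomputable def _root_.Cfsg.Agent.LsF.f90fa7f_23 : {f // @Cfsg.Agent.N2.Ex.Al.Ck.Tb.am = f} := ⟨_, by first | (delta Cfsg.Agent.N2.Ex.Al.Ck.Tb.am; rewrite [Cfsg.Agent.LsF.f90fa7f_22.2, Cfsg.Agent.LsF.f90fa7f_5.2, Cfsg.Agent.LsF.isub_pat, Cfsg.Agent.LsF.icast_pat, Cfsg.Agent.LsF.dFinEq_eq, Cfsg.Agent.LsF.ite_eq]; exact rfl) | exact rfl⟩
private noncomputable def _root_.Cfsg.Agent.LsF.f90fa7f_24 : {f // @Cfsg.Agent.N2.Ex.Al.Ck.Tb.tk = f} := ⟨_, by first | (delta Cfsg.Agent.N2.Ex.Al.Ck.Tb.tk; rewrite [Cfsg.Agent.LsF.f90fa7f_20.2, Cfsg.Agent.LsF.f90fa7f_21.2, Cfsg.Agent.LsF.f90fa7f_23.2, Cfsg.Agent.LsF.nmul_pat, Cfsg.Agent.LsF.imul_pat, Cfsg.Agent.LsF.finFintype_eq, Cfsg.Agent.LsF.fsum_eq, Cfsg.Agent.LsF.fprod_eq, Cfsg.Agent.LsF.iACM_eq, Cfsg.Agent.LsF.instDecEq_eq, Cfsg.Agent.LsF.decLe_eq, Cfsg.Agent.LsF.natAbs_eq, Cfsg.Agent.LsF.instIDecEq_eq,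 Cfsg.Agent.LsF.dAnd_eq, Cfsg.Agent.LsF.dNot_eq, Cfsg.Agent.LsF.dFinLt_eq, Cfsg.Agent.LsF.dForallFin_eq, Cfsg.Agent.LsF.dAllP_eq, Cfsg.Agent.LsF.decide_eq]; exact rfl) | exact rfl⟩
private noncomputable def _root_.Cfsg.Agent.LsF.f90fa7f_25 : {f // @Cfsg.Agent.N2.Ex.Al.Ck.Tb.chkT = f} := ⟨_, by first | (delta Cfsg.Agent.N2.Ex.Al.Ck.Tb.chkT; rewrite [Cfsg.Agent.LsF.f90fa7f_15.2, Cfsg.Agent.LsF.f90fa7f_4.2, Cfsg.Agent.LsF.f90fa7f_16.2, Cfsg.Agent.LsF.f90fa7f_8.2, Cfsg.Agent.LsF.f90fa7f_17.2, Cfsg.Agent.LsF.f90fa7f_11.2, Cfsg.Agent.LsF.f90fa7f_18.2, Cfsg.Agent.LsF.f90fa7f_19.2, Cfsg.Agent.LsF.f90fa7f_0.2, Cfsg.Agent.LsF.f90fa7f_24.2, Cfsg.Agent.LsF.f90fa7f_9.2, Cfsg.Agent.LsF.nadd_pat, Cfsg.Agent.LsF.nmul_pat, Cfsg.Agent.LsF.nmod_pat, Cfsg.Agent.LsF.npow_pat, Cfsg.Agent.LsF.lappend_pat, Cfsg.Agent.LsF.and_eq, Cfsg.Agent.LsF.or_eq, Cfsg.Agent.LsF.instDecEq_eq,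 Cfsg.Agent.LsF.decLe_eq, Cfsg.Agent.LsF.getD_eq, Cfsg.Agent.LsF.dAnd_eq, Cfsg.Agent.LsF.dNot_eq, Cfsg.Agent.LsF.dBEx_eq, Cfsg.Agent.LsF.dDvd_eq, Cfsg.Agent.LsF.length_eq, Cfsg.Agent.LsF.ite_eq, Cfsg.Agent.LsF.decide_eq]; exact rfl) | exact rfl⟩
private noncomputable def _root_.Cfsg.Agent.LsF.f90fa7f_26 : {f // @Cfsg.Agent.N2.Ex.Al.Ck.Tb.sb = f} := ⟨_, by first | (delta Cfsg.Agent.N2.Ex.Al.Ck.Tb.sb; rewrite [Cfsg.Agent.LsF.f90fa7f_8.2, Cfsg.Agent.LsF.or_eq, Cfsg.Agent.LsF.not_eq, Cfsg.Agent.LsF.testBit_eq]; exact rfl) | exact rfl⟩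
private noncomputable def _root_.Cfsg.Agent.LsF.f90fa7f_27 : {f // @Cfsg.Agent.N2.Ex.Al.Ck.Tb.en = f} := ⟨_, by first | (delta Cfsg.Agent.N2.Ex.Al.Ck.Tb.en; rewrite [Cfsg.Agent.LsF.f90fa7f_17.2, Cfsg.Agent.LsF.f90fa7f_15.2, Cfsg.Agent.LsF.f90fa7f_8.2, Cfsg.Agent.LsF.f90fa7f_11.2, Cfsg.Agent.LsF.nmul_pat, Cfsg.Agent.LsF.nmod_pat, Cfsg.Agent.LsF.and_eq, Cfsg.Agent.LsF.or_eq]; exact rfl) | exact rfl⟩
private noncomputable def _root_.Cfsg.Agent.LsF.f90fa7f_28 : {f // @Cfsg.Agent.N2.Ex.Al.Ck.Tb.chkV = f} := ⟨_, by first | (delta Cfsg.Agent.N2.Ex.Al.Ck.Tb.chkV; rewrite [Cfsg.Agent.LsF.f90fa7f_8.2, Cfsg.Agent.LsF.f90fa7f_0.2, Cfsg.Agent.LsF.f90fa7f_27.2, Cfsg.Agent.LsF.f90fa7f_9.2, Cfsg.Agent.LsF.f90fa7f_3.2, Cfsg.Agent.LsF.f90fa7f_17.2, Cfsg.Agent.LsF.nadd_pat, Cfsg.Agent.LsF.nmul_pat, Cfsg.Agent.LsF.npow_pat, Cfsg.Agent.LsF.and_eq, Cfsg.Agent.LsF.decLe_eq,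 Cfsg.Agent.LsF.decLt_eq, Cfsg.Agent.LsF.map_eq, Cfsg.Agent.LsF.sum_eq, Cfsg.Agent.LsF.dAnd_eq, Cfsg.Agent.LsF.decide_eq]; exact rfl) | exact rfl⟩
private noncomputable def _root_.Cfsg.Agent.LsF.f90fa7f_29 : {f // @Cfsg.Agent.N2.Ex.Al.Ck.Tb.chkA = f} := ⟨_, by first | (delta Cfsg.Agent.N2.Ex.Al.Ck.Tb.chkA; rewrite [Cfsg.Agent.LsF.f90fa7f_4.2, Cfsg.Agent.LsF.f90fa7f_26.2, Cfsg.Agent.LsF.f90fa7f_16.2, Cfsg.Agent.LsF.f90fa7f_17.2, Cfsg.Agent.LsF.f90fa7f_28.2, Cfsg.Agent.LsF.and_eq, Cfsg.Agent.LsF.cond_eq, Cfsg.Agent.LsF.flatten_eq, Cfsg.Agent.LsF.replicate_eq]; exact rfl) | exact rfl⟩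
private noncomputable def _root_.Cfsg.Agent.LsF.f90fa7f_30 : {f // @Cfsg.Agent.N2.Ex.Al.Ck.Tb.chkU = f} := ⟨_, by first | (delta Cfsg.Agent.N2.Ex.Al.Ck.Tb.chkU; rewrite [Cfsg.Agent.LsF.dMemP_pat, Cfsg.Agent.LsF.f90fa7f_4.2, Cfsg.Agent.LsF.f90fa7f_26.2, Cfsg.Agent.LsF.f90fa7f_16.2, Cfsg.Agent.LsF.f90fa7f_8.2, Cfsg.Agent.LsF.dProdEq_eq, Cfsg.Agent.LsF.and_eq, Cfsg.Agent.LsF.or_eq, Cfsg.Agent.LsF.not_eq, Cfsg.Agent.LsF.instDecEq_eq, Cfsg.Agent.LsF.decLe_eq, Cfsg.Agent.LsF.decLt_eq, Cfsg.Agent.LsF.dAnd_eq, Cfsg.Agent.LsF.decide_eq]; exact rfl) | exact rfl⟩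
private noncomputable def _root_.Cfsg.Agent.LsF.f90fa7f_31 : {f // @Cfsg.Agent.SB.Exc.nP = f} := ⟨_, by first | (delta Cfsg.Agent.SB.Exc.nP; rewrite [Cfsg.Agent.LsF.instDecEq_eq, Cfsg.Agent.LsF.ite_eq]; exact rfl) | exact rfl⟩
private noncomputable def _root_.Cfsg.Agent.LsF.f90fa7f_32 : {f // @Cfsg.Agent.SB.Exc.degs = f} := ⟨_, by first | (delta Cfsg.Agent.SB.Exc.degs; rewrite [Cfsg.Agent.LsF.instDecEq_eq, Cfsg.Agent.LsF.ite_eq]; exact rfl) | exact rfl⟩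
private noncomputable def _root_.Cfsg.Agent.LsF.f90fa7f_33 : {f // @Cfsg.Agent.SB.Exc.ordU = f} := ⟨_, by first | (delta Cfsg.Agent.SB.Exc.ordU; rewrite [Cfsg.Agent.LsF.f90fa7f_31.2, Cfsg.Agent.LsF.f90fa7f_32.2, Cfsg.Agent.LsF.nmul_pat, Cfsg.Agent.LsF.nsub_pat, Cfsg.Agent.LsF.npow_pat, Cfsg.Agent.LsF.map_eq, Cfsg.Agent.LsF.prod_eq]; exact rfl) | exact rfl⟩
private noncomputable def _root_.Cfsg.Agent.LsF.f90fa7f_34 : {f // @Cfsg.Agent.N2.Ex.Al.Ck.Tb.chk = f} := ⟨_, by first | (delta Cfsg.Agent.N2.Ex.Al.Ck.Tb.chk; rewrite [Cfsg.Agent.LsF.f90fa7f_0.2, Cfsg.Agent.LsF.f90fa7f_25.2, Cfsg.Agent.LsF.f90fa7f_29.2, Cfsg.Agent.LsF.f90fa7f_30.2, Cfsg.Agent.LsF.f90fa7f_17.2, Cfsg.Agent.LsF.f90fa7f_33.2, Cfsg.Agent.LsF.f90fa7f_24.2, Cfsg.Agent.LsF.nadd_pat, Cfsg.Agent.LsF.nmul_pat, Cfsg.Agent.LsF.npow_pat, Cfsg.Agent.LsF.lappend_pat, Cfsg.Agent.LsF.and_eq,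 Cfsg.Agent.LsF.or_eq, Cfsg.Agent.LsF.testBit_eq]; exact rfl) | exact rfl⟩
private noncomputable def _root_.Cfsg.Agent.LsF.f90fa7f_35 : {f // @Cfsg.Agent.N2.Ex.Al.Ck.Tb.svc = f} := ⟨_, by first | (delta Cfsg.Agent.N2.Ex.Al.Ck.Tb.svc; rewrite [Cfsg.Agent.LsF.f90fa7f_13.2, Cfsg.Agent.LsF.f90fa7f_8.2, Cfsg.Agent.LsF.f90fa7f_14.2, Cfsg.Agent.LsF.f90fa7f_3.2, Cfsg.Agent.LsF.f90fa7f_34.2, Cfsg.Agent.LsF.nmod_pat, Cfsg.Agent.LsF.and_eq, Cfsg.Agent.LsF.or_eq, Cfsg.Agent.LsF.getD_eq]; exact rfl) | exact rfl⟩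
theorem svcE7_35 : aL (tbE7.svc 7 svE7_35 ivE7_35 ceE7_35) 3 = true := by ((try (rewrite [Cfsg.Agent.LsF.f90fa7f_8.2, Cfsg.Agent.LsF.f90fa7f_35.2])); decide +kernel)

theorem goodE7_35 {M : CoxeterMatrix (Fin 7)} (hp : IsType chevE7 7 M) : Good hp tbE7 74626287254162092864136710113678328023 :=
  (gsE7 hp).good_sv (fun h => absurd h (by decide)) svsE7_35 svdE7_35 (aL_iff.1 svcE7_35)

/-- A5A2 -/
def svE7_38 : Sv where
  m := 82412135738669893572708319727675012079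
  Δ := [0, 1, 2, 3, 5, 6, 58]
  dm := [12, 46, 57, 62]
  s := 36
  sq := (beta% delta% lq2621049049 fun a b c _ _ _ _ i j _ _ _ =>
 (a (c 12 j)<|a (c 62 j)<|a (c 0 i)<|a (c 2 i)<|a (c 1 i)<|a (c 3 i)<|a (c 58 i)<|a (c 46 j)<|b))
  co := (beta% delta% lq2621049049 fun a b _ _ _ _ _ _ _ _ _ _ =>
 (a (a 0<|a 0<|a 1<|a 0<|a 0<|a 0<|a 0<|a 0<|b)<|a (a 0<|a 0<|a 0<|a 0<|a 1<|a 0<|a 0<|a 0<|b)<|a (a 0<|a 0<|a 0<|a 1<|a 0<|a 0<|a 0<|a 0<|b)<|a (a 0<|a 0<|a 0<|a 0<|a 0<|a 1<|a 0<|a 0<|b)<|a (a (-1)<|a 0<|a (-1)<|a (-2)<|a (-1)<|a (-2)<|a 0<|a 1<|b)<|a (a 2<|a 1<|a 1<|a 3<|a 1<|a 2<|a 0<|a (-3)<|b)<|a (a (-1)<|a (-1)<|a (-1)<|a (-3)<|a (-1)<|a (-2)<|a 0<|a 3<|b)<|b))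
  ω := 2
  cl := (beta% delta% lq2621049049 fun a b c _ _ _ _ _ j _ _ _ =>
 (a (c j b)<|a (c j (a 5<|a 12<|a 15<|a 48<|a 16<|b))<|b))
  lf := [(882142585618119214, 0, []),
    (882206353014325305, 1, [])]
  q₁ := 12
  k₁ := 22
  ev := false
  lg := (0, [], 0)

/-- inverted roots -/
def ivE7_38 : List (ℕ × List ℕ × ℕ) := []

/-- the certificates -/
def ceE7_38 : List (List (ℕ × Ce)) := (beta% delta% lq2621049049 fun a b c _ e f g _ _ _ _ _ =>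
 (a (a (c 2 (e 236948943 (a 61<|a 3<|a 0<|a 60<|a 9<|b) 0 b (f (g 21 (a 16<|a 15<|a 7<|a 13<|a 15<|a 0<|a 0<|b) (a 8<|a 18<|a 14<|a 17<|a 18<|a 0<|a 0<|b) (a 0<|a 0<|a 0<|a 0<|a 0<|a 0<|a 0<|b) b 0 0 b))))<|
 a (c 3 (e 63701972626036 (a 13<|a 14<|a 19<|a 60<|a 2<|b) 0 b (f (g 91 (a 66<|a 23<|a 64<|a 30<|a 46<|a 0<|a 0<|b) (a 33<|a 57<|a 32<|a 15<|a 23<|a 0<|a 0<|b) (a 0<|a 0<|a 0<|a 0<|a 0<|a 0<|a 0<|b) b 0 0 b))))<|
 a (c 4 (e 422288350652643725 (a 3<|a 19<|a 61<|a 6<|b) 0 b (f (g 15 (a 8<|a 10<|a 12<|a 12<|a 3<|a 1<|a 3<|b) (a 4<|a 5<|a 6<|a 6<|a 9<|a 8<|a 9<|b) (a 0<|a 0<|a 0<|a 0<|a 0<|a 0<|a 0<|b) b 0 0 b))))<|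
 a (c 5 (e 378214334909947630948 (a 6<|a 6<|a 59<|a 19<|a 62<|a 5<|a 8<|a 14<|a 9<|b) 0 b (f (g 124 (a 8<|a 112<|a 60<|a 88<|a 118<|a 0<|a 62<|b) (a 4<|a 56<|a 92<|a 44<|a 59<|a 0<|a 31<|b) (a 0<|a 0<|a 0<|a 0<|a 0<|a 0<|a 0<|b) b 0 0 b))))<|
 a (c 7 (e 10326515233318608016846626 (a 19<|a 61<|a 1<|a 1<|a 0<|a 13<|b) 0 b (f (g 8403 (a 3096<|a 4866<|a 4266<|a 7287<|a 167<|a 0<|a 0<|b) (a 1548<|a 2433<|a 2133<|a 7845<|a 4285<|a 0<|a 0<|b) (a 0<|a 0<|a 0<|a 0<|a 0<|a 0<|a 0<|b) b 0 0 b))))<|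
 a (c 8 (e 589354618293999304761284999 (a 2<|a 19<|a 19<|a 60<|a 2<|a 9<|b) 0 b (f (g 511 (a 101<|a 360<|a 191<|a 5<|a 68<|a 292<|a 73<|b) (a 306<|a 180<|a 351<|a 258<|a 34<|a 146<|a 292<|b) (a 0<|a 0<|a 0<|a 0<|a 0<|a 0<|a 0<|b) b 0 0 b))))<|
 a (c 9 (e 20798045388949871852133068851 (a 8<|a 0<|a 19<|a 5<|b) 0 b (f (g 656 (a 528<|a 430<|a 624<|a 98<|a 390<|a 0<|a 492<|b) (a 264<|a 543<|a 640<|a 377<|a 523<|a 0<|a 246<|b) (a 0<|a 0<|a 0<|a 0<|a 0<|a 0<|a 0<|b) b 0 0 b))))<|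
 a (c 11 (e 8947858859732403873673554791315 (a 2<|a 2<|a 62<|a 62<|a 7<|a 9<|a 60<|a 19<|b) 0 b (f (g 3660 (a 2980<|a 160<|a 1760<|a 1290<|a 1182<|a 1464<|a 2196<|b) (a 3320<|a 80<|a 880<|a 645<|a 591<|a 2562<|a 2928<|b) (a 0<|a 0<|a 0<|a 0<|a 0<|a 0<|a 0<|b) b 0 0 b))))<|b)<|
 a (a (c 2 (e 236948943 (a 14<|a 19<|a 7<|b) 0 b (f (g 33 (a 27<|a 10<|a 18<|a 18<|a 10<|a 22<|a 11<|b) (a 30<|a 5<|a 9<|a 9<|a 5<|a 11<|a 22<|b) (a 0<|a 0<|a 0<|a 0<|a 0<|a 0<|a 0<|b) b 0 0 b))))<|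
 a (c 3 (e 63701972626036 (a 61<|b) 0 b (f (g 40 (a 24<|a 26<|a 22<|a 0<|a 34<|a 20<|a 20<|b) (a 12<|a 33<|a 11<|a 0<|a 37<|a 10<|a 30<|b) (a 0<|a 0<|a 0<|a 0<|a 0<|a 0<|a 0<|b) b 0 0 b))))<|
 a (c 4 (e 422288350652643725 b 0 b (f (g 5 (a 4<|a 0<|a 0<|a 0<|a 4<|a 0<|a 0<|b) (a 2<|a 0<|a 0<|a 0<|a 2<|a 0<|a 0<|b) (a 0<|a 0<|a 0<|a 0<|a 0<|a 0<|a 0<|b) b 0 0 b))))<|
 a (c 5 (e 378214334909947630948 (a 9<|a 5<|a 2<|a 59<|a 8<|a 2<|a 8<|b) 0 b (f (g 336 (a 84<|a 0<|a 252<|a 294<|a 16<|a 48<|a 192<|b) (a 210<|a 0<|a 294<|a 147<|a 8<|a 192<|a 96<|b) (a 0<|a 0<|a 0<|a 0<|a 0<|a 0<|a 0<|b) b 0 0 b))))<|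
 a (c 7 (e 10326515233318608016846626 (a 1<|a 0<|a 6<|a 61<|a 0<|a 14<|a 1<|a 2<|a 6<|b) 0 b (f (g 688 (a 304<|a 280<|a 144<|a 584<|a 322<|a 258<|a 430<|b) (a 496<|a 484<|a 416<|a 636<|a 161<|a 129<|a 215<|b) (a 0<|a 0<|a 0<|a 0<|a 0<|a 0<|a 0<|b) b 0 0 b))))<|
 a (c 8 (e 589354618293999304761284999 (a 14<|a 8<|a 6<|a 6<|a 14<|a 61<|a 9<|a 60<|a 59<|b) 0 b (f (g 819 (a 395<|a 342<|a 594<|a 540<|a 58<|a 26<|a 208<|b) (a 607<|a 171<|a 297<|a 270<|a 29<|a 13<|a 104<|b) (a 0<|a 0<|a 0<|a 0<|a 0<|a 0<|a 0<|b) b 0 0 b))))<|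
 a (c 9 (e 20798045388949871852133068851 (a 14<|a 1<|a 60<|a 62<|a 59<|a 61<|b) 0 b (f (g 15184 (a 10640<|a 4656<|a 14308<|a 12720<|a 10846<|a 5694<|a 5694<|b) (a 12912<|a 9920<|a 14746<|a 13952<|a 13015<|a 10439<|a 2847<|b) (a 0<|a 0<|a 0<|a 0<|a 0<|a 0<|a 0<|b) b 0 0 b))))<|
 a (c 11 (e 8947858859732403873673554791315 (a 9<|a 59<|a 58<|b) 0 b (f (g 53684 (a 23998<|a 380<|a 53042<|a 49504<|a 9264<|a 26842<|a 26842<|b) (a 11999<|a 27032<|a 26521<|a 24752<|a 4632<|a 40263<|a 13421<|b) (a 0<|a 0<|a 0<|a 0<|a 0<|a 0<|a 0<|b) b 0 0 b))))<|b)<|b))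

theorem svsE7_38 : tbE7.svs 7 svE7_38 = true := by decide +kernel

theorem svdE7_38 : tbE7.svd svE7_38 = true := by decide +kernel

theorem svcE7_38 : aL (tbE7.svc 7 svE7_38 ivE7_38 ceE7_38) 2 = true := by ((try (rewrite [Cfsg.Agent.LsF.f90fa7f_8.2, Cfsg.Agent.LsF.f90fa7f_35.2])); decide +kernel)

theorem goodE7_38 {M : CoxeterMatrix (Fin 7)} (hp : IsType chevE7 7 M) : Good hp tbE7 82412135738669893572708319727675012079 :=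
  (gsE7 hp).good_sv (fun h => absurd h (by decide)) svsE7_38 svdE7_38 (aL_iff.1 svcE7_38)

/-- A7 -/
def svE7_42 : Sv where
  m := 2657690330612403339274397804439041007
  Δ := [0, 1, 2, 3, 5, 6, 39]
  dm := [57, 62]
  s := 56
  sq := (beta% delta% lq2621049049 fun a b c _ _ _ _ i j _ _ _ =>
 (a (c 57 j)<|a (c 62 j)<|a (c 0 i)<|a (c 1 i)<|a (c 5 i)<|a (c 3 i)<|a (c 2 i)<|b))
  co := (beta% delta% lq2621049049 fun a b _ _ _ _ _ _ _ _ _ _ =>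
 (a (a 0<|a 0<|a 1<|a 0<|a 0<|a 0<|a 0<|b)<|a (a 0<|a 0<|a 0<|a 1<|a 0<|a 0<|a 0<|b)<|a (a 0<|a 0<|a 0<|a 0<|a 0<|a 0<|a 1<|b)<|a (a 0<|a 0<|a 0<|a 0<|a 0<|a 1<|a 0<|b)<|a (a (-1)<|a 1<|a (-1)<|a 0<|a 0<|a (-1)<|a (-1)<|b)<|a (a 0<|a 0<|a 0<|a 0<|a 1<|a 0<|a 0<|b)<|a (a 3<|a (-2)<|a 1<|a (-2)<|a (-2)<|a (-1)<|a 0<|b)<|b))
  ω := 2
  cl := [(false, []), (false, [18, 17, 15])]
  lf := [(16112243410535170, 0, []),
    (16112243477382695, 1, [])]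
  q₁ := 17
  k₁ := 15
  ev := false
  lg := (0, [], 0)

/-- inverted roots -/
def ivE7_42 : List (ℕ × List ℕ × ℕ) := []

/-- the certificates -/
def ceE7_42 : List (List (ℕ × Ce)) := (beta% delta% lq2621049049 fun a b c _ e f g _ _ _ _ _ =>
 (a (a (c 2 (e 2332320 (a 54<|a 0<|a 44<|a 55<|b) 0 b (f (g 15 (a 9<|a 3<|a 4<|a 5<|a 3<|a 4<|a 6<|b) (a 12<|a 9<|a 2<|a 10<|a 9<|a 2<|a 3<|b) (a 0<|a 0<|a 0<|a 0<|a 0<|a 0<|a 0<|b) b 0 0 b))))<|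
 a (c 3 (e 42009210172 (a 5<|a 51<|a 3<|a 8<|a 47<|a 42<|a 51<|a 53<|a 39<|b) 0 b (f (g 65 (a 25<|a 39<|a 26<|a 13<|a 56<|a 62<|a 48<|b) (a 45<|a 52<|a 13<|a 39<|a 28<|a 31<|a 24<|b) (a 0<|a 0<|a 0<|a 0<|a 0<|a 0<|a 0<|b) b 0 0 b))))<|
 a (c 4 (e 40914365970454 (a 19<|a 51<|a 14<|a 19<|a 9<|a 8<|b) 0 b (f (g 51 (a 33<|a 36<|a 9<|a 15<|a 36<|a 49<|a 34<|b) (a 42<|a 18<|a 30<|a 33<|a 18<|a 50<|a 17<|b) (a 0<|a 0<|a 0<|a 0<|a 0<|a 0<|a 0<|b) b 0 0 b))))<|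
 a (c 5 (e 8278238916919488 (a 42<|a 48<|a 50<|a 53<|a 5<|a 7<|b) 0 b (f (g 248 (a 186<|a 172<|a 132<|a 192<|a 110<|a 146<|a 186<|b) (a 217<|a 86<|a 190<|a 96<|a 179<|a 197<|a 93<|b) (a 0<|a 0<|a 0<|a 0<|a 0<|a 0<|a 0<|b) b 0 0 b))))<|
 a (c 7 (e 23986498578931832868 (a 6<|a 48<|a 39<|a 8<|a 50<|a 48<|b) 0 b (f (g 2801 (a 0<|a 2165<|a 1150<|a 1651<|a 1480<|a 1980<|a 138<|b) (a 0<|a 2483<|a 575<|a 2226<|a 740<|a 990<|a 69<|b) (a 0<|a 0<|a 0<|a 0<|a 0<|a 0<|a 0<|b) b 0 0 b))))<|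
 a (c 8 (e 562052362722396187554 b 0 b (f (g 7 (a 0<|a 1<|a 6<|a 0<|a 5<|a 6<|a 4<|b) (a 0<|a 4<|a 3<|a 0<|a 6<|a 3<|a 2<|b) (a 0<|a 0<|a 0<|a 0<|a 0<|a 0<|a 0<|b) b 0 0 b))))<|
 a (c 9 (e 9044942119560857602759 (a 13<|a 53<|a 2<|a 14<|a 0<|a 55<|a 48<|a 57<|a 7<|b) 0 b (f (g 4745 (a 1576<|a 3023<|a 104<|a 4590<|a 1760<|a 3350<|a 3482<|b) (a 788<|a 3884<|a 52<|a 2295<|a 880<|a 1675<|a 1741<|b) (a 0<|a 0<|a 0<|a 0<|a 0<|a 0<|a 0<|b) b 0 0 b))))<|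
 a (c 11 (e 1021177468872681615660453 (a 56<|a 53<|a 45<|a 8<|a 49<|a 48<|a 45<|a 3<|a 3<|b) 0 b (f (g 16105 (a 14222<|a 11497<|a 2373<|a 2235<|a 1499<|a 12755<|a 6107<|b) (a 7111<|a 13801<|a 9239<|a 9170<|a 8802<|a 14430<|a 11106<|b) (a 0<|a 0<|a 0<|a 0<|a 0<|a 0<|a 0<|b) b 0 0 b))))<|
 a (c 13 (e 51923997983944391751893014 (a 51<|a 56<|a 45<|a 1<|a 2<|a 8<|b) 0 b (f (g 2196 (a 2092<|a 1116<|a 96<|a 650<|a 416<|a 204<|a 1942<|b) (a 2144<|a 1656<|a 48<|a 325<|a 208<|a 102<|a 2069<|b) (a 0<|a 0<|a 0<|a 0<|a 0<|a 0<|a 0<|b) b 0 0 b))))<|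
 a (c 16 (e 6814680056497508209697944687 (a 8<|a 48<|a 51<|a 8<|a 7<|b) 0 b (f (g 1285 (a 330<|a 514<|a 815<|a 1263<|a 1028<|a 676<|a 257<|b) (a 165<|a 257<|a 1050<|a 1274<|a 514<|a 338<|a 771<|b) (a 0<|a 0<|a 0<|a 0<|a 0<|a 0<|a 0<|b) b 0 0 b))))<|b)<|
 a (a (c 2 (e 2332320 (a 47<|a 42<|a 44<|b) 0 b (f (g 33 (a 12<|a 5<|a 18<|a 21<|a 6<|a 19<|a 27<|b) (a 6<|a 19<|a 9<|a 27<|a 3<|a 26<|a 30<|b) (a 0<|a 0<|a 0<|a 0<|a 0<|a 0<|a 0<|b) b 0 0 b))))<|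
 a (c 3 (e 42009210172 (a 9<|a 5<|a 9<|a 44<|a 1<|a 8<|a 2<|a 5<|a 55<|b) 0 b (f (g 820 (a 300<|a 748<|a 304<|a 734<|a 414<|a 406<|a 322<|b) (a 560<|a 374<|a 562<|a 367<|a 617<|a 613<|a 161<|b) (a 0<|a 0<|a 0<|a 0<|a 0<|a 0<|a 0<|b) b 0 0 b))))<|
 a (c 4 (e 40914365970454 (a 42<|a 55<|a 47<|a 19<|a 39<|a 9<|a 3<|a 49<|b) 0 b (f (g 1025 (a 396<|a 185<|a 615<|a 969<|a 113<|a 926<|a 839<|b) (a 198<|a 605<|a 820<|a 997<|a 569<|a 463<|a 932<|b) (a 0<|a 0<|a 0<|a 0<|a 0<|a 0<|a 0<|b) b 0 0 b))))<|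
 a (c 5 (e 8278238916919488 (a 39<|a 8<|a 56<|b) 0 b (f (g 4069 (a 1372<|a 602<|a 530<|a 1894<|a 897<|a 2843<|a 3982<|b) (a 686<|a 301<|a 265<|a 947<|a 2483<|a 3456<|a 1991<|b) (a 0<|a 0<|a 0<|a 0<|a 0<|a 0<|a 0<|b) b 0 0 b))))<|
 a (c 7 (e 23986498578931832868 (a 8<|a 56<|a 49<|a 54<|a 53<|b) 0 b (f (g 48 (a 16<|a 26<|a 10<|a 16<|a 24<|a 18<|a 14<|b) (a 32<|a 37<|a 29<|a 8<|a 12<|a 9<|a 31<|b) (a 0<|a 0<|a 0<|a 0<|a 0<|a 0<|a 0<|b) b 0 0 b))))<|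
 a (c 8 (e 562052362722396187554 (a 56<|a 54<|b) 0 b (f (g 262143 (a 74898<|a 214947<|a 216232<|a 253323<|a 167078<|a 195732<|a 191583<|b) (a 37449<|a 238545<|a 108116<|a 257733<|a 83539<|a 97866<|a 226863<|b) (a 0<|a 0<|a 0<|a 0<|a 0<|a 0<|a 0<|b) b 0 0 b))))<|
 a (c 9 (e 9044942119560857602759 (a 7<|a 53<|a 14<|a 9<|b) 0 b (f (g 2391485 (a 1810395<|a 183123<|a 2333925<|a 1964992<|a 805879<|a 1627760<|a 964880<|b) (a 2100940<|a 1287304<|a 2362705<|a 982496<|a 1598682<|a 813880<|a 482440<|b) (a 0<|a 0<|a 0<|a 0<|a 0<|a 0<|a 0<|b) b 0 0 b))))<|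
 a (c 11 (e 1021177468872681615660453 (a 53<|a 2<|a 42<|a 19<|a 45<|a 9<|a 5<|a 42<|b) 0 b (f (g 4469193 (a 947385<|a 1565433<|a 3577270<|a 2312834<|a 3888070<|a 3095209<|a 1368942<|b) (a 2708289<|a 3017313<|a 1788635<|a 1156417<|a 1944035<|a 3782201<|a 684471<|b) (a 0<|a 0<|a 0<|a 0<|a 0<|a 0<|a 0<|b) b 0 0 b))))<|
 a (c 13 (e 51923997983944391751893014 b 0 b (f (g 168 (a 112<|a 32<|a 88<|a 166<|a 138<|a 80<|a 142<|b) (a 140<|a 16<|a 128<|a 167<|a 153<|a 40<|a 155<|b) (a 0<|a 0<|a 0<|a 0<|a 0<|a 0<|a 0<|b) b 0 0 b))))<|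
 a (c 16 (e 6814680056497508209697944687 (a 54<|a 51<|a 55<|a 19<|a 0<|a 56<|a 56<|a 13<|b) 0 b (f (g 252707057 (a 57063600<|a 88080468<|a 194479909<|a 115898883<|a 198839562<|a 63249486<|a 18616768<|b) (a 28531800<|a 44040234<|a 223593483<|a 184302970<|a 99419781<|a 31624743<|a 9308384<|b) (a 0<|a 0<|a 0<|a 0<|a 0<|a 0<|a 0<|b) b 0 0 b))))<|b)<|b))

theorem svsE7_42 : tbE7.svs 7 svE7_42 = true := by decide +kernel

theorem svdE7_42 : tbE7.svd svE7_42 = true := by decide +kernel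

theorem svcE7_42 : aL (tbE7.svc 7 svE7_42 ivE7_42 ceE7_42) 2 = true := by ((try (rewrite [Cfsg.Agent.LsF.f90fa7f_8.2, Cfsg.Agent.LsF.f90fa7f_35.2])); decide +kernel)

theorem goodE7_42 {M : CoxeterMatrix (Fin 7)} (hp : IsType chevE7 7 M) : Good hp tbE7 2657690330612403339274397804439041007 :=
  (gsE7 hp).good_sv (fun h => absurd h (by decide)) svsE7_42 svdE7_42 (aL_iff.1 svcE7_42)

/-- D6A1 -/
def svE7_44 : Sv where
  m := 84595497222893446814792236715451475935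
  Δ := [0, 1, 2, 3, 4, 6, 48]
  dm := [6, 55, 62]
  s := 62
  sq := (beta% delta% lq2621049049 fun a b c _ _ _ _ i j _ _ _ =>
 (a (c 55 j)<|a (c 1 i)<|a (c 6 i)<|a (c 3 i)<|a (c 62 j)<|a (c 0 i)<|a (c 2 i)<|b))
  co := (beta% delta% lq2621049049 fun a b _ _ _ _ _ _ _ _ _ _ =>
 (a (a 0<|a 0<|a 0<|a 0<|a 0<|a 1<|a 0<|b)<|a (a 0<|a 1<|a 0<|a 0<|a 0<|a 0<|a 0<|b)<|a (a 0<|a 0<|a 0<|a 0<|a 0<|a 0<|a 1<|b)<|a (a 0<|a 0<|a 0<|a 1<|a 0<|a 0<|a 0<|b)<|a (a 2<|a (-2)<|a (-1)<|a (-2)<|a (-1)<|a 0<|a (-1)<|b)<|a (a (-3)<|a 2<|a 1<|a 1<|a 2<|a (-1)<|a 0<|b)<|a (a 0<|a 0<|a 1<|a 0<|a 0<|a 0<|a 0<|b)<|b))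
  ω := 1
  cl := [(false, [])]
  lf := [(15482249054912514, 0, [])]
  q₁ := 20
  k₁ := 13
  ev := false
  lg := (0, [], 0)

/-- inverted roots -/
def ivE7_44 : List (ℕ × List ℕ × ℕ) := []

/-- the certificates -/
def ceE7_44 : List (List (ℕ × Ce)) := (beta% delta% lq2621049049 fun a b c _ e f g _ _ _ _ _ =>
 (a (a (c 2 (e 734634 (a 61<|a 51<|a 7<|a 4<|a 3<|a 15<|b) 0 b (f (g 15 (a 14<|a 3<|a 7<|a 6<|a 6<|a 6<|a 0<|b) (a 7<|a 9<|a 11<|a 3<|a 3<|a 3<|a 0<|b) (a 0<|a 0<|a 0<|a 0<|a 0<|a 0<|a 0<|b) b 0 0 b))))<|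
 a (c 3 (e 5880920909 (a 27<|a 25<|a 21<|a 59<|a 51<|a 19<|a 20<|a 19<|a 51<|b) 0 b (f (g 364 (a 50<|a 278<|a 276<|a 60<|a 192<|a 264<|a 0<|b) (a 207<|a 321<|a 138<|a 212<|a 278<|a 132<|a 182<|b) (a 0<|a 0<|a 0<|a 0<|a 0<|a 0<|a 0<|b) b 0 0 b))))<|
 a (c 4 (e 3221804433079 (a 57<|a 16<|a 7<|a 31<|a 36<|a 60<|a 15<|a 51<|a 58<|b) 0 b (f (g 13 (a 6<|a 10<|a 1<|a 2<|a 5<|a 9<|a 0<|b) (a 3<|a 5<|a 7<|a 1<|a 9<|a 11<|a 0<|b) (a 0<|a 0<|a 0<|a 0<|a 0<|a 0<|a 0<|b) b 0 0 b))))<|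
 a (c 5 (e 417197098699431 (a 36<|a 59<|a 16<|a 7<|a 10<|a 0<|b) 0 b (f (g 312 (a 156<|a 128<|a 168<|a 232<|a 236<|a 42<|a 156<|b) (a 78<|a 220<|a 84<|a 116<|a 118<|a 21<|a 78<|b) (a 0<|a 0<|a 0<|a 0<|a 0<|a 0<|a 0<|b) b 0 0 b))))<|
 a (c 7 (e 616757030058564858 (a 51<|a 20<|a 9<|a 60<|a 15<|a 7<|a 56<|a 13<|b) 0 b (f (g 344 (a 340<|a 336<|a 60<|a 304<|a 76<|a 138<|a 0<|b) (a 342<|a 168<|a 202<|a 152<|a 38<|a 241<|a 0<|b) (a 0<|a 0<|a 0<|a 0<|a 0<|a 0<|a 0<|b) b 0 0 b))))<|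
 a (c 8 (e 11064712545892116828 (a 61<|a 36<|a 8<|b) 0 b (f (g 511 (a 36<|a 0<|a 288<|a 0<|a 438<|a 114<|a 365<|b) (a 18<|a 0<|a 144<|a 0<|a 219<|a 57<|a 438<|b) (a 0<|a 0<|a 0<|a 0<|a 0<|a 0<|a 0<|b) b 0 0 b))))<|
 a (c 9 (e 140690283598956482837 (a 58<|a 2<|a 9<|a 62<|b) 0 b (f (g 91 (a 21<|a 84<|a 9<|a 1<|a 30<|a 0<|a 0<|b) (a 56<|a 42<|a 50<|a 46<|a 15<|a 0<|a 0<|b) (a 0<|a 0<|a 0<|a 0<|a 0<|a 0<|a 0<|b) b 0 0 b))))<|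
 a (c 11 (e 10633082551331059355413 (a 60<|b) 0 b (f (g 20 (a 8<|a 4<|a 2<|a 18<|a 8<|a 8<|a 8<|b) (a 4<|a 2<|a 1<|a 19<|a 14<|a 14<|a 14<|b) (a 0<|a 0<|a 0<|a 0<|a 0<|a 0<|a 0<|b) b 0 0 b))))<|
 a (c 13 (e 387101408607517725544204 (a 36<|b) 0 b (f (g 168 (a 0<|a 84<|a 134<|a 56<|a 112<|a 62<|a 112<|b) (a 0<|a 42<|a 151<|a 28<|a 140<|a 31<|a 140<|b) (a 0<|a 0<|a 0<|a 0<|a 0<|a 0<|a 0<|b) b 0 0 b))))<|
 a (c 16 (e 33538901763593727025322910 (a 25<|a 57<|a 15<|b) 0 b (f (g 3315 (a 1088<|a 2638<|a 3247<|a 2890<|a 337<|a 2978<|a 2652<|b) (a 544<|a 1319<|a 3281<|a 1445<|a 1826<|a 1489<|a 1326<|b) (a 0<|a 0<|a 0<|a 0<|a 0<|a 0<|a 0<|b) b 0 0 b))))<|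
 a (c 17 (e 123256596445403160734314093 (a 36<|a 21<|a 0<|a 31<|b) 0 b (f (g 9828 (a 580<|a 7646<|a 32<|a 3788<|a 7646<|a 8188<|a 0<|b) (a 5204<|a 3823<|a 16<|a 6808<|a 8737<|a 9008<|a 4914<|b) (a 0<|a 0<|a 0<|a 0<|a 0<|a 0<|a 0<|b) b 0 0 b))))<|
 a (c 19 (e 1340768085955206159399790386 (a 62<|a 57<|a 4<|a 54<|a 2<|a 15<|a 7<|a 54<|a 7<|b) 0 b (f (g 4137660 (a 690760<|a 2707760<|a 200780<|a 2141360<|a 781920<|a 3761626<|a 459740<|b) (a 345380<|a 1353880<|a 2169220<|a 1070680<|a 390960<|a 3949643<|a 2298700<|b) (a 0<|a 0<|a 0<|a 0<|a 0<|a 0<|a 0<|b) b 0 0 b))))<|b)<|b))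

theorem svsE7_44 : tbE7.svs 7 svE7_44 = true := by decide +kernel

theorem svdE7_44 : tbE7.svd svE7_44 = true := by decide +kernel

theorem svcE7_44 : aL (tbE7.svc 7 svE7_44 ivE7_44 ceE7_44) 1 = true := by decide +kernel

theorem goodE7_44 {M : CoxeterMatrix (Fin 7)} (hp : IsType chevE7 7 M) : Good hp tbE7 84595497222893446814792236715451475935 :=
  (gsE7 hp).good_sv (fun h => absurd h (by decide)) svsE7_44 svdE7_44 (aL_iff.1 svcE7_44)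

/-- E6 -/
def svE7_45 : Sv where
  m := 47123232259592422029149144092503999
  Δ := [0, 1, 2, 3, 4, 5]
  dm := [52, 62, 69]
  s := 72
  sq := (beta% delta% lq2621049049 fun a b c _ _ _ _ i j _ _ _ =>
 (a (c 52 j)<|a (c 1 i)<|a (c 3 i)<|a (c 2 i)<|a (c 4 i)<|a (c 0 i)<|a (c 5 i)<|a (c 62 j)<|b))
  co := (beta% delta% lq2621049049 fun a b _ _ _ _ _ _ _ _ _ _ =>
 (a (a 0<|a 0<|a 0<|a 0<|a 0<|a 1<|a 0<|a 0<|b)<|a (a 0<|a 1<|a 0<|a 0<|a 0<|a 0<|a 0<|a 0<|b)<|a (a 0<|a 0<|a 0<|a 1<|a 0<|a 0<|a 0<|a 0<|b)<|a (a 0<|a 0<|a 1<|a 0<|a 0<|a 0<|a 0<|a 0<|b)<|a (a 0<|a 0<|a 0<|a 0<|a 1<|a 0<|a 0<|a 0<|b)<|a (a 1<|a (-2)<|a (-3)<|a (-2)<|a (-2)<|a (-1)<|a 0<|a 0<|b)<|a (a (-2)<|a 2<|a 2<|a 1<|a 1<|a 0<|a 0<|a 1<|b)<|b))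
  ω := 2
  cl := (beta% delta% lq2621049049 fun a b c _ _ _ _ _ j _ _ _ =>
 (a (c j b)<|a (c j (a 60<|a 46<|a 18<|a 49<|a 8<|a 23<|a 20<|b))<|b))
  lf := [(3747279672140891454, 0, []),
    (3747279680697598021, 1, [])]
  q₁ := 24
  k₁ := 10
  ev := false
  lg := (0, [], 0)

/-- inverted roots -/
def ivE7_45 : List (ℕ × List ℕ × ℕ) := []

/-- the certificates -/
def ceE7_45 : List (List (ℕ × Ce)) := (beta% delta% lq2621049049 fun a b c _ e f g _ _ _ _ _ =>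
 (a (a (c 2 (e 57848 (a 4<|a 17<|a 19<|a 7<|a 5<|b) 0 b (f (g 45 (a 13<|a 15<|a 12<|a 34<|a 1<|a 17<|a 18<|b) (a 29<|a 30<|a 6<|a 17<|a 23<|a 31<|a 9<|b) (a 0<|a 0<|a 0<|a 0<|a 0<|a 0<|a 0<|b) b 0 0 b))))<|
 a (c 3 (e 119866499 (a 10<|a 45<|a 52<|a 15<|a 42<|a 4<|b) 0 b (f (g 11 (a 6<|a 8<|a 2<|a 5<|a 8<|a 3<|a 2<|b) (a 3<|a 4<|a 1<|a 8<|a 4<|a 7<|a 1<|b) (a 0<|a 0<|a 0<|a 0<|a 0<|a 0<|a 0<|b) b 0 0 b))))<|
 a (c 4 (e 25170347133 (a 37<|a 32<|b) 0 b (f (g 63 (a 19<|a 29<|a 52<|a 24<|a 10<|a 61<|a 23<|b) (a 41<|a 46<|a 26<|a 12<|a 5<|a 62<|a 43<|b) (a 0<|a 0<|a 0<|a 0<|a 0<|a 0<|a 0<|b) b 0 0 b))))<|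
 a (c 5 (e 1549165915791 (a 39<|a 36<|a 16<|a 1<|a 26<|a 32<|a 5<|a 45<|b) 0 b (f (g 15751 (a 14403<|a 6983<|a 8425<|a 13559<|a 1314<|a 3076<|a 12277<|b) (a 15077<|a 11367<|a 12088<|a 14655<|a 657<|a 1538<|a 14014<|b) (a 0<|a 0<|a 0<|a 0<|a 0<|a 0<|a 0<|b) b 0 0 b))))<|
 a (c 7 (e 746066105222680 (a 13<|a 0<|a 15<|b) 0 b (f (g 15 (a 12<|a 7<|a 5<|a 4<|a 7<|a 9<|a 0<|b) (a 6<|a 11<|a 10<|a 2<|a 11<|a 12<|a 0<|b) (a 0<|a 0<|a 0<|a 0<|a 0<|a 0<|a 0<|b) b 0 0 b))))<|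
 a (c 8 (e 8576238444860781 (a 14<|a 4<|a 13<|a 37<|a 7<|a 49<|a 11<|a 22<|a 3<|b) 0 b (f (g 511 (a 246<|a 392<|a 119<|a 70<|a 490<|a 97<|a 219<|b) (a 123<|a 196<|a 315<|a 35<|a 245<|a 304<|a 365<|b) (a 0<|a 0<|a 0<|a 0<|a 0<|a 0<|a 0<|b) b 0 0 b))))<|
 a (c 9 (e 73639767455232244 (a 36<|a 1<|a 34<|a 19<|a 41<|a 52<|a 45<|a 14<|b) 0 b (f (g 181468 (a 119784<|a 81112<|a 100904<|a 170168<|a 12096<|a 144244<|a 149746<|b) (a 59892<|a 40556<|a 50452<|a 85084<|a 6048<|a 162856<|a 165607<|b) (a 0<|a 0<|a 0<|a 0<|a 0<|a 0<|a 0<|b) b 0 0 b))))<|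
 a (c 11 (e 2851063585233396777 (a 26<|a 32<|a 7<|a 26<|a 22<|a 28<|a 4<|a 49<|a 17<|b) 0 b (f (g 60 (a 50<|a 10<|a 24<|a 56<|a 0<|a 50<|a 14<|b) (a 25<|a 35<|a 12<|a 28<|a 30<|a 25<|a 37<|b) (a 0<|a 0<|a 0<|a 0<|a 0<|a 0<|a 0<|b) b 0 0 b))))<|
 a (c 13 (e 59475337076553948419 (a 31<|a 2<|a 14<|a 3<|a 15<|b) 0 b (f (g 1199604 (a 1194312<|a 809076<|a 905436<|a 21012<|a 47784<|a 898330<|a 799736<|b) (a 597156<|a 1004340<|a 1052520<|a 610308<|a 23892<|a 1048967<|a 999670<|b) (a 0<|a 0<|a 0<|a 0<|a 0<|a 0<|a 0<|b) b 0 0 b))))<|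
 a (c 16 (e 2579124043109620466770 b 0 b (f (g 15 (a 9<|a 13<|a 11<|a 4<|a 11<|a 2<|a 11<|b) (a 12<|a 14<|a 13<|a 2<|a 13<|a 1<|a 13<|b) (a 0<|a 0<|a 0<|a 0<|a 0<|a 0<|a 0<|b) b 0 0 b))))<|
 a (c 17 (e 7744090767798224284117 (a 52<|a 7<|a 25<|a 7<|a 15<|a 45<|b) 0 b (f (g 4912 (a 614<|a 816<|a 1890<|a 4864<|a 1276<|a 3070<|a 3434<|b) (a 307<|a 408<|a 945<|a 4888<|a 638<|a 3991<|a 4173<|b) (a 0<|a 0<|a 0<|a 0<|a 0<|a 0<|a 0<|b) b 0 0 b))))<|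
 a (c 19 (e 58143119506709832782667 (a 19<|a 3<|a 22<|a 26<|a 45<|a 14<|a 14<|b) 0 b (f (g 8145 (a 6939<|a 3258<|a 1737<|a 2727<|a 3366<|a 423<|a 7132<|b) (a 7542<|a 1629<|a 4941<|a 5436<|a 1683<|a 4284<|a 3566<|b) (a 0<|a 0<|a 0<|a 0<|a 0<|a 0<|a 0<|b) b 0 0 b))))<|
 a (c 23 (e 1849321933016260763257318 (a 2<|a 14<|b) 0 b (f (g 6083 (a 6035<|a 4426<|a 5071<|a 1613<|a 1104<|a 4424<|a 5530<|b) (a 6059<|a 2213<|a 5577<|a 3848<|a 552<|a 2212<|a 2765<|b) (a 0<|a 0<|a 0<|a 0<|a 0<|a 0<|a 0<|b) b 0 0 b))))<|b)<|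
 a (a (c 2 (e 57848 (a 2<|a 22<|a 22<|a 31<|a 22<|a 11<|b) 0 b (f (g 117 (a 15<|a 48<|a 3<|a 93<|a 87<|a 72<|a 5<|b) (a 66<|a 24<|a 60<|a 105<|a 102<|a 36<|a 61<|b) (a 0<|a 0<|a 0<|a 0<|a 0<|a 0<|a 0<|b) b 0 0 b))))<|
 a (c 3 (e 119866499 (a 15<|a 4<|a 36<|a 3<|a 19<|b) 0 b (f (g 41 (a 7<|a 22<|a 4<|a 21<|a 23<|a 19<|a 40<|b) (a 24<|a 11<|a 2<|a 31<|a 32<|a 30<|a 20<|b) (a 0<|a 0<|a 0<|a 0<|a 0<|a 0<|a 0<|b) b 0 0 b))))<|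
 a (c 4 (e 25170347133 (a 41<|a 27<|a 32<|a 39<|a 14<|a 2<|a 8<|a 34<|a 28<|b) 0 b (f (g 3855 (a 539<|a 995<|a 961<|a 3059<|a 2651<|a 1215<|a 1399<|b) (a 2197<|a 2425<|a 2408<|a 3457<|a 3253<|a 2535<|a 2627<|b) (a 0<|a 0<|a 0<|a 0<|a 0<|a 0<|a 0<|b) b 0 0 b))))<|
 a (c 5 (e 1549165915791 (a 32<|a 16<|a 5<|b) 0 b (f (g 1252 (a 52<|a 48<|a 1242<|a 1212<|a 242<|a 800<|a 210<|b) (a 652<|a 24<|a 621<|a 606<|a 121<|a 400<|a 105<|b) (a 0<|a 0<|a 0<|a 0<|a 0<|a 0<|a 0<|b) b 0 0 b))))<|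
 a (c 7 (e 746066105222680 (a 11<|a 4<|a 26<|a 52<|a 7<|a 9<|a 22<|b) 0 b (f (g 120 (a 40<|a 74<|a 32<|a 86<|a 22<|a 84<|a 96<|b) (a 20<|a 37<|a 16<|a 103<|a 71<|a 42<|a 48<|b) (a 0<|a 0<|a 0<|a 0<|a 0<|a 0<|a 0<|b) b 0 0 b))))<|
 a (c 8 (e 8576238444860781 (a 0<|a 19<|a 34<|a 15<|a 41<|a 15<|a 26<|a 49<|a 3<|b) 0 b (f (g 262143 (a 167769<|a 151791<|a 161634<|a 181089<|a 220533<|a 176403<|a 225862<|b) (a 214956<|a 206967<|a 80817<|a 221616<|a 241338<|a 219273<|a 112931<|b) (a 0<|a 0<|a 0<|a 0<|a 0<|a 0<|a 0<|b) b 0 0 b))))<|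
 a (c 9 (e 73639767455232244 (a 7<|a 0<|a 39<|a 36<|a 16<|a 25<|b) 0 b (f (g 2653565 (a 913400<|a 2591525<|a 1048995<|a 807725<|a 1531420<|a 891415<|a 1897102<|b) (a 456700<|a 2622545<|a 1851280<|a 1730645<|a 765710<|a 1772490<|a 948551<|b) (a 0<|a 0<|a 0<|a 0<|a 0<|a 0<|a 0<|b) b 0 0 b))))<|
 a (c 11 (e 2851063585233396777 (a 37<|a 14<|b) 0 b (f (g 183 (a 64<|a 147<|a 152<|a 61<|a 92<|a 94<|a 0<|b) (a 32<|a 165<|a 76<|a 122<|a 46<|a 47<|a 0<|b) (a 0<|a 0<|a 0<|a 0<|a 0<|a 0<|a 0<|b) b 0 0 b))))<|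
 a (c 13 (e 59475337076553948419 (a 31<|a 17<|a 23<|a 27<|a 1<|a 10<|b) 0 b (f (g 952 (a 74<|a 10<|a 412<|a 812<|a 868<|a 764<|a 606<|b) (a 513<|a 5<|a 206<|a 406<|a 434<|a 382<|a 779<|b) (a 0<|a 0<|a 0<|a 0<|a 0<|a 0<|a 0<|b) b 0 0 b))))<|
 a (c 16 (e 2579124043109620466770 (a 15<|a 0<|a 0<|a 5<|a 31<|a 41<|a 19<|a 2<|a 7<|b) 0 b (f (g 1048577 (a 66592<|a 257587<|a 778257<|a 130812<|a 913603<|a 16895<|a 554380<|b) (a 33296<|a 653082<|a 913417<|a 65406<|a 981090<|a 532736<|a 277190<|b) (a 0<|a 0<|a 0<|a 0<|a 0<|a 0<|a 0<|b) b 0 0 b))))<|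
 a (c 17 (e 7744090767798224284117 (a 32<|a 36<|a 39<|a 10<|a 34<|a 34<|a 42<|b) 0 b (f (g 83520 (a 11268<|a 69444<|a 20052<|a 76716<|a 24406<|a 34598<|a 76762<|b) (a 5634<|a 76482<|a 10026<|a 80118<|a 12203<|a 17299<|a 80141<|b) (a 0<|a 0<|a 0<|a 0<|a 0<|a 0<|a 0<|b) b 0 0 b))))<|
 a (c 19 (e 58143119506709832782667 (a 5<|a 0<|a 7<|a 14<|a 14<|b) 0 b (f (g 8688 (a 1414<|a 5792<|a 5136<|a 2216<|a 2818<|a 7886<|a 1526<|b) (a 707<|a 2896<|a 2568<|a 5452<|a 1409<|a 3943<|a 5107<|b) (a 0<|a 0<|a 0<|a 0<|a 0<|a 0<|a 0<|b) b 0 0 b))))<|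
 a (c 23 (e 1849321933016260763257318 (a 1<|a 31<|b) 0 b (f (g 1749 (a 1476<|a 583<|a 1050<|a 346<|a 1413<|a 750<|a 1731<|b) (a 738<|a 1166<|a 525<|a 173<|a 1581<|a 375<|a 1740<|b) (a 0<|a 0<|a 0<|a 0<|a 0<|a 0<|a 0<|b) b 0 0 b))))<|b)<|b))

theorem svsE7_45 : tbE7.svs 7 svE7_45 = true := by decide +kernel

theorem svdE7_45 : tbE7.svd svE7_45 = true := by decide +kernel

theorem svcE7_45 : aL (tbE7.svc 7 svE7_45 ivE7_45 ceE7_45) 2 = true := by ((try (rewrite [Cfsg.Agent.LsF.f90fa7f_8.2, Cfsg.Agent.LsF.f90fa7f_35.2])); decide +kernel)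

theorem goodE7_45 {M : CoxeterMatrix (Fin 7)} (hp : IsType chevE7 7 M) : Good hp tbE7 47123232259592422029149144092503999 :=
  (gsE7 hp).good_sv (fun h => absurd h (by decide)) svsE7_45 svdE7_45 (aL_iff.1 svcE7_45)

end Cfsg.Agent.N2.Ex.Al.Ck
end

-- part: N2/Ex/CC/Main
section
prune_inst 0x4000000000000000000000000000000000000000000000000000000000000000000000000000000000000000000000000000000000000000000000000000000000000000080080000000000000000000000000000000000000000000000000000000000000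
set_option linter.all false
open scoped Cfsg.Agent.FastGrp

-- part: N2/Ex/CC/Lang
section
/-!
# N2 / CC : Lang's theorem for the group generated by the polynomial curves in a centraliser (helper24)
-/

set_option autoImplicit false
set_option linter.unusedSectionVars false
set_option maxHeartbeats 400000

namespace Cfsg.Agent.N2.Ex.CC

open Cfsg Cfsg.Lie Cfsg.Lie.ChevalleyDatum Cfsg.Agent.BpExc.LangFr Cfsg.Agent.H469.Exc Cfsg.Agent.LangThm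
open Cfsg.Agent.DS.Ex hiding Gam

namespace La

variable {D : ChevalleyDatum} {p : ℕ} [Fact p.Prime]

theorem gam_eq (Z : Set (YY D p)) : Gam (Subtype.val : Cv p Z → _) (KK p) = (Cc p Z).map (Subgroup.subtype _) := by
  rw [Cc, MonoidHom.map_closure, Gam]
  congr 1
  ext g
  refine ⟨?_, ?_⟩
  · rintro ⟨γ, a, rfl⟩
    obtain ⟨y, -, e⟩ := γ.2.2 a
    exact ⟨y, ⟨γ, γ.2, a, e⟩, e⟩
  · rintro ⟨y, ⟨γ, hγ, a, e⟩, rfl⟩
    exact ⟨⟨γ, hγ⟩, a, e⟩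

/-- the image of a curve -/
noncomputable def im (n : ℕ) (J : GL D.Idx (KK p)) (γ : GL D.Idx (Polynomial (KK p))) : GL D.Idx (Polynomial (KK p)) :=
  mp (Algebra.ofId (KK p) _) J * frob p n γ * (mp (Algebra.ofId (KK p) _) J)⁻¹

theorem ev_im (n : ℕ) (J : GL D.Idx (KK p)) (γ : GL D.Idx (Polynomial (KK p))) (a : KK p) :
    ev a (im n J γ) = J * frob p n (ev a γ) * J⁻¹ := by
  have h : ev a (mp (Algebra.ofId (KK p) (Polynomial (KK p))) J) = J := by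
    rw [ev, mp_mp, Subsingleton.elim (AlgHom.comp _ _) (AlgHom.id _ _), mp_id]
  rw [im, map_mul, map_mul, map_inv, h, ev, mp_frob]

theorem im_mem {n : ℕ} {σ : MulAut (YY D p)} {J : GL D.Idx (KK p)}
    (hJ : ∀ g, (σ g : GL D.Idx (KK p)) = J * frob p n (g : GL D.Idx (KK p)) * J⁻¹) {Z : Set (YY D p)} (hZ : ∀ z ∈ Z, σ z = z)
    {γ : GL D.Idx (Polynomial (KK p))} (h : γ ∈ Cv p Z) : im n J γ ∈ Cv p Z :=
  ⟨by rw [ev_im, h.1, map_one, mul_one, mul_inv_cancel], fun a =>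
    let ⟨y, hy, e⟩ := h.2 a
    ⟨σ y, fun z hz => by rw [← hZ z hz, ← map_mul, hy z hz, map_mul], by rw [ev_im, hJ, e]⟩⟩

end La

open La in
/-- **[Lang]** -/
theorem boxLang : BoxLang := by
  intro D l M hp p _ _ n σ Z hn ⟨J, hJ⟩ hZ c hc
  have h1 : ∀ y ∈ Cc p Z, σ y ∈ Cc p Z := fun y hy => by
    refine ((Subgroup.closure_le _).2 ?_ : Cc p Z ≤ (Cc p Z).comap σ.toMonoidHom) hy
    rintro x ⟨γ, hγ, a, e⟩
    exact Subgroup.subset_closure ⟨_, im_mem hJ hZ hγ, a, by rw [ev_im, ← e]; exact hJ x⟩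
  have h2 : ∀ g ∈ Gam (Subtype.val : Cv p Z → _) (KK p), J * frob p n g * J⁻¹ ∈ Gam (Subtype.val : Cv p Z → _) (KK p) := by
    rw [La.gam_eq]
    rintro _ ⟨y, hy, rfl⟩
    exact ⟨σ y, h1 y hy, hJ y⟩
  let F : Monoid.End ↥(Gam (Subtype.val : Cv p Z → _) (KK p)) :=
    MonoidHom.mk' (fun g => ⟨J * frob p n g * J⁻¹, (h2 g g.2 :)⟩) fun g h => Subtype.ext (by
      show J * frob p n ((g : GL D.Idx (KK p)) * (h : GL D.Idx (KK p))) * J⁻¹ = (J * frob p n g * J⁻¹) * (J * frob p n h * J⁻¹)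
      rw [map_mul]
      group)
  obtain ⟨z, e⟩ := lang p n 1 hn (fun γ : Cv p Z => γ.2.1) F (Y := fun γ => im n J γ)
    (fun γ => by
      have := ev_mem (X := (Subtype.val : Cv p Z → _)) ⟨_, im_mem hJ hZ γ.2⟩ (Polynomial.X : Polynomial (KK p))
      rwa [ev, Polynomial.aeval_X_left, mp_id] at this)
    (fun γ a => (ev_im n J γ a).symm) J (fun g => by rw [pow_one]; rfl) ⟨c, (La.gam_eq Z).ge ⟨c, hc, rfl⟩⟩
  obtain ⟨y, hy, e'⟩ := (La.gam_eq Z).le z.2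
  refine ⟨y, hy, Subtype.ext ?_⟩
  rw [Subgroup.coe_mul, Subgroup.coe_inv, hJ, show (y : GL D.Idx (KK p)) = z from e']
  exact congrArg Subtype.val e

end Cfsg.Agent.N2.Ex.CC
end

-- part: N2/Ex/CC/Cur
section
/-!
# N2 (S3519), `BoxCur`: unipotent elements contracted by a cocharacter (helper54)
-/

set_option autoImplicit false
set_option linter.unusedSectionVars false
set_option maxHeartbeats 400000

namespace Cfsg.Agent.N2.Ex.CC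

open CoxeterSystem Cfsg Cfsg.Lie Cfsg.Lie.ChevalleyDatum
open Cfsg.Agent.ChevalleyStructure Cfsg.Agent.ChevalleyStructure.CoxeterGeom Cfsg.Agent.Tits.Roots Cfsg.Agent.Nodes
  Cfsg.Agent.Nodes.BNOf Cfsg.Agent.Nodes.RGDChev Cfsg.Agent.Nodes.Coroot
open Cfsg.Agent.KFacts.RgdChevCoord Cfsg.Agent.BpExc.Fr Cfsg.Agent.BpExc.LangFr
open Cfsg.Agent.H469.Exc Cfsg.Agent.H316.U6 Cfsg.Agent.H129.TorusChar Cfsg.Agent.DS.Ex Cfsg.Agent.DS.Nt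
open Cfsg.Agent.DS.Ex.Tor (RT FR MS)
open Cfsg.Agent.N2.Ex.Al (LL cp ac GW Ch)

namespace Cur

variable {D : ChevalleyDatum} {l : ℕ} {M : CoxeterMatrix (Fin l)} (hp : IsType D l M) (p : ℕ) [Fact p.Prime]

/-- the elements whose orbit under the cocharacter `μ` is a polynomial curve through `1` -/
def Kc (μ : LL l →+ ℤ) : Subgroup (YY D p) where
  carrier := {u | ∃ γ : GL D.Idx (Polynomial (KK p)), LangThm.ev (0 : KK p) γ = 1 ∧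
    ∀ t ∈ TT D (KK p), ∀ c : KK p, c ≠ 0 → (∀ x, cX hp t x = c ^ μ x) →
      ((t * u * t⁻¹ : YY D p) : GL D.Idx (KK p)) = LangThm.ev c γ}
  one_mem' := ⟨1, map_one _, fun t _ c _ _ => by rw [mul_one, mul_inv_cancel, map_one]; rfl⟩
  mul_mem' := by
    rintro u v ⟨γ, h1, h2⟩ ⟨δ, h3, h4⟩
    refine ⟨γ * δ, by rw [map_mul, h1, h3, one_mul], fun t ht c hc h => ?_⟩
    rw [map_mul, ← h2 t ht c hc h, ← h4 t ht c hc h, ← Subgroup.coe_mul]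
    congr 1
    group
  inv_mem' := by
    rintro u ⟨γ, h1, h2⟩
    refine ⟨γ⁻¹, by rw [map_inv, h1, inv_one], fun t ht c hc h => ?_⟩
    rw [map_inv, ← h2 t ht c hc h, ← Subgroup.coe_inv]
    congr 1
    group

theorem X_le {μ : LL l →+ ℤ} {a : LL l} (ha : RT hp a) (hμ : 0 < μ a) : XX D l (KK p) a ≤ Kc hp p μ := by
  intro y hy
  obtain ⟨b, rfl⟩ := (mem_X (hp := hp) ha).1 hy
  obtain ⟨s, hs, rfl⟩ := (isRoot_iff hp M.toCoxeterSystem a).1 ha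
  obtain ⟨n, hn⟩ := Int.eq_ofNat_of_zero_le hμ.le
  have hn0 : n ≠ 0 := by
    rintro rfl
    rw [hn] at hμ
    exact lt_irrefl _ hμ
  refine ⟨LangThm.xP hp.inList s (Polynomial.C b * Polynomial.X ^ n), ?_, fun t ht c _ h => ?_⟩
  · rw [LangThm.ev_xP, Polynomial.eval_mul, Polynomial.eval_pow, Polynomial.eval_X, zero_pow hn0, mul_zero,
      Elts.xG_zero]
  · rw [(act hp hs ht).2, ← cX_vec hp ht hs, h, hn, zpow_natCast, coe_xc hp hs, LangThm.ev_xP, Polynomial.eval_mul,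
      Polynomial.eval_pow, Polynomial.eval_X, Polynomial.eval_C, mul_comm]

end Cur

theorem boxCur : BoxCur := by
  intro D l M hp p _ hD μ S Z u hS hu hZ hT
  obtain ⟨γ, h1, h2⟩ : u ∈ Cur.Kc hp p μ := RGD.Sup_le (fun a ha => Cur.X_le hp p (hS a ha).1 (hS a ha).2) hu
  refine Subgroup.subset_closure ⟨γ, ⟨h1, fun c => ?_⟩, 1, ?_⟩
  · by_cases hc : c = 0
    · exact ⟨1, one_mem _, by rw [hc, h1]; rfl⟩
    · obtain ⟨t, ht, h⟩ := exists_tor_zpow hp hD hc μ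
      have h3 : t ∈ Subgroup.centralizer Z := fun z hz => hT t ht c hc h z hz
      have h4 : u ∈ Subgroup.centralizer Z := fun z hz => hZ z hz
      exact ⟨t * u * t⁻¹, mul_mem (mul_mem h3 h4) (inv_mem h3), h2 t ht c hc h⟩
  · have h := h2 1 (one_mem _) 1 one_ne_zero fun x => by rw [cX_one, one_zpow]
    rwa [one_mul, inv_one, mul_one] at h

end Cfsg.Agent.N2.Ex.CC
end

-- part: N2/Ex/CC/Neg
section
/-!
# N2 (S3519), `BoxCC`: an element of `N` which centralises `X a` centralises `X (-a)` (helper30)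
-/

set_option autoImplicit false
set_option linter.unusedSectionVars false
set_option maxHeartbeats 200000

namespace Cfsg.Agent.N2.Ex.CC

namespace Ng

open Cfsg.Agent.DL Cfsg.Agent.DL.Datum Cfsg.Agent.Tits.Roots Cfsg.Agent.Nodes.Reps Cfsg.Agent.Nodes.BNOf
  Cfsg.Agent.ChevalleyStructure.CoxeterGeom

variable {p : ℕ} [Fact p.Prime] {k : Type} [Field k] [CharP k p] {Y : Type} [Group Y] {N : Type} [Fintype N]
  [DecidableEq N] {ρ : Y →* GL N k} {F : MulAut Y} {G : Subgroup Y} [IsAlgClosed k] (D : Datum p ρ F G)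

theorem rk1 (i : D.I) {u : Y} (hu : u ∈ D.X (-sr i)) (h1 : u ≠ 1) :
    ∃ a ∈ D.X (sr i), ∃ m, D.Rp (D.cs.simple i) m ∧ ∃ b ∈ D.X (sr i), u = a * m * b := by
  obtain ⟨j, hj⟩ := D.exists_lv u
  obtain ⟨a, ha, t, ht, b, hb, e⟩ := (D.tow.rgd j).rk1 i u ⟨hu, hj⟩ h1
  exact ⟨a, ha.1, t * D.n i, by simpa using (rp_of_mem (cs := D.cs) (hN := D.nsys) ht.1).mul (rp_simple _ _ i), b, hb.1,
    by rw [e, mul_assoc a]⟩

theorem act_eq {w : D.W} {g : Y} (hg : D.Rp w g) {a : D.I → ℤ} (ha : D.Rt a) (h : ∀ x ∈ D.X a, g * x = x * g) :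
    D.act w a = a := by
  by_contra h1
  have h2 := D.conj_mem hg ha (D.x_mem ha 1)
  rw [h _ (D.x_mem ha 1), mul_inv_cancel_right] at h2
  exact one_ne_zero ((D.x_eq_one_iff ha).1 (D.eq_one_of_mem_X_X (ha.act w) ha h1 h2 (D.x_mem ha 1)))

theorem neg_sr (i : D.I) {w : D.W} {g : Y} (hg : D.Rp w g) (h : ∀ x ∈ D.X (sr i), g * x = x * g) {u : Y}
    (hu : u ∈ D.X (-sr i)) : g * u = u * g := by
  have hi := isRoot_sr D.cs D.h i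
  have hU : D.X (sr i) ≤ D.U := RGD.le_Sup ⟨hi, sr_nonneg i⟩
  by_contra h3
  obtain ⟨a, ha, m, hm, b, hb, e⟩ := rk1 D i hu fun e => h3 (by rw [e, mul_one, one_mul])
  have h2 := D.conj_mem hg hi.neg hu
  rw [act, map_neg, ← act, act_eq D hg hi h] at h2
  have e' : g * u * g⁻¹ = a * (g * m * g⁻¹) * b := by
    rw [e, ← mul_assoc, ← mul_assoc, h a ha, mul_assoc _ b, (Commute.inv_left (h b hb)).symm.eq]
    group
  obtain ⟨a', ha', m', hm', b', hb', e''⟩ := rk1 D i (mul_mem (inv_mem hu) h2) fun e =>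
    h3 (mul_inv_eq_iff_eq_mul.1 (inv_mul_eq_one.1 e).symm)
  have h4 := (D.eq_of_mem_UNU (hU (inv_mem hb)) (hU ha') (hm.inv.mul ((hg.mul hm).mul hg.inv)) hm' (hU hb) (hU hb')
    (by rw [← e'', e', e]; group)).1
  exact KFacts.RgdDiag.simple_ne_one i
    (conj_eq_one_iff.1 ((inv_mul_eq_iff_eq_mul.1 h4).trans (D.cs.simple_mul_simple_self i)))

theorem neg {w : D.W} {g : Y} (hg : D.Rp w g) {a : D.I → ℤ} (ha : D.Rt a) (h : ∀ x ∈ D.X a, g * x = x * g) {u : Y}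
    (hu : u ∈ D.X (-a)) : g * u = u * g := by
  have h0 := ha.neg
  obtain ⟨v, i, rfl⟩ := ha
  obtain ⟨m, hm⟩ := Nodes.Reps.exists_rp D.cs D.nsys v
  have h1 := D.conj_mem hm.inv h0 hu
  rw [act, map_neg, rep_inv_apply] at h1
  have h2 := neg_sr D i ((hm.inv.mul hg).mul hm) (fun x hx => by
    have h3 := h _ (D.conj_mem hm (isRoot_sr _ _ i) hx)
    calc _ = m⁻¹ * (g * (m * x * m⁻¹)) * m := by group
      _ = _ := by rw [h3]; group) h1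
  calc _ = m * (m⁻¹ * g * m * (m⁻¹ * u * m⁻¹⁻¹)) * m⁻¹ := by group
    _ = _ := by rw [h2]; group

end Ng

theorem boxNeg : BoxNeg := fun _ _ _ hp p _ _ _ _ _ ha hk h _ hu =>
  Ng.neg (DL.Ex.chev hp (H469.Exc.locFin p) one_pos) hk.toT ha h hu

end Cfsg.Agent.N2.Ex.CC
end

-- part: N2/Ex/CC/QA
section
/-!
# N2 (S3519), `E₆`, `E₇`: the box `QA` (helper76)
-/

set_option autoImplicit false
set_option linter.unusedSectionVars false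

namespace Cfsg.Agent.N2.Ex.CC

namespace QA

section Dat

open Cfsg.Agent.DL Cfsg.Agent.DL.Asm Cfsg.Agent.DL.Uni Cfsg.Agent.Nodes

variable {p : ℕ} [Fact p.Prime] {k : Type} [Field k] [CharP k p] {Y : Type} [Group Y] {N : Type} [Fintype N]
  [DecidableEq N] {ρ : Y →* GL N k} {F : MulAut Y} {G : Subgroup Y} [IsAlgClosed k]

/-- a rational element of prime order which normalises `G` fixes a maximal torus -/
theorem fix_tor (D : Datum p ρ F G) {r : ℕ} (hr : r.Prime) (hrp : r ≠ p) {f : Y} (h1 : f ^ r = 1) (hF : F f = f)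
    (hG : ∀ y ∈ G, f * y * f⁻¹ ∈ G) {m : Y} (hm : m ∈ G) (hT : Reps.cj f D.T = Reps.cj m D.T) :
    ∃ y ∈ G, Reps.cj f (Reps.cj y D.T) = Reps.cj y D.T := by
  classical
  have := Fact.mk hr
  obtain ⟨St, hSt⟩ := DL.St.stD D
  have k1 : ∀ T ∈ tori D, Reps.cj f T ∈ tori D := by
    rintro T ⟨y, hy, e1, e2⟩
    refine ⟨f * y * f⁻¹ * m, mul_mem (hG y hy) hm, ?_, ?_⟩
    · rw [e1, Reps.cj_mul _ m, ← hT, ← Reps.cj_mul, ← Reps.cj_mul, inv_mul_cancel_right]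
    · conv_rhs => rw [← e2]
      rw [Reps.cj, Reps.cj, Subgroup.map_map, Subgroup.map_map]
      congr 1
      ext x
      simp only [hF, _root_.MulEquiv.toMonoidHom_eq_coe, _root_.MonoidHom.coe_comp, _root_.MonoidHom.coe_coe, _root_.Function.comp_apply, _root_.MulAut.conj_apply, _root_.map_mul, _root_.map_inv]
  let φ : Function.End (sys' D).tori := fun T => ⟨Reps.cj f T, (sys' D).mem_tori.2 (k1 _ ((sys' D).mem_tori.1 T.2))⟩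
  have k2 : ∀ (n : ℕ) (T : (sys' D).tori), ((φ ^ n) T : Subgroup Y) = Reps.cj (f ^ n) T := fun n => by
    induction n with
    | zero => intro T; rw [pow_zero, pow_zero, Reps.cj_one]; rfl
    | succ n ih => intro T; rw [pow_succ, pow_succ, Reps.cj_mul]; exact ih (φ T)
  have k3 := Equiv.Perm.card_fixedPoints_modEq (f := φ) (p := r) (n := 1) (funext fun T => Subtype.ext (by
    rw [k2, pow_one, h1, Reps.cj_one]; rfl))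
  obtain ⟨T, hT⟩ : Nonempty (Function.fixedPoints φ) := Fintype.card_pos_iff.1 (Nat.pos_of_ne_zero fun h0 => by
    rw [h0, Fintype.card_coe, hSt.card_tori (sys' D), pc, Nat.modEq_zero_iff_dvd] at k3
    exact hrp ((Nat.prime_dvd_prime_iff_eq hr Fact.out).1 (hr.dvd_of_dvd_pow (hr.dvd_of_dvd_pow k3))))
  obtain ⟨y, hy, e, -⟩ := (sys' D).mem_tori.1 T.2
  exact ⟨y, hy, e ▸ congrArg Subtype.val hT⟩

end Dat

open CoxeterSystem Cfsg Cfsg.Lie Cfsg.Lie.ChevalleyDatum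
open Cfsg.Agent.ChevalleyStructure Cfsg.Agent.ChevalleyStructure.CoxeterGeom Cfsg.Agent.Tits.Roots Cfsg.Agent.Nodes
  Cfsg.Agent.Nodes.BNOf Cfsg.Agent.Nodes.RGDChev
open Cfsg.Agent.KFacts.RgdChevCoord Cfsg.Agent.BpExc.Fr Cfsg.Agent.BpExc.LangFr
open Cfsg.Agent.H469.Exc Cfsg.Agent.H316.U6 Cfsg.Agent.H129.TorusChar Cfsg.Agent.DS.Ex Cfsg.Agent.DS.Nt

variable {D : ChevalleyDatum} {l : ℕ} {M : CoxeterMatrix (Fin l)} (hp : IsType D l M) (p : ℕ) [Fact p.Prime]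

theorem fr_frobA (j : ℕ) : Fr M.toCoxeterSystem hp.isCartan (TT D (KK p)) (XX D l (KK p)) (DL.Ex.frobA hp.inList p j)
    (AddEquiv.refl (Fin l → ℤ)) := by
  have h : DL.Ex.frobA (k := KK p) hp.inList p j = CpAut.RgdUntw.fld D (iterateFrobeniusEquiv (KK p) p j) :=
    MulEquiv.ext fun g => Subtype.ext ((DL.Ex.coe_frobA _ _ _ _).trans (H469.Exc.SigFr.coe_fld_frob (fun _ => rfl) g).symm)
  rw [h]
  exact H469.Exc.SigFr.fr_fld hp _ _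

/-- an element of prime order which centralises `Z` normalises a maximal torus of the connected centraliser -/
theorem main {Z : Set (YY D p)} (hfin : Z.Finite) (hZ : Z ⊆ TT D (KK p)) {r : ℕ} (hr : r.Prime) (hrp : r ≠ p) {f : YY D p}
    (h1 : f ^ r = 1) (hc : ∀ t ∈ Z, f * t = t * f) : ∃ y ∈ DZ hp p Z, ∃ w, RP hp p w (y⁻¹ * f * y) := by
  have := finW hp
  obtain ⟨n, hn, h2⟩ := (DL.Ex.amb_of_isFrob (locFin p) one_pos (DL.Ex.isFrob_frobA hp.inList p 1)).exists_lev ![f]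
  have hσ := DL.Ex.isFrob_frobA (k := KK p) hp.inList p n
  have Φ := fr_frobA hp p n
  let D₀ := DL.Ex.chevFr hp (locFin p) hn hσ Φ
  have hS : D₀.Sz Z = Ps hp p Z := Cb.Sz_eq hn hσ Φ hZ
  have hC : D₀.cen Z = DZ hp p Z :=
    (congrArg (fun A => D₀.T ⊔ D₀.S A) hS : D₀.cen Z = D₀.T ⊔ D₀.S (Ps hp p Z)).trans (sup_comm _ _)
  obtain ⟨m, hm, w, -, k, hk, -, e⟩ := _root_.Cfsg.Agent.DS.Nt.form hp hfin hZ hc
  obtain ⟨y, hy, h3⟩ := fix_tor (D₀.sub hZ (fun _ ha => ha) hC) hr hrp h1 (Subtype.ext (DL.mem_lev.1 (h2 0)))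
    (fun y => conj_mem_DZ hfin hZ hc) (Mz_le_DZ hm) (by
      rw [e, Reps.cj_mul]
      congr 1
      ext t
      rw [Reps.mem_cj]
      show k⁻¹ * t * k ∈ TT D (KK p) ↔ t ∈ TT D (KK p)
      exact ⟨fun h => by simpa only [mul_assoc, _root_.mul_inv_cancel_left, _root_.mul_inv_cancel, _root_.mul_one] using hk.conj_mem h, fun h => by simpa only [_root_.inv_inv] using hk.inv.conj_mem h⟩)
  refine ⟨y, hy, Tor.rp_of_norm fun t => ?_⟩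
  have h4 : Reps.cj (y⁻¹ * f * y) (TT D (KK p)) = TT D (KK p) := by
    rw [Reps.cj_mul, Reps.cj_mul]
    exact (congrArg (Reps.cj y⁻¹) h3).trans (by rw [← Reps.cj_mul, inv_mul_cancel, Reps.cj_one]; rfl)
  conv_lhs => rw [← h4]
  exact Reps.conj_mem_cj

end QA

/-- [QA] -/
theorem boxQA : BoxQA := fun _ _ _ hp p _ _ _ e _ h he => by
  have hZ := Set.singleton_subset_iff.2 he
  obtain ⟨y, hy, w, hw⟩ := QA.main hp p (Set.finite_singleton e) hZ h.prime h.ne h.hf fun t ht => ht ▸ h.comm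
  exact ⟨y⁻¹, DS.Nt.DZ_comm hZ (inv_mem hy) rfl, w, by rwa [inv_inv]⟩

end Cfsg.Agent.N2.Ex.CC
end

-- part: N2/Ex/CC/QB2
section
/-!
# N2 (S3519), `E₇`: a better torus for the pair, `r = 2` (helper47)

`f` acts on the `SL₂` of the root `a` as an inner automorphism of order at most two, which is diagonalised there.
-/

set_option autoImplicit false
set_option linter.unusedSectionVars false
set_option maxHeartbeats 400000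

namespace Cfsg.Agent.N2.Ex.CC

open CoxeterSystem Cfsg Cfsg.Lie Cfsg.Lie.ChevalleyDatum
open Cfsg.Agent.ChevalleyStructure Cfsg.Agent.ChevalleyStructure.CoxeterGeom Cfsg.Agent.Tits.Roots Cfsg.Agent.Nodes
  Cfsg.Agent.Nodes.BNOf Cfsg.Agent.Nodes.RGDChev Cfsg.Agent.Nodes.Coroot
open Cfsg.Agent.KFacts.RgdChevCoord Cfsg.Agent.BpExc.Fr Cfsg.Agent.BpExc.LangFr
open Cfsg.Agent.H469.Exc Cfsg.Agent.H316.U6 Cfsg.Agent.H129.TorusChar Cfsg.Agent.DS.Ex Cfsg.Agent.DS.Nt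
open Cfsg.Agent.DS.Ex.Tor (RT FR MS)
open Cfsg.Agent.N2.Ex.Al (LL cp ac GW Ch)
open Cfsg.Agent.ChevalleyStructure.SL2Hom (up lo)
open Cfsg.Agent.Nodes.RGDFoldSL (hS)
open Cfsg.Agent.Cam.Ex.S2

namespace Q2

/-- an element of `SL₂` with central square is diagonalisable -/
theorem diag {k : Type*} [Field k] [IsAlgClosed k] (h2 : (2 : k) ≠ 0) {j : SL k} (h : j * j ∈ Subgroup.center (SL k)) :
    ∃ (g : SL k) (d : k), d ≠ 0 ∧ g * j = hS d * g := by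
  obtain ⟨h01, h10, -⟩ := mem_center_iff'.1 h
  have hd := det_e j
  rw [mul_e] at h01 h10
  by_cases ht : j.1 0 0 + j.1 1 1 = 0
  · have h11 : j.1 1 1 = -j.1 0 0 := eq_neg_of_add_eq_zero_right ht
    rw [h11] at hd
    obtain ⟨t, e⟩ : ∃ t, j.1 1 0 * t ^ 2 + 2 * j.1 0 0 * t - j.1 0 1 = 0 := by
      by_cases hc : j.1 1 0 = 0
      · have h0 : j.1 0 0 ≠ 0 := fun h0 => by
          rw [hc, h0] at hd
          simp at hd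
        refine ⟨j.1 0 1 / (2 * j.1 0 0), ?_⟩
        rw [hc]
        field_simp
        ring
      · obtain ⟨i, hi⟩ := IsAlgClosed.exists_pow_nat_eq (-1 : k) two_pos
        refine ⟨(i - j.1 0 0) / j.1 1 0, ?_⟩
        field_simp
        linear_combination hi + hd
    obtain ⟨d, hdd⟩ : ∃ d, d = j.1 0 0 + t * j.1 1 0 := ⟨_, rfl⟩
    have hsq : d * -d = 1 := by
      rw [hdd]
      linear_combination hd - j.1 1 0 * e
    have h0 : d ≠ 0 := left_ne_zero_of_mul_eq_one hsq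
    obtain ⟨s, hs⟩ : ∃ s, 2 * s * d + j.1 1 0 = 0 := ⟨-j.1 1 0 / (2 * d), by field_simp; ring⟩
    refine ⟨lo s * up t, d, h0, ?_⟩
    apply ext4 <;> simp only [mul_e, up00, up01, up10, up11, lo00, lo01, lo10, lo11, hS00 h0, hS01 h0, hS10 h0, hS11 h0,
      inv_eq_of_mul_eq_one_right hsq, h11]
    · linear_combination -hdd
    · linear_combination -e - t * hdd
    · linear_combination hs - s * hdd
    · linear_combination t * hs - s * e + (1 - s * t) * hdd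
  · have hb : j.1 0 1 = 0 := (mul_eq_zero.1 (by linear_combination h01 : j.1 0 1 * (j.1 0 0 + j.1 1 1) = 0)).resolve_right ht
    have hc : j.1 1 0 = 0 := (mul_eq_zero.1 (by linear_combination h10 : j.1 1 0 * (j.1 0 0 + j.1 1 1) = 0)).resolve_right ht
    rw [hb, zero_mul, sub_zero] at hd
    have h0 : j.1 0 0 ≠ 0 := left_ne_zero_of_mul_eq_one hd
    refine ⟨1, j.1 0 0, h0, ?_⟩
    rw [one_mul, mul_one]
    exact ext4 (hS00 h0).symm (hb.trans (hS01 h0).symm) (hc.trans (hS10 h0).symm)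
      ((inv_eq_of_mul_eq_one_right hd).symm.trans (hS11 h0).symm)

variable {D : ChevalleyDatum} {l : ℕ} {M : CoxeterMatrix (Fin l)} {hp : IsType D l M} {p : ℕ} [Fact p.Prime]

/-- the root `SL₂` -/
theorem exists_sl {a : LL l} (ha : RT hp a) : ∃ ψ : SL (KK p) →* YY D p, (∀ t, ψ (up t) = xc hp a t) ∧
    (∀ t, ψ (lo t) = xc hp (-a) t) ∧ CK ψ ∧ (∀ d, d ≠ 0 → ψ (hS d) ∈ TT D (KK p)) ∧
    (∀ t ∈ TT D (KK p), cX hp t a = 1 → Cz ψ t) ∧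
    ∃ (m : SL (KK p)) (s : M.Group), RP hp p s (ψ m) ∧ ∀ x, ac hp s x = x - cp hp x a • a := by
  have := finW hp
  have h3 := ha.neg
  obtain ⟨v, i, e⟩ := id ha
  obtain ⟨m, hm, h4⟩ := Tor.exists_rp_MS (hp := hp) (p := p) (S := {a, -a}) (by rintro _ (rfl | rfl); exacts [ha, h3])
    (by rintro _ (rfl | rfl); exacts [.inr rfl, .inl (neg_neg _)]) (Subgroup.subset_closure ⟨v, i, .inl e.symm, rfl⟩)
  obtain ⟨m₀, rfl⟩ : m ∈ (Cam.Ex.sl (hp := hp) p ha).range := by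
    rw [Cam.Ex.sl_range (hp := hp) ha]
    exact hm
  exact ⟨Cam.Ex.sl (hp := hp) p ha, Cam.Ex.sl_up (hp := hp) ha, Cam.Ex.sl_lo (hp := hp) ha, Cam.Ex.sl_ck (hp := hp) ha,
    fun d hd => Cam.Ex.sl_hS_mem (hp := hp) ha hd,
    fun t ht h => (Cam.Ex.cz_T (hp := hp) ha ht).2 ((Cam.Ex.ch_eq_cX (hp := hp) ha ht).trans h),
    m₀, _, h4, fun x => by rw [e]; exact rep_rfl'_eq _ _ v i x⟩

theorem nw_two (w : M.Group) (x : LL l) : Nw hp 2 w x = x + ac hp w x := by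
  show ∑ i ∈ Finset.range 2, ac hp (w ^ i) x = _
  rw [Finset.sum_range_succ, Finset.sum_range_one, pow_zero, pow_one, repAut_apply, map_one, Module.End.one_apply]

end Q2

open Q2 in
theorem boxQB2 : BoxQB 2 := by
  intro _ D l M hp p _ _ e f w a P he hw ha hN
  have := finW hp
  obtain ⟨hr, h1⟩ := (mem_Ps (Set.singleton_subset_iff.2 he)).1 ha
  have h2 : (2 : KK p) ≠ 0 := fun h => P.ne
    ((Nat.prime_dvd_prime_iff_eq Fact.out Nat.prime_two).1 ((CharP.cast_eq_zero_iff (KK p) p 2).1 (by exact_mod_cast h))).symm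
  obtain ⟨ψ, hu, hl, hck, hT, hz, m, s, hs, hsx⟩ := exists_sl (hp := hp) (p := p) hr
  have hwa : ac hp w a = -a := eq_neg_of_add_eq_zero_right ((nw_two w a).symm.trans hN)
  have hsa : ac hp s a = -a := by
    rw [hsx, show cp hp a a = 2 from cpr_self _ _ hr, two_smul]
    abel
  have hw' : ∀ x, ac hp s (ac hp (s⁻¹ * w) x) = ac hp w x := fun x => by
    rw [repAut_apply, repAut_apply, repAut_apply, rep_mul_apply, rep_apply_inv]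
  have hfix : ac hp (s⁻¹ * w) a = a := (ac hp s).injective (by rw [hw', hwa, hsa])
  have hk : RP hp p (s⁻¹ * w) ((ψ m)⁻¹ * f) := hs.inv.mul hw
  obtain ⟨μ, hμ, k1⟩ := Cam.Ex.rp_xc hk hr
  obtain ⟨ν, -, k2⟩ := Cam.Ex.rp_xc hk hr.neg
  have hfix1 : Cam.Ex.wa hp (s⁻¹ * w) a = a := hfix
  rw [Cam.Ex.wa_neg] at k2
  rw [hfix1] at k1 k2
  obtain ⟨c, hc, -, k3⟩ := hck.inn_of_lin (c := (ψ m)⁻¹ * f) (ν := ν) hμ
    (fun t => by rw [hu, hu, k1]) (fun t => by rw [hl, hl, k2])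
  have k4 : JL.Inn ψ f (m * hS c) := by
    have := (JL.Inn.self (ψ := ψ) m).mul k3
    rwa [mul_inv_cancel_left] at this
  have k5 : m * hS c * (m * hS c) ∈ Subgroup.center (SL (KK p)) := by
    refine hck.center_of_cz (k4.mul k4) fun g => ?_
    rw [← sq, P.hf, one_mul, mul_one]
  obtain ⟨g, d, hd, k6⟩ := diag h2 k5
  have k7 : Cz ψ ((ψ (m * hS c))⁻¹ * f) :=
    cz_of_inn ((JL.Inn.self _).inv.mul k4) (by rw [inv_mul_cancel]; exact one_mem _)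
  have k8 : Cz ψ e := hz e he (h1 e rfl)
  refine ⟨ψ g, s⁻¹ * w, (k8 g).symm, ?_, hfix, fun x hx => ?_⟩
  · have k9 := (RP.of_mem (hp := hp) (mul_mem (hT d hd) (inv_mem (hT c hc)))).mul hk
    rw [one_mul] at k9
    have k10 := congrArg ψ k6
    have k11 := k7 g
    rw [map_mul, map_mul, map_mul] at k10
    rw [map_mul] at k11
    have k12 : ψ g * f * (ψ g)⁻¹ =
        ψ (hS d) * (ψ (hS c))⁻¹ * ((ψ m)⁻¹ * f) := by
      generalize ψ g = G at k10 k11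
      generalize ψ m = N at k10 k11
      generalize ψ (hS c) = C at k10 k11
      generalize ψ (hS d) = H at k10
      calc G * f * G⁻¹ = G * (N * C) * ((N * C)⁻¹ * f) * G⁻¹ := by group
        _ = H * (G * ((N * C)⁻¹ * f)) * G⁻¹ := by rw [k10, mul_assoc H]
        _ = _ := by rw [← k11]; group
    rwa [k12]
  · rw [nw_two] at hx ⊢
    have hx' : ac hp (s⁻¹ * w) x = -x := eq_neg_of_add_eq_zero_right hx
    have k13 : cp hp x a = 0 := by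
      have h3 : cp hp (ac hp (s⁻¹ * w) x) (ac hp (s⁻¹ * w) a) = cp hp x a := cpr_rep _ _ _ x hr
      rw [hx', hfix, show cp hp (-x) a = -cp hp x a from cpr_neg _ _ x hr] at h3
      omega
    rw [← hw', hx', map_neg, hsx, k13, zero_smul, sub_zero, add_neg_cancel]

end Cfsg.Agent.N2.Ex.CC
end

-- part: N2/Ex/CC/QC
section
/-!
# N2 (S3519), `BoxCC`: the best torus (helper22)

`boxQC`.
-/

set_option autoImplicit false
set_option linter.unusedSectionVars false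

namespace Cfsg.Agent.N2.Ex.CC

open CoxeterSystem Cfsg Cfsg.Lie Cfsg.Lie.ChevalleyDatum
open Cfsg.Agent.ChevalleyStructure Cfsg.Agent.ChevalleyStructure.CoxeterGeom Cfsg.Agent.Tits.Roots Cfsg.Agent.Nodes
  Cfsg.Agent.Nodes.BNOf Cfsg.Agent.Nodes.RGDChev Cfsg.Agent.Nodes.Coroot
open Cfsg.Agent.KFacts.RgdChevCoord Cfsg.Agent.BpExc.Fr Cfsg.Agent.BpExc.LangFr
open Cfsg.Agent.H469.Exc Cfsg.Agent.H316.U6 Cfsg.Agent.H129.TorusChar Cfsg.Agent.DS.Ex Cfsg.Agent.DS.Nt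
open Cfsg.Agent.DS.Ex.Tor (RT FR MS)
open Cfsg.Agent.N2.Ex.Al (LL cp ac GW Ch)

namespace QCa

variable {D : ChevalleyDatum} {l : ℕ} {M : CoxeterMatrix (Fin l)} {hp : IsType D l M} {p : ℕ} [Fact p.Prime]

/-- a generic form -/
theorem exists_gen {S : Set (LL l)} (hS : S.Finite) (N : LL l →+ LL l) (h : ∀ a ∈ S, N a ≠ 0) :
    ∃ μ : LL l →+ ℚ, ∀ a ∈ S, μ (N a) ≠ 0 := by
  have := hS.to_subtype
  obtain ⟨φ, hφ⟩ := Module.exists_dual_forall_apply_ne_zero (K := ℚ) (fun a : S => fun i => ((N a i : ℤ) : ℚ))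
    fun a e => h a a.2 (funext fun i => Int.cast_injective (α := ℚ) ((congrFun e i).trans Int.cast_zero.symm))
  exact ⟨φ.toAddMonoidHom.comp ((Int.castAddHom ℚ).compLeft (Fin l)), fun a ha => hφ ⟨a, ha⟩⟩

/-- the chamber of a form -/
theorem exists_dom {Z : Set (YY D p)} (hZ : Z ⊆ TT D (KK p)) (μ : LL l →+ ℚ) :
    ∃ m ∈ Mz hp p Z, ∃ v, RP hp p v m ∧ ∀ a ∈ Ps hp p Z, 0 ≤ a → 0 ≤ μ (ac hp v a) := by
  have := finW hp
  obtain ⟨y, hy⟩ := BpExc.TorCent.exists_rho (cs := M.toCoxeterSystem) (h := hp.isCartan)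
  obtain ⟨⟨v, hv⟩, hmax⟩ := Finite.exists_max fun v : H795.SetCent.VV (tw hp p) (ch hp) Z => μ (ac hp v.1 y)
  obtain ⟨m, hm, h0⟩ := id hv
  rw [XLe hp p] at hm
  refine ⟨m, hm, v, h0, fun a ha h0 => ?_⟩
  obtain ⟨u, i, hau, hr⟩ := H795.SetCent.exists_rfl_MMZ (tw hp p) (coW hp p) (chW hp p) (sub_TL hZ) ha
  have h1 := hmax ⟨v * SubComb.rfl' M.toCoxeterSystem u i, mul_mem hv hr⟩
  have h2 : ac hp (v * SubComb.rfl' M.toCoxeterSystem u i) y = ac hp v y - cp hp y a • ac hp v a := by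
    change rep _ _ _ _ = rep _ _ _ _ - _ • rep _ _ _ _
    rw [rep_mul_apply, rep_rfl'_eq, ← hau, map_sub, map_smul]
  simp only at h1
  rw [h2, map_sub, map_zsmul, sub_le_self_iff, zsmul_eq_mul] at h1
  exact nonneg_of_mul_nonneg_right h1 (Int.cast_pos.2 (hy a ha.1 h0))

theorem ps_act {e k : YY D p} {w : M.Group} (he : e ∈ TT D (KK p)) (h : RP hp p w k) (hc : k * e = e * k) {a : LL l}
    (ha : a ∈ Ps hp p {e}) : ac hp w a ∈ Ps hp p {e} :=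
  (mem_Ps (Set.singleton_subset_iff.2 he)).2 ⟨ha.1.act w, fun t ht => by
    rw [ht]
    exact (h.cX_of_comm he hc a).trans (((mem_Ps (Set.singleton_subset_iff.2 he)).1 ha).2 e rfl)⟩

theorem nw_act {r : ℕ} {w : M.Group} (h : w ^ r = 1) (x : LL l) : Nw hp r w (ac hp w x) = Nw hp r w x := by
  have h1 := (Finset.sum_range_succ (fun i => ac hp (w ^ i) x) r).symm.trans
    (Finset.sum_range_succ' (fun i => ac hp (w ^ i) x) r)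
  rw [h, pow_zero, add_left_inj] at h1
  refine Eq.trans (Finset.sum_congr rfl fun i _ => ?_) h1.symm
  rw [pow_succ]
  exact (rep_mul_apply _ _ _ _ _).symm

end QCa

open QCa

/-- **the best torus** -/
theorem boxQC : BoxQC := by
  intro D l M hp p _ hT r e f w hP he hw hN
  have := finW hp
  have hZ := Set.singleton_subset_iff.2 he
  have h1 : w ^ r = 1 := (hw.pow r).unique (hP.hf ▸ RP.of_mem (one_mem _))
  let N : LL l →+ LL l := ∑ i ∈ Finset.range r, (ac hp (w ^ i)).toAddMonoidHom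
  have h2 : ∀ x, N x = Nw hp r w x := fun x => AddMonoidHom.finsetSum_apply _ _ _
  obtain ⟨μ, hμ⟩ := exists_gen ((RGD.finite_roots (cs := M.toCoxeterSystem) (h := hp.isCartan)).subset
    fun a (ha : a ∈ Ps hp p {e}) => ha.1) N fun a ha => (h2 a).trans_ne (hN a ha)
  obtain ⟨m, hm, v, hv, h3⟩ := _root_.Cfsg.Agent.N2.Ex.CC.QCa.exists_dom (hp := hp) hZ (μ.comp N)
  have h4 := Mz_comm hZ hm rfl
  have h5 : m⁻¹ * e = e * m⁻¹ := (show Commute m e from h4).inv_left.eq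
  have h6 : m⁻¹ * f * m⁻¹⁻¹ * e = e * (m⁻¹ * f * m⁻¹⁻¹) :=
    (((show Commute m⁻¹ e from h5).mul_left hP.comm).mul_left (show Commute m⁻¹ e from h5).inv_left).eq
  have h7 := (hv.inv.mul hw).mul hv.inv.inv
  refine ⟨m⁻¹, _, h5, he, h7, h6, fun a ha h0 => ?_⟩
  have h8 := ps_act he h7 h6 ha
  refine h8.1.pos_or_neg.elim id fun h9 => (hμ _ (ps_act he hv h4 ha) (le_antisymm ?_ (h3 a ha h0))).elim
  have h10 := h3 _ (H795.SetCent.SxZ_neg (coW hp p) (sub_TL hZ) (chW hp p) h8) (neg_nonneg.2 h9)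
  have h11 : ac hp v (ac hp (v⁻¹ * w * v⁻¹⁻¹) a) = ac hp w (ac hp v a) := by
    change rep _ _ _ (rep _ _ _ _) = rep _ _ _ (rep _ _ _ _)
    rw [← rep_mul_apply, ← rep_mul_apply, inv_inv, ← mul_assoc, mul_inv_cancel_left]
  rwa [map_neg, map_neg, h11, AddMonoidHom.comp_apply, h2, nw_act h1, ← h2, neg_nonneg] at h10

end Cfsg.Agent.N2.Ex.CC
end

-- part: N2/Ex/CC/Fr
section
/-!
# N2 (S3519), `BoxCC`: a stable frame (helper99)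

`boxFr`.
-/

set_option autoImplicit false
set_option linter.unusedSectionVars false

namespace Cfsg.Agent.N2.Ex.CC

open CoxeterSystem Cfsg Cfsg.Lie Cfsg.Lie.ChevalleyDatum
open Cfsg.Agent.ChevalleyStructure Cfsg.Agent.ChevalleyStructure.CoxeterGeom Cfsg.Agent.Tits.Roots Cfsg.Agent.Nodes
  Cfsg.Agent.Nodes.BNOf Cfsg.Agent.Nodes.RGDChev Cfsg.Agent.Nodes.Coroot
open Cfsg.Agent.KFacts.RgdChevCoord Cfsg.Agent.BpExc.Fr Cfsg.Agent.BpExc.LangFr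
open Cfsg.Agent.H469.Exc Cfsg.Agent.H316.U6 Cfsg.Agent.H129.TorusChar Cfsg.Agent.DS.Ex Cfsg.Agent.DS.Nt
open Cfsg.Agent.DS.Ex.Tor (RT FR MS)
open Cfsg.Agent.N2.Ex.Al (LL cp ac GW Ch)

namespace FrA

variable {D : ChevalleyDatum} {l : ℕ} {M : CoxeterMatrix (Fin l)} {hp : IsType D l M} {p : ℕ} [Fact p.Prime]

theorem gw_left {g : LL l ≃+ LL l} (h : GW hp g) (v : M.Group) : GW hp ((ac hp v).trans g) := by
  obtain ⟨w, h | ⟨h0, h⟩⟩ := h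
  · exact ⟨w * v, .inl fun a => (h _).trans (rep_mul_apply _ _ _ _ _).symm⟩
  · exact ⟨w * v, .inr ⟨h0, fun a => (h _).trans (congrArg Neg.neg (rep_mul_apply _ _ _ _ _).symm)⟩⟩

theorem gw_right {g : LL l ≃+ LL l} (h : GW hp g) (v : M.Group) : GW hp (g.trans (ac hp v)) := by
  obtain ⟨w, h | ⟨h0, h⟩⟩ := h
  · exact ⟨v * w, .inl fun a => (congrArg (ac hp v) (h a)).trans (rep_mul_apply _ _ _ _ _).symm⟩
  · exact ⟨v * w, .inr ⟨h0, fun a => (congrArg (ac hp v) (h a)).trans ((map_neg _ _).trans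
      (congrArg Neg.neg (rep_mul_apply _ _ _ _ _).symm))⟩⟩

/-- the image under a positive frame automorphism -/
theorem qs_map {β : MulAut (YY D p)} {g : LL l ≃+ LL l} (F : FR hp p β g) (hg : ∀ a, RT hp a → 0 ≤ a → 0 ≤ g a)
    {e f : YY D p} {w : M.Group} (h : Qs hp p e f w) : ∃ w', Qs hp p (β e) (β f) w' := by
  have F' := (F.mul h.rp.fr).mul F.inv
  rw [mul_conj_eq, mul_inv_cancel_right] at F'
  obtain ⟨w', h1, h2⟩ := Tor.inner F'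
  have h3 := (F.tor e).2 h.mem
  refine ⟨w', h3, h1, by rw [← map_mul, h.comm, map_mul], fun a ha h0 => ?_⟩
  obtain ⟨b, rfl⟩ := g.surjective a
  have h4 : RT hp b := (F.root b).1 ha.1
  have h5 : b ∈ Ps hp p {e} := (mem_Ps (Set.singleton_subset_iff.2 h.mem)).2 ⟨h4, fun t ht => by
    rw [ht]
    refine cX_eq_one_of_comm h.mem h4 one_ne_zero (β.injective ?_)
    rw [map_mul, map_mul]
    exact comm_X h3 ha.1 (((mem_Ps (Set.singleton_subset_iff.2 h3)).1 ha).2 _ rfl) ((F.map b h4 _).2 (xc_mem h4 1))⟩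
  have h6 : 0 ≤ b := h4.pos_or_neg.elim id fun h6 => by
    have h7 := hg _ h4.neg (neg_nonneg.2 h6)
    rw [map_neg] at h7
    exact (ha.1.not_pos_neg h0 (neg_nonneg.1 h7)).elim
  have h7 : ac hp w' (g b) = g (ac hp w b) := by
    rw [ac, ← h2]
    simp
  rw [h7]
  exact hg _ ((h.rp.fr.root b).2 h4) (h.pos b h5 h6)

end FrA

open FrA

/-- **a stable frame** -/
theorem boxFr : BoxFr := by
  intro hL hCur hCj D l M hp p _ hT n σ e f w hσ he hf hQ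
  have := finW hp
  obtain ⟨y, g, F, hg⟩ := hσ.fr
  obtain ⟨v, -, hv⟩ := exists_adjust (cs := M.toCoxeterSystem) (h := hp.isCartan) {a | RT hp a} ⊤
    (fun a ⟨u, i, h⟩ => ⟨u, i, h, trivial⟩) g fun a ha => (F.root a).2 ha
  obtain ⟨k, hk⟩ := exists_RP hp p v
  have F1 := F.mul hk.fr
  rw [mul_assoc, mul_conj_eq, ← mul_assoc, ← map_mul] at F1
  generalize y * σ k = y₁ at F1
  obtain ⟨w', h1⟩ := qs_map F1 hv hQ
  obtain ⟨c, hc, u, hu⟩ := hCj hCur D l M hp p hT e f _ _ y₁⁻¹ w w' hQ h1 (by rw [conj_mul_apply, he]; group)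
    (by rw [conj_mul_apply, hf]; group)
  have F2 := hu.fr.mul F1
  rw [← mul_assoc, ← map_mul, inv_mul_cancel_right] at F2
  obtain ⟨z, hz, h2⟩ := hL D l M hp p hT n (MulAut.conj c⁻¹ * σ) {e, f} hσ.pos (hσ.frob.conj_mul _) (fun x hx => by
    have h2 : σ x = x := by
      rcases hx with rfl | rfl
      exacts [he, hf]
    rw [conj_mul_apply, h2, inv_inv, mul_assoc, Cc_le _ hc x hx, inv_mul_cancel_left]) c hc
  refine ⟨z, _, (Cc_le _ hz e (by simp)).symm, (Cc_le _ hz f (by simp)).symm, ?_, gw_right (gw_left hg v) u⟩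
  have h3 : MulAut.conj z * σ * (MulAut.conj z)⁻¹ = MulAut.conj c⁻¹ * σ := by
    rw [← map_inv, mul_assoc, mul_conj_eq, ← mul_assoc, ← map_mul]
    congr 2
    rw [conj_mul_apply, inv_inv, ← mul_assoc, ← mul_assoc, right_eq_mul] at h2
    calc z * σ z⁻¹ = z * (z⁻¹ * c⁻¹ * σ z) * (σ z)⁻¹ := by rw [h2, mul_one, map_inv]
      _ = c⁻¹ := by group
  rwa [h3]

end Cfsg.Agent.N2.Ex.CC
end

-- part: N2/Ex/CC/D30
section
/-!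
# N2 (S3519), `BoxCC`: the box `BoxD30` (helper87)
-/

set_option autoImplicit false
set_option linter.unusedSectionVars false
set_option maxRecDepth 100000

namespace Cfsg.Agent.N2.Ex.CC

open CoxeterSystem Cfsg Cfsg.Lie Cfsg.Lie.ChevalleyDatum
open Cfsg.Agent.ChevalleyStructure Cfsg.Agent.ChevalleyStructure.CoxeterGeom Cfsg.Agent.Tits.Roots Cfsg.Agent.Nodes
  Cfsg.Agent.Nodes.BNOf Cfsg.Agent.Nodes.RGDChev Cfsg.Agent.Nodes.Coroot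
open Cfsg.Agent.KFacts.RgdChevCoord Cfsg.Agent.BpExc.Fr Cfsg.Agent.BpExc.LangFr
open Cfsg.Agent.H469.Exc Cfsg.Agent.H316.U6 Cfsg.Agent.H129.TorusChar Cfsg.Agent.DS.Ex Cfsg.Agent.DS.Nt
open Cfsg.Agent.DS.Ex.Tor (RT FR MS)
open Cfsg.Agent.N2.Ex.Al (LL cp ac GW Ch)
open Cfsg.Agent.H931.KC (psi)
open Cfsg.Agent.N2.Ex.K (mx wL rl)
open Cfsg.Agent.N2.Ex.Al.Ck (tbE6 gsE6)

namespace D30

/-- the linear map with the rows `V` -/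
def mv (l : ℕ) (V : List (List ℤ)) (x : LL l) : LL l := ∑ i, x i • lv l (V.getD i [])

/-- representatives of the free orbits -/
def JN : Finset ℕ := {0, 1, 6, 7, 11, 12, 16, 17, 21, 22, 25, 26, 28, 29, 31, 32, 33, 34, 35, 37, 43, 48}

/-- the fixed roots -/
def JF : Finset ℕ := {3, 18, 23, 39, 54, 59}

theorem tab : ∀ V ∈ [V6, W6], (∀ r < 72, ∃ j ∈ JN ∪ JF, ∃ i < 3, tbE6.vec 6 r = (mv 6 V)^[i] (tbE6.vec 6 j)) ∧
    ∀ j ∈ JF, mv 6 V (tbE6.vec 6 j) = tbE6.vec 6 j := by (delta Cfsg.Agent.N2.Ex.Al.Ck.Tb.vec Cfsg.Agent.N2.Ex.CC.D30.mv; set_option synthInstance.maxSize 100000 in exact Cfsg.Agent.Lib.Refl.of (by decide +kernel))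

theorem tab' : (∀ j ∈ JN ∪ JF, j < 72) ∧ JN.card = 22 ∧
    ∀ j ∈ JF, (3 : ℤ) ∣ psi (lv 6 [1, 0, 0, 0, 0, 1]) (tbE6.vec 6 j) := by decide +kernel

variable {D : ChevalleyDatum} {l : ℕ} {M : CoxeterMatrix (Fin l)} {hp : IsType D l M} {p : ℕ} [Fact p.Prime]
  {v : M.Group} {f : YY D p}

theorem ac_eq {V : List (List ℤ)} (h : ∀ i : Fin l, ac hp v (sr i) = lv l (V.getD i [])) (x : LL l) :
    ac hp v x = mv l V x := by
  conv_lhs => rw [← Finset.univ_sum_single x, map_sum]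
  refine Finset.sum_congr rfl fun i _ => ?_
  rw [← h, ← map_zsmul, sr, ← Pi.single_smul, smul_eq_mul, mul_one]

theorem ac_pow {V : List (List ℤ)} (h : ∀ i : Fin l, ac hp v (sr i) = lv l (V.getD i [])) (i : ℕ) (x : LL l) :
    ac hp (v ^ i) x = (mv l V)^[i] x := by
  induction i with
  | zero => rw [pow_zero, Al.Ck.ac_one, Function.iterate_zero_apply]
  | succ i ih => rw [pow_succ', Al.Ck.ac_mul, ih, ac_eq h, Function.iterate_succ_apply']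

theorem inT_ad (hf : RP hp p v f) {h : D.Idx → KK p} (hh : K.InT p h) : K.InT p (ad D p f h) := fun s =>
  Finset.sum_eq_zero (s := Finset.univ) (f := fun j => mx f (Sum.inr s) j * h j) fun j _ => by
    rcases j with j | j
    · refine mul_eq_zero_of_left (by_contra fun h0 => (K.rt_vec hp s).ne_zero ?_) _
      exact (Al.Av.wL_eq hf h0).trans (map_zero _)
    · exact mul_eq_zero_of_right _ (hh j)

/-- a fixed root which occurs in a fixed vector is centralised -/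
theorem cx (hD : Typ D) (hf : RP hp p v f) {b : LL l} (hb : ac hp v b = b) (h : Al.Av.Bad l f b) : CX p l f b := by
  obtain ⟨x, a1, s, rfl, a2⟩ := h
  have b0 := K.rt_vec hp s
  have b1 : mx f (Sum.inr s) (Sum.inr s) = 1 := by
    have := Al.Av.coord hf hb.symm x
    rw [a1] at this
    exact (mul_left_eq_self₀.1 this.symm).resolve_right a2
  intro y hy
  have b2 := (hf.fr.map _ b0 y).2 hy
  rw [show repAut _ _ v (vec D l s) = vec D l s from hb] at b2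
  obtain ⟨u, rfl⟩ := (K.mem_XX hp b0).1 hy
  obtain ⟨u', e⟩ := (K.mem_XX hp b0).1 b2
  replace e : xc hp (vec D l s) u' * f = f * xc hp (vec D l s) u := by rw [e, MulAut.conj_apply, inv_mul_cancel_right]
  obtain ⟨i, hi⟩ := K.Tor.car_one hD s
  have c1 : K.InT p (Pi.single (Sum.inl i) 1 : D.Idx → KK p) := fun t => Pi.single_eq_of_ne Sum.inr_ne_inl _
  have c2 : rl hp (Pi.single (Sum.inl i) 1 : D.Idx → KK p) (vec D l s) ≠ 0 := by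
    rw [← K.wL_inr, ← Al.Av.wt_eq, K.Tor.wt, Sum.elim_inr, Finset.sum_eq_single i (fun j _ hj => by simp [hj]) (by simp only [_root_.Finset.mem_univ, _root_.not_true_eq_false, _root_.Pi.single_eq_same, _root_.one_mul, _root_.IsEmpty.forall_iff])]
    rcases hi with k | k <;> simp [k]
  generalize (Pi.single (Sum.inl i) 1 : D.Idx → KK p) = h at c1 c2
  have c3 := inT_ad hf c1
  have c4 := K.Tor.mt_Am hD f h
  rw [K.Tor.Am_tor c1, K.Tor.Am_tor c3] at c4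
  have c5 := congrFun (congrFun c4 (Sum.inr s)) (Sum.inr s)
  rw [Matrix.mul_diagonal, Matrix.diagonal_mul, Al.Av.wt_eq (hp := hp), Al.Av.wt_eq (hp := hp), K.wL_inr,
    show K.Tor.mt f _ _ = 1 from b1, one_mul, mul_one] at c5
  have c6 := congrArg (fun y => ad D p y h (Sum.inr s)) e
  simp only [ad_mul] at c6
  rw [K.ad_xc_T hp s u' c3, Al.Av.coord hf hb.symm, K.ad_xc_T hp s u c1, b1, one_mul, Pi.sub_apply, Pi.sub_apply, c1 s,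
    c3 s, Pi.single_eq_same, Pi.single_eq_same, ← c5] at c6
  rw [← e, mul_left_cancel₀ c2 (sub_right_injective c6)]

end D30

/-- **[D30]** -/
theorem boxD30 : BoxD30 := by
  classical
  intro D l M hp p _ hD r k c V e f v _ hR S hd
  obtain ⟨rfl, rfl, hV, rfl, -⟩ : D = chevE6 ∧ r = 3 ∧ (V = V6 ∨ V = W6) ∧ c = [1, 0, 0, 0, 0, 1] ∧ 30 = 30 ∧ k = 0 :=
    (hR.resolve_left fun h => absurd h.2.2.2.2.1 (by decide)).resolve_left fun h => absurd h.2.2.2.2.1 (by decide)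
  obtain rfl := (typ_l hp).2.1 rfl
  obtain ⟨a1, a2⟩ := D30.tab V (by simpa using hV)
  obtain ⟨a3, a4, a5⟩ := D30.tab'
  have G := (gsE6 hp).toGt
  by_contra hc
  have b1 := Al.Av.dd_le S.rp (J := (D30.JN ∪ D30.JF).image (tbE6.vec 6)) (fun b hb => by
    obtain ⟨j, hj, rfl⟩ := Finset.mem_image.1 hb
    exact G.root j (a3 j hj)) (fun x hx => by
    obtain ⟨r, hr, rfl⟩ := G.surj x hx
    obtain ⟨j, hj, i, -, k⟩ := a1 r hr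
    exact ⟨_, Finset.mem_image_of_mem _ hj, i, k.trans (D30.ac_pow S.mat i _).symm⟩) (Finset.univ.image Sum.inl)
    fun x _ hx h0 => funext (Sum.rec (fun j => h0 _ (Finset.mem_image_of_mem _ (Finset.mem_univ j))) hx)
  have b2 : ((D30.JN ∪ D30.JF).image (tbE6.vec 6)).filter (Al.Av.Bad 6 f) ⊆ D30.JN.image (tbE6.vec 6) := fun b hb => by
    obtain ⟨hb, k⟩ := Finset.mem_filter.1 hb
    obtain ⟨j, hj, rfl⟩ := Finset.mem_image.1 hb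
    refine Finset.mem_image_of_mem _ ((Finset.mem_union.1 hj).resolve_right fun h => ?_)
    have b3 := (D30.ac_eq S.mat _).trans (a2 j h)
    exact hc ⟨_, ⟨G.root j (a3 j hj), a5 j h⟩, b3, D30.cx hD S.rp b3 k⟩
  have b3 := (Finset.card_le_card b2).trans Finset.card_image_le
  have b4 : (Finset.univ.image (Sum.inl : _ → chevE6.Idx)).card ≤ 6 :=
    Finset.card_image_le.trans (by rw [Finset.card_univ, Fintype.card_fin, hp.rank_eq])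
  omega

end Cfsg.Agent.N2.Ex.CC
end

-- part: N2/Ex/CC/D24
section
/-!
# N2 (S3519), `E₆`: the fixed vectors of a nine-group in the row `A₂³` (helper48)
-/

set_option autoImplicit false
set_option linter.unusedSectionVars false

namespace Cfsg.Agent.N2.Ex.CC

open CoxeterSystem Cfsg Cfsg.Lie Cfsg.Lie.ChevalleyDatum
open Cfsg.Agent.ChevalleyStructure Cfsg.Agent.ChevalleyStructure.CoxeterGeom Cfsg.Agent.Tits.Roots Cfsg.Agent.Nodes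
  Cfsg.Agent.Nodes.BNOf Cfsg.Agent.Nodes.RGDChev Cfsg.Agent.Nodes.Coroot Cfsg.Agent.ChevalleyStructure.CoxeterGeomTypes
open Cfsg.Agent.KFacts.RgdChevCoord Cfsg.Agent.BpExc.Fr Cfsg.Agent.BpExc.LangFr
open Cfsg.Agent.H469.Exc Cfsg.Agent.H316.U6 Cfsg.Agent.H129.TorusChar Cfsg.Agent.DS.Ex Cfsg.Agent.DS.Nt
open Cfsg.Agent.DS.Ex.Tor (RT FR MS)
open Cfsg.Agent.N2.Ex.Al (LL cp ac GW Ch)
open Cfsg.Agent.N2.Ex.Al.Av (wL_eq coord wt_eq)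
open Cfsg.Agent.N2.Ex.K (mx wL rl)
open Cfsg.Agent.H931.KC (psi)

namespace D24

variable {D : ChevalleyDatum} {l : ℕ} {M : CoxeterMatrix (Fin l)} {hp : IsType D l M} {p : ℕ} [Fact p.Prime]
  {v : M.Group} {y e f : YY D p}

/-- the matrix of `v` -/
def mv (V : List (List ℤ)) (x : LL l) : LL l := fun k => ∑ i, x i * lv l (V.getD i []) k

theorem ac_eq {V : List (List ℤ)} (h : ∀ i : Fin l, ac hp v (sr i) = lv l (V.getD i [])) (x : LL l) : ac hp v x = mv V x := by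
  have h1 : x = ∑ i, x i • sr i := by
    funext k
    simp only [sr, Pi.single_apply, _root_.zsmul_eq_mul, _root_.Finset.sum_apply, _root_.Pi.mul_apply, _root_.Pi.intCast_apply, _root_.Int.cast_eq, _root_.mul_ite, _root_.mul_one, _root_.MulZeroClass.mul_zero, _root_.Finset.sum_ite_eq, _root_.Finset.mem_univ, ↓ _root_.reduceIte]
  funext k
  rw [h1, map_sum, Finset.sum_apply, ← h1]
  exact Finset.sum_congr rfl fun i _ => by rw [map_zsmul, h, Pi.smul_apply, smul_eq_mul]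

theorem single_zero (hy : RP hp p v y) {i j : D.Idx} (h : wL D l i ≠ ac hp v (wL D l j)) :
    ad D p y (Pi.single j 1) i = 0 := by
  rw [K.ad_eq, Matrix.mulVec_single_one]
  exact by_contra fun h0 => h (wL_eq hy h0)

theorem inT (hy : RP hp p v y) {h : D.Idx → KK p} (hh : K.InT p h) : K.InT p (ad D p y h) := fun s => by
  show ∑ j, mx y (Sum.inr s) j * h j = 0
  refine Finset.sum_eq_zero fun j _ => ?_
  rcases j with j | j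
  · refine mul_eq_zero_of_left (by_contra fun h0 => (K.rt_vec hp s).ne_zero ?_) _
    have h1 := wL_eq hy h0
    rwa [K.wL_inr, K.wL_inl, map_zero] at h1
  · rw [hh j, mul_zero]

theorem rl_ad (hD : Typ D) (hy : RP hp p v y) {h : D.Idx → KK p} (hh : K.InT p h) {a : LL l} (ha : RT hp a) :
    rl hp (ad D p y h) (ac hp v a) = rl hp h a := by
  obtain ⟨s, rfl⟩ := K.exists_idx hp ha
  obtain ⟨j, -, hj⟩ := K.exists_mid (A := mx y⁻¹) (B := mx y) (i := Sum.inr s) (j := Sum.inr s)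
    (by rw [K.mx_inv_mul, Matrix.one_apply_eq]; exact one_ne_zero)
  have h1 := K.Tor.mt_Am hD y h
  rw [K.Tor.Am_tor hh, K.Tor.Am_tor (inT hy hh)] at h1
  have h2 := congrFun (congrFun h1 j) (Sum.inr s)
  rw [Matrix.mul_diagonal, Matrix.diagonal_mul, mul_comm, wt_eq (hp := hp), wt_eq (hp := hp), wL_eq hy hj] at h2
  exact (mul_right_cancel₀ hj h2).symm

theorem rl_zero {x : D.Idx → KK p} (h : ∀ i, x (Sum.inl i) = 0) (a : LL l) : rl hp x a = 0 := by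
  rw [K.rl_apply]
  exact Finset.sum_eq_zero fun i _ => by rw [h, mul_zero]

theorem sum_mem (hc : f * e = e * f) (hf : f ^ 3 = 1) {x : D.Idx → KK p} (hx : ad D p e x = x) :
    x + ad D p f x + ad D p (f * f) x ∈ Fx p ({e, f} : Set (YY D p)) := by
  rintro _ (rfl | rfl)
  · rw [map_add, map_add, hx, ← ad_mul, ← ad_mul, ← hc, ← mul_assoc, ← hc, mul_assoc, ← hc, ← mul_assoc, ad_mul _ _ x,
      ad_mul _ _ x, hx]
  · rw [map_add, map_add, ← ad_mul, ← ad_mul, ← mul_assoc, ← pow_three', hf, ad_one]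
    abel

/-- the roots of one factor `A₂` -/
def bs : Fin 6 → LL 6 := ![![1, 0, 0, 0, 0, 0], ![0, 0, 1, 0, 0, 0], ![1, 0, 1, 0, 0, 0], ![-1, 0, 0, 0, 0, 0],
  ![0, 0, -1, 0, 0, 0], ![-1, 0, -1, 0, 0, 0]]

theorem tb : (∀ j, ∃ s : Fin chevE6.nroots, vec chevE6 6 s = bs j) ∧ (∀ j k, bs j = bs k → j = k) ∧
    (∀ j, psi (lv 6 [0, 0, 0, 1, 0, 0]) (bs j) = 0) ∧ ∀ V ∈ [V6, W6],
      (∀ j k, bs k ≠ mv V (bs j) ∧ bs k ≠ mv V (mv V (bs j))) ∧ mv V (mv V (mv V (bs 0))) = bs 0 ∧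
      pairing (cartanOf chevE6 6) 2 (bs 0 + mv V (mv V (bs 0)) + mv V (bs 0)) = -1 := by (delta Cfsg.Agent.Nodes.RGDChev.vec Cfsg.Agent.N2.Ex.CC.D24.mv Cfsg.Agent.ChevalleyStructure.CoxeterGeom.pairing Cfsg.Agent.ChevalleyStructure.RootVec.rt; set_option synthInstance.maxSize 100000 in exact Cfsg.Agent.Lib.Refl.of (by decide +kernel))

end D24

open D24

/-- **[D24]** -/
theorem boxD24 : BoxD24 := by
  rintro D l M hp p _ hD r c V e f v hP ⟨rfl, rfl, hV, rfl⟩ S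
  obtain rfl := (typ_l hp).2.1 rfl
  obtain ⟨t1, t2, t3, t4⟩ := tb
  choose s hs using t1
  obtain ⟨t5, t6, t7⟩ := t4 V (by simpa using hV)
  have hv := ac_eq S.mat
  have h2 : RP hp p (v * v) (f * f) := by simpa only [pow_two] using S.rp.pow 2
  have hv2 : ∀ x, ac hp (v * v) x = mv V (mv V x) := fun x => by rw [Al.ET.ac_mul, hv, hv]
  have hr : ∀ j, RT hp (bs j) := fun j => hs j ▸ K.rt_vec hp (s j)
  obtain ⟨ζ, -, hζ⟩ := S.chr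
  let Φ : (chevE6.Idx → KK p) →ₗ[KK p] (Option (Fin 6) → KK p) :=
    { toFun := fun x o => o.elim (rl hp x (bs 0)) fun j => x (Sum.inr (s j))
      map_add' := fun x y => funext fun o => by
        cases o
        exacts [K.rl_add hp x y _, rfl]
      map_smul' := fun a x => funext fun o => by
        cases o
        exacts [K.rl_smul hp a x _, rfl] }
  have key : ∀ o, ∃ x ∈ Fx p ({e, f} : Set (YY chevE6 p)), Φ x = Pi.single o 1 := by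
    rintro (_ | j)
    · obtain ⟨h, hh, h3⟩ : ∃ h : chevE6.Idx → KK p, K.InT p h ∧ ∀ a, rl hp h a = -(pairing (cartanOf chevE6 6) 2 a : ℤ) :=
        ⟨Pi.single (Sum.inl (Fin.cast hp.rank_eq.symm 2)) (-1), fun _ => Pi.single_eq_of_ne Sum.inr_ne_inl _, fun a => by
          rw [K.rl_apply, Finset.sum_eq_single (Fin.cast hp.rank_eq.symm 2) (fun i _ hi => by
            rw [Pi.single_eq_of_ne fun k => hi (Sum.inl.inj k), mul_zero]) fun k => absurd (Finset.mem_univ _) k,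
            Pi.single_eq_same, mul_neg_one]
          rfl⟩
      refine ⟨_, _root_.Cfsg.Agent.N2.Ex.CC.D24.sum_mem hP.comm hP.hf (K.ad_T_T hp S.mem hh), funext fun o => ?_⟩
      cases o with
      | none =>
        have k1 := rl_ad hD S.rp hh (a := ac hp v (ac hp v (bs 0))) (((hr 0).act v).act v)
        have k2 := rl_ad hD h2 hh (a := ac hp v (bs 0)) ((hr 0).act v)
        rw [hv, hv, hv, t6] at k1
        rw [hv2, hv, t6] at k2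
        show rl hp _ _ = _
        rw [K.rl_add, K.rl_add, k1, k2, ← map_add, ← map_add, h3, t7, Pi.single_eq_same]
        norm_num
      | some k =>
        show h _ + _ + _ = _
        rw [hh, inT S.rp hh, inT h2 hh, Pi.single_eq_of_ne (by simp), add_zero, add_zero]
    · refine ⟨_, _root_.Cfsg.Agent.N2.Ex.CC.D24.sum_mem hP.comm hP.hf (x := Pi.single (Sum.inr (s j)) 1) ?_, funext fun o => ?_⟩
      · rw [K.ad_eq, K.mx_T hp S.mem, Matrix.diagonal_mulVec_single, K.wL_inr, hs, hζ, t3, zpow_zero, mul_one]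
      cases o with
      | none =>
        rw [Pi.single_eq_of_ne (by simp)]
        refine rl_zero (hp := hp) (fun i => ?_) _
        rw [Pi.add_apply, Pi.add_apply, Pi.single_eq_of_ne Sum.inl_ne_inr,
          single_zero S.rp (i := Sum.inl i) (j := Sum.inr (s j)) fun k => ((K.rt_vec hp (s j)).act v).ne_zero k.symm,
          single_zero h2 (i := Sum.inl i) (j := Sum.inr (s j)) fun k => ((K.rt_vec hp (s j)).act (v * v)).ne_zero k.symm,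
          add_zero, add_zero]
      | some k =>
        show (Pi.single (Sum.inr (s j)) 1 : chevE6.Idx → KK p) _ + _ + _ = _
        rw [single_zero S.rp (by rw [K.wL_inr, K.wL_inr, hs, hs, hv]; exact (t5 j k).1),
          single_zero h2 (by rw [K.wL_inr, K.wL_inr, hs, hs, hv2]; exact (t5 j k).2), add_zero, add_zero]
        by_cases h : k = j
        · rw [h, Pi.single_eq_same, Pi.single_eq_same]
        · rw [Pi.single_eq_of_ne fun e => h (t2 _ _ (by rw [← hs, ← hs, Sum.inr.inj e])),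
            Pi.single_eq_of_ne fun e => h (Option.some.inj e)]
  have h7 : (Fx p ({e, f} : Set (YY chevE6 p))).map Φ = ⊤ := by
    rw [eq_top_iff, ← (Pi.basisFun (KK p) (Option (Fin 6))).span_eq, Submodule.span_le]
    rintro _ ⟨o, rfl⟩
    rw [Pi.basisFun_apply]
    exact key o
  have h8 := Submodule.finrank_map_le Φ (Fx p ({e, f} : Set (YY chevE6 p)))
  rwa [h7, finrank_top, Module.finrank_fintype_fun_eq_card, Fintype.card_option, Fintype.card_fin] at h8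

end Cfsg.Agent.N2.Ex.CC
end

-- part: N2/Ex/CC/El
section
/-!
# N2 (S3519), `E₆`, `E₇`, non-toral pairs: the element (helper57)

* `El.exists_m` : a prime divisor `m ≥ 5` of `q² + q + 1`;
* `El.WC` : the elements of the Weyl group with a representative in `Cc Z`;
* `El.fin` : from the character to the element; `boxEl`.
-/

set_option autoImplicit false
set_option linter.unusedSectionVars false
set_option maxHeartbeats 400000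

namespace Cfsg.Agent.N2.Ex.CC

open CoxeterSystem Cfsg Cfsg.Lie Cfsg.Lie.ChevalleyDatum
open Cfsg.Agent.ChevalleyStructure Cfsg.Agent.ChevalleyStructure.CoxeterGeom Cfsg.Agent.Tits.Roots Cfsg.Agent.Nodes
  Cfsg.Agent.Nodes.BNOf Cfsg.Agent.Nodes.RGDChev Cfsg.Agent.Nodes.Coroot
open Cfsg.Agent.KFacts.RgdChevCoord Cfsg.Agent.BpExc.Fr Cfsg.Agent.BpExc.LangFr
open Cfsg.Agent.H469.Exc Cfsg.Agent.H316.U6 Cfsg.Agent.H129.TorusChar Cfsg.Agent.DS.Ex Cfsg.Agent.DS.Nt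
open Cfsg.Agent.DS.Ex.Tor (RT FR MS)
open Cfsg.Agent.N2.Ex.Al (LL cp ac GW Ch)
open Cfsg.Agent.H931.KC (psi)

namespace El

theorem exists_m {q : ℕ} (hq : 2 ≤ q) : ∃ m, m.Prime ∧ 5 ≤ m ∧ m ∣ q ^ 2 + q + 1 := by
  obtain ⟨x, h0, h1⟩ : ∃ x, x ≠ 0 ∧ 3 * x + 1 ∣ q ^ 2 + q + 1 := by
    obtain ⟨k, rfl | rfl | rfl⟩ : ∃ k, q = 3 * k ∨ q = 3 * k + 1 ∨ q = 3 * k + 2 := ⟨q / 3, by omega⟩
    exacts [⟨3 * k ^ 2 + k, by omega, 1, by ring⟩, ⟨k ^ 2 + k, by omega, 3, by ring⟩,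
      ⟨3 * k ^ 2 + 5 * k + 2, by omega, 1, by ring⟩]
  obtain ⟨r, hr, h2⟩ := Nat.exists_prime_and_dvd (n := 3 * x + 1) (by omega)
  refine ⟨r, hr, hr.five_le_of_ne_two_of_ne_three ?_ (by rintro rfl; omega), h2.trans h1⟩
  rintro rfl
  have h3 := h2.trans h1
  have h4 := (Nat.even_mul_succ_self q).two_dvd
  rw [show q ^ 2 + q + 1 = q * (q + 1) + 1 by ring] at h3
  omega

variable {D : ChevalleyDatum} {l : ℕ} {M : CoxeterMatrix (Fin l)} {hp : IsType D l M} {p : ℕ} [Fact p.Prime]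

variable (hp p) in
/-- the elements of the Weyl group with a representative in `Cc Z` -/
def WC (Z : Set (YY D p)) : Subgroup M.Group where
  carrier := {w | ∃ n ∈ Cc p Z, RP hp p w n}
  one_mem' := ⟨1, one_mem _, RP.of_mem (one_mem _)⟩
  mul_mem' := fun ⟨a, h1, h2⟩ ⟨b, h3, h4⟩ => ⟨a * b, mul_mem h1 h3, h2.mul h4⟩
  inv_mem' := fun ⟨a, h1, h2⟩ => ⟨a⁻¹, inv_mem h1, h2.inv⟩

theorem g_comm {σ : MulAut (YY D p)} {g : LL l ≃+ LL l} (F : FR hp p σ g) {f : YY D p} {v : M.Group} (hf : σ f = f)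
    (h : RP hp p v f) (x : LL l) : g (ac hp v x) = ac hp v (g x) := by
  have h1 : σ * MulAut.conj f = MulAut.conj f * σ := by
    ext1 y
    simp only [MulAut.mul_apply, MulAut.conj_apply, map_mul, map_inv, hf]
  exact DFunLike.congr_fun (Tor.fr_unique (hp := hp) (h1 ▸ F.mul h.fr) (h.fr.mul F)) x

/-- the roots killed by a product of elements of coprime orders -/
theorem dd_le {r m k : ℕ} {c : List ℤ} {V : List (List ℤ)} {e f t : YY D p} {v : M.Group} (S : St hp p r c V e f v)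
    (hr : r.Coprime m) {ζ : KK p} (hζ : IsPrimitiveRoot ζ m) {φ : LL l →+ ℤ} (ht : t ∈ TT D (KK p))
    (h : ∀ x, cX hp t x = ζ ^ φ x) (hk : {a ∈ Pc hp r c | (m : ℤ) ∣ φ a}.ncard ≤ k) : dd p (e * t) ≤ l + k := by
  have := finW hp
  obtain ⟨ξ, h1, h2⟩ := S.chr
  rw [← SB.Exc.CI.ncard_Ps (hp := hp) (mul_mem S.mem ht)]
  refine Nat.add_le_add_left (le_trans (Set.ncard_le_ncard (fun a ha => ?_)
    ((RGD.finite_roots (cs := M.toCoxeterSystem) (h := hp.isCartan)).subset fun a ha => ha.1.1)) hk) l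
  obtain ⟨h3, h4⟩ := (mem_Ps (Set.singleton_subset_iff.2 (mul_mem S.mem ht))).1 ha
  have h5 := h4 _ rfl
  rw [cX_mul hp S.mem ht, h, h2] at h5
  have h6 : (r : ℤ) ∣ psi (lv l c) a := by
    have h7 := congrArg (· ^ (m : ℤ)) h5
    simp only [mul_zpow, one_zpow, ← zpow_mul] at h7
    rw [(hζ.zpow_eq_one_iff_dvd _).2 (dvd_mul_left _ _), mul_one, h1.zpow_eq_one_iff_dvd] at h7
    exact (Nat.isCoprime_iff_coprime.2 hr).dvd_of_dvd_mul_right h7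
  rw [(h1.zpow_eq_one_iff_dvd _).2 h6, one_mul, hζ.zpow_eq_one_iff_dvd] at h5
  exact ⟨⟨h3, h6⟩, h5⟩

/-- **from the character to the element** -/
theorem fin (hL : BoxLang) {n r m k : ℕ} {σ : MulAut (YY D p)} {g : LL l ≃+ LL l} {c : List ℤ} {V : List (List ℤ)}
    {e f : YY D p} {v w : M.Group} (hn : 0 < n) (hσ : IsFrob p n σ) (F : FR hp p σ g) (he : σ e = e) (hf : σ f = f)
    (P : P2 p r e f) (S : St hp p r c V e f v) (hm : m.Prime) (h5 : 5 ≤ m) (hmp : m ≠ p) (hw : w ∈ WC hp p {e, f})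
    {φ : LL l →+ ℤ} (hφ : Ch (p ^ n) (g.trans (ac hp w)) m φ) (hv : ∀ x, φ (ac hp v x) = φ x)
    (hk : {a ∈ Pc hp r c | (m : ℤ) ∣ φ a}.ncard ≤ k) : Tg p l σ e f k := by
  obtain ⟨y, h1, h2⟩ := hw
  have hN : m.Coprime p := (Nat.coprime_primes hm Fact.out).2 hmp
  have : NeZero (m : KK p) := ⟨Cb.cast_ne hN⟩
  obtain ⟨ζ, hζ⟩ := HasEnoughRootsOfUnity.exists_primitiveRoot (KK p) m
  obtain ⟨t, ht, h3, h4⟩ := Al.ET.exists_ch P.tp (hσ.conj_mul y) (h2.fr.mul F) hm.ne_zero hζ hφ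
  have cm : ∀ z ∈ Cc p ({e, f} : Set (YY D p)), e * z = z * e ∧ f * z = z * f := fun z hz =>
    ⟨Subgroup.mem_centralizer_iff.1 (Cc_le _ hz) e (by simp), Subgroup.mem_centralizer_iff.1 (Cc_le _ hz) f (by simp)⟩
  obtain ⟨z, h6, h7⟩ := hL D l M hp p P.tp n (MulAut.conj y * σ) {e, f} hn (hσ.conj_mul y) (by
    rintro _ (rfl | rfl)
    · rw [MulAut.mul_apply, he, MulAut.conj_apply, ← (cm y h1).1, mul_inv_cancel_right]
    · rw [MulAut.mul_apply, hf, MulAut.conj_apply, ← (cm y h1).2, mul_inv_cancel_right]) y⁻¹ (inv_mem h1)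
  rw [MulAut.mul_apply, MulAut.conj_apply] at h3 h7
  have h8 : σ z = y⁻¹ * z := by
    calc σ z = y⁻¹ * z * (z⁻¹ * (y * σ z * y⁻¹)) * y := by group
      _ = y⁻¹ * z := by rw [← h7]; group
  have k : ∀ x : YY D p, x * z = z * x → t * x = x * t → z⁻¹ * t * z * x = x * (z⁻¹ * t * z) := fun x a b => by
    calc z⁻¹ * t * z * x = z⁻¹ * (t * x) * z := by rw [mul_assoc, ← a]; group
      _ = z⁻¹ * (x * z) * z⁻¹ * t * z := by rw [b]; group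
      _ = x * (z⁻¹ * t * z) := by rw [a]; group
  have hr : r.Coprime m := (Nat.coprime_primes P.prime hm).2 (by rcases P.typ with h | h <;> omega)
  refine ⟨z⁻¹ * t * z, m, ?_, k e (cm z h6).1 (BpExc.TorChev.TT_comm hp _ ht _ S.mem),
    k f (cm z h6).2 (S.rp.comm ht fun x => by rw [h4, h4, ← hv x, repAut_apply]).symm, hm, h5, hmp, ?_, ?_⟩
  · rw [map_mul, map_mul, map_inv, h8]
    calc (y⁻¹ * z)⁻¹ * σ t * (y⁻¹ * z) = z⁻¹ * (y * σ t * y⁻¹) * z := by group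
      _ = _ := by rw [h3]
  · have h9 : t ^ m = 1 := pow_eq_one_of_cX (hp := hp) ht fun x => by
      rw [h4, ← zpow_natCast, ← zpow_mul, mul_comm, zpow_mul, zpow_natCast, hζ.pow_eq_one, one_zpow]
    have h10 := conj_pow (a := z⁻¹) (b := t) (i := m)
    rwa [inv_inv, h9, mul_one, inv_mul_cancel] at h10
  · have h9 : e * (z⁻¹ * t * z) = z⁻¹ * (e * t) * z⁻¹⁻¹ := by
      calc e * (z⁻¹ * t * z) = z⁻¹ * (z * e) * z⁻¹ * t * z := by group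
        _ = _ := by rw [← (cm z h6).1]; group
    rw [h9, dd_conj]
    exact dd_le S hr hζ ht h4 hk

end El

/-- **[El]** -/
theorem boxEl : BoxEl := by
  intro hL hC hT h63 h79 h30 D l M hp p _ hD n r d k σ g c V e f v hn hσ F hg he hf P R S hb
  have hd : BoxLt d := by
    rcases R with h | h | h
    exacts [h.2.2.2.2.1 ▸ h63, h.2.2.2.2.1 ▸ h79, h.2.2.2.2.1 ▸ h30]
  have hq : 2 ≤ p ^ n := (Fact.out : p.Prime).two_le.trans (Nat.le_self_pow hn.ne' p)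
  obtain ⟨m, hm, h5, h1⟩ := El.exists_m hq
  have hmp : m ≠ p := by
    rintro rfl
    have h2 : m ∣ m ^ n := dvd_pow_self m hn.ne'
    exact hm.one_lt.ne' (Nat.dvd_one.1 ((Nat.dvd_add_right (dvd_add (h2.pow two_ne_zero) h2)).1 h1))
  have T := fun a (ha : a ∈ Pc hp r c) => hT hC D l M hp p hD r e f v a P S.mem S.rp (S.ps ▸ ha)
  obtain ⟨w, hw, φ, h2, h3, h4⟩ := hd D l M hp r k c V v (El.WC hp p {e, f}) g (p ^ n) m R S.mat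
    (fun a ha ho => by
      obtain ⟨y, a1, w, a2, a3⟩ := (T a ha).1 ho
      exact ⟨w, ⟨y, a1, a2⟩, a3⟩)
    (fun h => by
      obtain ⟨b, b1, b2, b3, b4⟩ := hb h
      obtain ⟨y, a1, w, a2, a3⟩ := (T b b1).2 b3 b4
      exact ⟨b, b1, b2, w, ⟨y, a1, a2⟩, a3⟩)
    hg (El.g_comm F hf S.rp)
    (S.ps ▸ Cb.g_mem_Ps hσ F (Set.singleton_subset_iff.2 S.mem) (by rintro _ rfl; exact he)) hm h5 h1
  exact El.fin hL hn hσ F he hf P S hm h5 hmp hw h2 h3 h4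

end Cfsg.Agent.N2.Ex.CC
end

-- part: N2/Ex/CC/Main
section
/-!
# N2 (S3519), exceptional groups: the box `CC` (helper32)
-/

set_option autoImplicit false
set_option maxHeartbeats 400000

namespace Cfsg.Agent.N2.Ex

theorem CC.boxY : CC.BoxY := CC.boxY_of ⟨CC.boxLang, CC.boxCur, CC.boxNeg, CC.boxQA, CC.boxQB2, CC.boxQB3, CC.boxQC, CC.boxCj,
  CC.boxFr, CC.boxNf, CC.boxTw, CC.Lt79.boxLt63, CC.boxLt79, CC.boxLt30, CC.boxD30, CC.boxD24, CC.boxEl⟩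

/-- **[CC]** -/
theorem boxCC : BoxCC := CC.boxFin CC.boxY

end Cfsg.Agent.N2.Ex
end

private theorem dce_560594e8e948 : _root_.True := by
  try have : _root_.True := by simp only [_root_.Cfsg.Agent.LangThm.ev.eq_1]
  try have : _root_.True := by simp only [_root_.Cfsg.Agent.N2.Ex.CC.La.im.eq_1]
  try have : _root_.True := by simp only [_root_.Cfsg.Agent.N2.Ex.Al.ac.eq_1]
  try have : _root_.True := by simp only [_root_.Cfsg.Agent.N2.Ex.CC.Cc.eq_1]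
  try have : _root_.True := by simp only [_root_.Cfsg.Agent.LangThm.Gam.eq_1]
  exact _root_.True.intro
end
end
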